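/-
Groups with these local models are of type M(22), given the group of the common neighbours.

Main results (namespace `Cfsg.Agent.TransCentFi22.TC`):
* `type22` : a group embedded onto a component is of type M(22), given the reflection group of the common neighbours;
* `setup_h` : the component is a group of type M(22) in the sense of `Fi22Setup`;
* `class_top` : if the component group is everything, the class is a class of 3-transpositions of type M(22).
-/
import Cfsg.Agent.Lib.TransCentFi22.Centralizers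

set_option autoImplicit false

namespace Cfsg.Agent.TransCentFi22

open Cfsg.Agent.Unitary Cfsg.Agent.U62Cover Cfsg.Agent.ThreeTrans Cfsg.Agent.ThreeTransSU Cfsg.Agent.FischerM22

/-- Isomorphic groups have isomorphic central quotients. -/
theorem quot_center_congr {A B : Type*} [Group A] [Group B] (e : A ≃* B) :
    Nonempty (A ⧸ Subgroup.center A ≃* B ⧸ Subgroup.center B) := by
  refine ⟨QuotientGroup.congr _ _ e (le_antisymm ?_ fun y hy => ⟨e.symm y, ?_, e.apply_symm_apply y⟩)⟩
  · rintro _ ⟨x, hx, rfl⟩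
    refine Subgroup.mem_center_iff.2 fun y => ?_
    obtain ⟨z, rfl⟩ := e.surjective y
    show e z * e x = e x * e z
    rw [← map_mul, ← map_mul, Subgroup.mem_center_iff.1 hx z]
  · refine Subgroup.mem_center_iff.2 fun z => e.injective ?_
    rw [map_mul, map_mul, e.apply_symm_apply, Subgroup.mem_center_iff.1 hy (e z)]

/-- An injective map carries the group of a set onto the group of the image. -/
theorem closure_quot_congr {A B : Type*} [Group A] [Group B] (f : A →* B) (hf : Function.Injective f) {S : Set A}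
    {S' : Set B} (h : f '' S = S') :
    Nonempty (↥(Subgroup.closure S) ⧸ Subgroup.center ↥(Subgroup.closure S) ≃*
      ↥(Subgroup.closure S') ⧸ Subgroup.center ↥(Subgroup.closure S')) :=
  quot_center_congr (((Subgroup.closure S).equivMapOfInjective f hf).trans
    (MulEquiv.subgroupCongr (by rw [MonoidHom.map_closure, h])))

variable {G : Type*} [Group G] [Finite G] {F : Type} [Field F] [Fintype F] {D : Set G} {d : G}

/-- The reflection group on the common neighbours of two non-commuting members. -/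
def FarRefl (D : Set G) (F : Type) [Field F] [Fintype F] : Prop :=
  ∀ d c : G, d ∈ D → c ∈ D → ¬ Commute d c → (common D d c).Nonempty →
    Cfsg.IsProjReflectionGroupModThree
      (↥(Subgroup.closure (common D d c)) ⧸ Subgroup.center ↥(Subgroup.closure (common D d c))) 6 1 1

namespace TC

theorem cen_quot (T : TC D F) (hd : d ∈ D) :
    Nonempty (↥(Cen d) ⧸ Subgroup.center ↥(Cen d) ≃* Cfsg.PSU 6 F 2) := by
  obtain ⟨π, s, L, -⟩ := T.loc d hd
  have hk : π.ker = Subgroup.center ↥(Cen d) := by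
    refine le_antisymm (fun x hx => Subgroup.mem_center_iff.2 fun y => Subtype.ext ?_) fun x hx => ?_
    · rcases (L.ker x).1 hx with h | h
      · simp [h]
      · simp only [Subgroup.coe_mul, h]
        exact Subgroup.mem_centralizer_singleton_iff.1 y.2
    · exact (L.ker x).2 (T.center_cen hd hx)
  exact ⟨(QuotientGroup.quotientMulEquivOfEq hk.symm).trans
    (QuotientGroup.quotientKerEquivOfSurjective π L.surj)⟩

theorem type22 (T : TC D F) (hR : FarRefl D F) (hd : d ∈ D) {H : Type*} [Group H] (f : H →* G)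
    (hf : Function.Injective f) (E : Set H) (hE : f '' E = Wset D d) (hZ : Subgroup.center H = ⊥) :
    Cfsg.IsOfTypeM22 H E := by
  obtain ⟨c, hcW, hdc⟩ := T.exists_far hd
  obtain ⟨d', hd', ed⟩ : d ∈ f '' E := hE ▸ self_mem_w hd
  obtain ⟨c', hc', ec⟩ : c ∈ f '' E := hE ▸ hcW
  have hcomm : ∀ {x y : H}, Commute x y ↔ Commute (f x) (f y) := fun {x y} =>
    ⟨fun h => h.map f, fun h => hf (by rw [map_mul, map_mul, h.eq])⟩
  have himg : ∀ {a : H}, f a ∈ Wset D d → f '' {y : H | y ∈ E ∧ y ≠ a ∧ Commute a y} = adj D (f a) := by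
    intro a ha
    refine Set.Subset.antisymm ?_ fun y hy => ?_
    · rintro _ ⟨y, ⟨hy, hne, hay⟩, rfl⟩
      exact ⟨w_sub (hE ▸ ⟨y, hy, rfl⟩ : f y ∈ Wset D d), fun e => hne (hf e), hcomm.1 hay⟩
    · obtain ⟨x, hx, rfl⟩ : y ∈ f '' E := hE ▸ T.adj_subset_w hd ha hy
      exact ⟨x, ⟨hx, fun e => hy.2.1 (e ▸ rfl), hcomm.2 hy.2.2⟩, rfl⟩
  have h1 := himg (a := d') (ed.symm ▸ self_mem_w hd)
  have h2 := himg (a := c') (ec.symm ▸ hcW)
  rw [ed] at h1
  rw [ec] at h2
  refine ⟨hZ, d', hd', c', hc', fun h => hdc (ed ▸ ec ▸ hcomm.1 h),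
    ⟨F, inferInstance, inferInstance, T.card, ?_⟩, 1, one_ne_zero, ?_⟩
  · obtain ⟨e1⟩ := closure_quot_congr f hf h1
    obtain ⟨e2⟩ := quot_center_congr (MulEquiv.subgroupCongr (T.loc_eq hd))
    obtain ⟨e3⟩ := T.cen_quot hd
    exact ⟨(e1.trans e2).trans e3⟩
  · have h3 : f '' ({y : H | y ∈ E ∧ y ≠ d' ∧ Commute d' y} ∩ {y : H | y ∈ E ∧ y ≠ c' ∧ Commute c' y}) =
        common D d c := by rw [Set.image_inter hf, h1, h2]; rfl
    obtain ⟨e1⟩ := closure_quot_congr f hf h3
    obtain ⟨Q, hQ, hdet, ⟨i⟩⟩ := hR d c hd hcW.1 hdc (hcW.2.resolve_left hdc)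
    exact ⟨Q, hQ, hdet, ⟨e1.trans i⟩⟩

theorem setup_h (T : TC D F) (hR : FarRefl D F) (hd : d ∈ D) : Fi22Setup (DH D d) :=
  ⟨T.cls_h hd, T.cores_h hd, T.conn_h hd, T.type22 hR hd (Hsub D d).subtype (Hsub D d).subtype_injective (DH D d)
    (Set.ext fun x => ⟨by rintro ⟨y, hy, rfl⟩; exact hy, fun hx => ⟨⟨x, w_le_h hx⟩, hx, rfl⟩⟩) (T.center_h hd)⟩

theorem h_eq_top (T : TC D F) (hR : FarRefl D F) (hd : d ∈ D) : Hsub D d = ⊤ := T.h_top hd (T.setup_h hR hd)

theorem class_eq_w (T : TC D F) (hR : FarRefl D F) (hd : d ∈ D) : D = Wset D d :=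
  Set.ext fun _ => ⟨T.w_eq hd (T.setup_h hR hd), w_sub⟩

theorem closure_top (T : TC D F) (hR : FarRefl D F) (hd : d ∈ D) : Subgroup.closure D = ⊤ := by
  conv_lhs => rw [T.class_eq_w hR hd]
  exact T.h_eq_top hR hd

theorem center_top (T : TC D F) (hR : FarRefl D F) (hd : d ∈ D) : Subgroup.center G = ⊥ := by
  refine eq_bot_iff.2 fun z hz => ?_
  have hzH : z ∈ Hsub D d := T.h_eq_top hR hd ▸ Subgroup.mem_top z
  have h : (⟨z, hzH⟩ : ↥(Hsub D d)) ∈ Subgroup.center ↥(Hsub D d) :=
    Subgroup.mem_center_iff.2 fun y => Subtype.ext (Subgroup.mem_center_iff.1 hz y)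
  rw [T.center_h hd, Subgroup.mem_bot] at h
  exact Subgroup.mem_bot.2 (congrArg Subtype.val h)

theorem class_top (T : TC D F) (hR : FarRefl D F) (hd : d ∈ D) :
    Cfsg.IsThreeTranspositionClass D ∧ Cfsg.IsOfTypeM22 G D := by
  have hW := T.class_eq_w hR hd
  refine ⟨⟨⟨fun x hx => T.order hx, fun x hx y hy => ?_⟩, ⟨d, hd, ?_⟩, T.closure_top hR hd⟩,
    T.type22 hR hd (MonoidHom.id G) Function.injective_id D (by rw [MonoidHom.coe_id, Set.image_id]; exact hW)
      (T.center_top hR hd)⟩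
  · by_cases h : Commute x y
    · refine Or.inl ?_
      rw [h.mul_pow, pow_two, pow_two, T.sq hx, T.sq hy, one_mul]
    · refine Or.inr ?_
      calc (x * y) ^ 3 = (x * y * x) * (y * x * y) := by simp only [pow_succ, pow_zero, one_mul, mul_assoc]
        _ = (y * x * y) * (y * x * y) := by rw [T.w_braid hd (hW ▸ hx) (hW ▸ hy) h]
        _ = 1 := by simp only [mul_assoc, invol_cancel (T.sq hy), invol_cancel (T.sq hx), T.sq hy]
  · ext x
    exact ⟨fun hx => isConj_iff.2 (T.cls d hd x hx), fun hx => by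
      obtain ⟨g, rfl⟩ := isConj_iff.1 hx; exact T.conj g d hd⟩

end TC

end Cfsg.Agent.TransCentFi22
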