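/-
The class of the given involution, and the presented group.

Main results (namespace `Cfsg.Agent.TransCentFi22`):
* `start` : the hypotheses of the recognition theorems give the local models;
* `TC.iso_fi22` : a group with these local models is the presented Fischer group, given the reflection table.
-/
import Cfsg.Agent.Lib.TransCentFi22.Setup
import Cfsg.Agent.Lib.FischerM22.Iso

set_option autoImplicit false

namespace Cfsg.Agent.TransCentFi22

open Cfsg.Agent.Unitary Cfsg.Agent.U62Cover Cfsg.Agent.ThreeTrans Cfsg.Agent.ThreeTransSU Cfsg.Agent.FischerM22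

variable {G : Type*} [Group G] [Finite G]

theorem start (d : G) (hd : orderOf d = 2) (hq : Cfsg.IsQuasisimple (Subgroup.centralizer ({d} : Set G)))
    [((Subgroup.zpowers d).subgroupOf (Subgroup.centralizer ({d} : Set G))).Normal]
    (K : Type) [Field K] [Fintype K] (hK : Fintype.card K = 4)
    (e : (Subgroup.centralizer ({d} : Set G)) ⧸ (Subgroup.zpowers d).subgroupOf (Subgroup.centralizer ({d} : Set G)) ≃*
      Cfsg.PSU 6 K 2)
    (hnwc : ∃ g : G, g * d * g⁻¹ ∈ Subgroup.centralizer ({d} : Set G) ∧ g * d * g⁻¹ ≠ d) :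
    TC (conjugatesOf d) K ∧ d ∈ conjugatesOf d :=
  ⟨exists_tc d hd hK hq.1.commutator_eq_top e hnwc, mem_conjugatesOf_self⟩

theorem TC.iso_fi22 {F : Type} [Field F] [Fintype F] {D : Set G} {d : G} (T : TC D F) (hR : FarRefl D F)
    (hd : d ∈ D) : Cfsg.Spor.IsoFi22 G := by
  obtain ⟨e⟩ := Cfsg.Agent.FischerM22.iso_fi22 (T.setup_h hR hd)
  exact ⟨(Subgroup.topEquiv.symm.trans (MulEquiv.subgroupCongr (T.h_eq_top hR hd).symm)).trans e⟩

end Cfsg.Agent.TransCentFi22
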