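/-
The conjugates of `d` in its centraliser: besides `d` they form one class of transvection lifts, `d * s`.

Main result (namespace `Cfsg.Agent.TransCentFi22.DLocal`): `member_iff`.

In the centraliser of a member `p` the members `q` with `p * q` outside the class are transvection lifts; three or
four of them pairwise commuting and distinct never multiply into the kernel, which excludes the lifts of rank
three and decides between the two classes of transvection lifts.
-/
import Cfsg.Agent.Lib.TransCentFi22.Squares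

set_option autoImplicit false

namespace Cfsg.Agent.TransCentFi22

open Cfsg.Agent.Unitary Cfsg.Agent.U62Cover Cfsg.Agent.ThreeTransSU Cfsg.Agent.FischerM22 Cfsg.Agent.ThreeTrans

variable {G : Type*} [Group G] {F : Type*} [Field F] [Fintype F]
  {d : G} {π : ↥(Cen d) →* Cfsg.PSU 6 F 2} {s : (Fin 6 → F) → G}

theorem conj_mem_conjugates {a : G} (g : G) (ha : a ∈ conjugatesOf d) : g * a * g⁻¹ ∈ conjugatesOf d :=
  IsConj.trans ha (isConj_iff.2 ⟨g, rfl⟩)

theorem member_sq (L : DLocal d π s) {a : G} (ha : a ∈ conjugatesOf d) : a * a = 1 := by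
  obtain ⟨g, rfl⟩ := isConj_iff.1 ha
  rw [show g * d * g⁻¹ * (g * d * g⁻¹) = g * (d * d) * g⁻¹ by group, L.d_sq, mul_one, mul_inv_cancel]

theorem member_ne_one (L : DLocal d π s) {a : G} (ha : a ∈ conjugatesOf d) : a ≠ 1 := fun h => by
  obtain ⟨g, rfl⟩ := isConj_iff.1 ha
  exact L.d_ne (conj_eq_one_iff.1 h)

/-- A central involution of SU(6,2) is trivial, in the form used for products of transvections. -/
theorem sum_eq_zero_of_prod (hF : Fintype.card F = 4) (L : List (Fin 6 → F))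
    (hL : ∀ p ∈ L, ∀ q ∈ L, hf p q = 0) (hz : toPSU 6 F (L.map (tv hF)).prod = 1) (x : Fin 6 → F) :
    (L.map fun v => hf x v • v).sum = 0 := by
  have hsq : ∀ M : List (Fin 6 → F), (∀ p ∈ M, ∀ q ∈ M, hf p q = 0) →
      (M.map (tv hF)).prod * (M.map (tv hF)).prod = 1 := by
    intro M
    induction M with
    | nil => simp
    | cons v M ih =>
      intro h
      have hc : Commute (tv hF v) (M.map (tv hF)).prod := list_prod_comm hF (h v (by simp) v (by simp))
        fun w hw => ⟨h w (by simp [hw]) w (by simp [hw]), h w (by simp [hw]) v (by simp)⟩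
      rw [List.map_cons, List.prod_cons, hc.symm.mul_mul_mul_comm, tv_sq hF (h v (by simp) v (by simp)),
        ih fun p hp q hq => h p (by simp [hp]) q (by simp [hq]), one_mul]
  have h1 := center_cube hF (by norm_num) (toPSU_eq_one.1 hz)
  rw [pow_succ, pow_two, hsq L hL, one_mul] at h1
  have h2 := act_list_tv hF L hL x
  rw [h1, act_one] at h2
  exact add_eq_left.1 h2.symm

/-- Three pairwise commuting transvections of distinct centres do not multiply to one. -/
theorem no_three (hF : Fintype.card F = 4) {u v w : Fin 6 → F} (huv : OrthPair u v) (huw : OrthPair u w)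
    (hvw : OrthPair v w) : toPSU 6 F ([u, v, w].map (tv hF)).prod ≠ 1 := by
  intro hz
  obtain ⟨x, hx⟩ := exists_dual hF huv.li ![1, 0]
  have h1 := sum_eq_zero_of_prod hF [u, v, w] (fun p hp q hq => by
    have a1 := (hf_eq_zero_symm hF).1 huv.2.2.1
    have a2 := (hf_eq_zero_symm hF).1 huw.2.2.1
    have a3 := (hf_eq_zero_symm hF).1 hvw.2.2.1
    simp only [List.mem_cons, List.not_mem_nil, or_false] at hp hq
    rcases hp with rfl | rfl | rfl <;> rcases hq with rfl | rfl | rfl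
    exacts [huv.1.2, huv.2.2.1, huw.2.2.1, a1, huv.2.1.2, hvw.2.2.1, a2, a3, huw.2.1.2]) hz x
  simp only [List.map_cons, List.map_nil, List.sum_cons, List.sum_nil, add_zero,
    show hf x u = 1 from hx 0, show hf x v = 0 from hx 1, one_smul, zero_smul, zero_add] at h1
  exact (huw.symm hF).2.2.2 (-(hf x w)) (by rw [neg_smul]; exact eq_neg_of_add_eq_zero_left h1)

/-- Four pairwise commuting transvections of distinct centres do not multiply to one. -/
theorem no_four (hF : Fintype.card F = 4) {v : Fin 4 → (Fin 6 → F)} (hv : ∀ i j, i ≠ j → OrthPair (v i) (v j)) :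
    toPSU 6 F ((List.ofFn v).map (tv hF)).prod ≠ 1 := by
  intro hz
  have hsum := sum_eq_zero_of_prod hF (List.ofFn v) (fun p hp q hq => by
    obtain ⟨i, rfl⟩ := List.mem_ofFn.1 hp
    obtain ⟨j, rfl⟩ := List.mem_ofFn.1 hq
    by_cases h : i = j
    · subst h
      exact (hv i (i + 1) ((show ∀ i : Fin 4, i ≠ i + 1 by decide) i)).1.2
    · exact (hv i j h).2.2.1) hz
  have hsum' : ∀ x, hf x (v 0) • v 0 + hf x (v 1) • v 1 + hf x (v 2) • v 2 + hf x (v 3) • v 3 = 0 := fun x => by
    simpa [List.ofFn_succ, List.sum_cons, add_assoc] using hsum x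
  have key : ∀ i j, (i = 2 ∧ j = 3 ∨ i = 3 ∧ j = 2) → ∃ a b : F, v i = a • v 0 + b • v 1 := by
    intro i j hij
    by_contra hcon
    have hli : LinearIndependent F ![v 0, v 1, v i] := by
      refine Fintype.linearIndependent_iff.2 fun g hg k => ?_
      rw [Fin.sum_univ_three] at hg
      have hg' : g 0 • v 0 + g 1 • v 1 + g 2 • v i = 0 := by simpa using hg
      by_cases h2 : g 2 = 0
      · rw [h2, zero_smul, add_zero] at hg'
        obtain ⟨h0, h1⟩ := LinearIndependent.pair_iff.1 (hv 0 1 (by decide)).li _ _ hg'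
        fin_cases k
        exacts [h0, h1, h2]
      · refine absurd ⟨-((g 2)⁻¹ * g 0), -((g 2)⁻¹ * g 1), ?_⟩ hcon
        have h1 := congrArg (fun z => (g 2)⁻¹ • z) hg'
        simp only [smul_add, smul_smul, inv_mul_cancel₀ h2, one_smul, smul_zero] at h1
        rw [eq_neg_of_add_eq_zero_right h1, neg_add, neg_smul, neg_smul]
    obtain ⟨x, hx⟩ := exists_dual hF hli ![0, 0, 1]
    have h0 : hf x (v 0) = 0 := hx 0
    have h1 : hf x (v 1) = 0 := hx 1
    have h2 : hf x (v i) = 1 := hx 2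
    have h3 := hsum' x
    rw [h0, h1, zero_smul, zero_smul, zero_add, zero_add] at h3
    rcases hij with ⟨rfl, rfl⟩ | ⟨rfl, rfl⟩
    · rw [h2, one_smul] at h3
      exact (hv 3 2 (by decide)).2.2.2 (-(hf x (v 3))) (by rw [neg_smul]; exact eq_neg_of_add_eq_zero_left h3)
    · rw [h2, one_smul] at h3
      exact (hv 2 3 (by decide)).2.2.2 (-(hf x (v 2))) (by rw [neg_smul]; exact eq_neg_of_add_eq_zero_right h3)
  obtain ⟨a, b, h2⟩ := key 2 3 (Or.inl ⟨rfl, rfl⟩)
  obtain ⟨c, e, h3⟩ := key 3 2 (Or.inr ⟨rfl, rfl⟩)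
  obtain ⟨x, hx⟩ := exists_dual hF (hv 0 1 (by decide)).li ![1, 0]
  have h0 : hf x (v 0) = 1 := hx 0
  have h1 : hf x (v 1) = 0 := hx 1
  have ha : a ≠ 0 := fun h => (hv 1 2 (by decide)).2.2.2 b (by rw [h2, h]; simp)
  have hc : c ≠ 0 := fun h => (hv 1 3 (by decide)).2.2.2 e (by rw [h3, h]; simp)
  have h4 := hsum' x
  simp only [h2, h3, hf_add_right hF, hf_smul_right hF, h0, h1, mul_one, mul_zero, add_zero, one_smul, zero_smul,
    smul_add, smul_smul] at h4
  obtain ⟨h5, -⟩ := LinearIndependent.pair_iff.1 (hv 0 1 (by decide)).li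
    (1 + a ^ 2 * a + c ^ 2 * c) (a ^ 2 * b + c ^ 2 * e) (by
      rw [← h4]; simp only [add_smul, one_smul]; abel)
  rw [← pow_succ, ← pow_succ, U62Cover.pow_three hF ha, U62Cover.pow_three hF hc] at h5
  exact one_ne_zero (show (1 : F) = 0 by linear_combination h5 - two_eq_zero hF)

namespace DLocal

/-- A member in the centraliser of `d` lifts a transvection or a frame. -/
theorem member_shape (L : DLocal d π s) {x : G} (hx : x ∈ adj (conjugatesOf d) d) :
    (∃ v, Iso v ∧ (x = s v ∨ x = d * s v)) ∨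
      ∃ a b c, Plane a b c ∧ (x = s a * s b * s c ∨ x = d * (s a * s b * s c)) := by
  obtain ⟨hD, hne, hc⟩ := hx
  have hF := L.card
  have hmem : x ∈ Cen d := Subgroup.mem_centralizer_singleton_iff.2 hc.symm.eq
  have h1 : π ⟨x, hmem⟩ * π ⟨x, hmem⟩ = 1 := by
    rw [← map_mul, ← map_one π]
    exact congrArg π (Subtype.ext (member_sq L hD))
  obtain ⟨g, hg, hgx⟩ := exists_lift_involution hF (by norm_num) h1
  obtain ⟨m, u, hli, horth, hprod⟩ := exists_indep hF g hg
  have hI : ∀ i, Iso (u i) := fun i => ⟨hli.ne_zero i, horth i i⟩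
  have hm := two_mul_le hF hli horth
  have hπ : ∀ i (h : s (u i) ∈ Cen d), π ⟨s (u i), h⟩ = toPSU 6 F (tv hF (u i)) := fun i => L.image _ (hI i)
  rcases (show m = 0 ∨ m = 1 ∨ m = 2 ∨ m = 3 by omega) with rfl | rfl | rfl | rfl
  · exfalso
    rcases (L.ker ⟨x, hmem⟩).1 (by rw [← hgx, hprod]; simp) with h | h
    exacts [member_ne_one L hD h, hne h]
  · refine Or.inl ⟨u 0, hI 0, L.eq_or_eq (x := ⟨x, hmem⟩) (y := ⟨s (u 0), L.mem _ (hI 0)⟩) ?_⟩
    rw [← hgx, hprod, hπ]; simp
  · have hP : OrthPair (u 0) (u 1) := ⟨hI 0, hI 1, horth 0 1, fun c e => by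
      have h := Fintype.linearIndependent_iff.1 hli ![c, -1] (by simp [e]) 1
      simp at h⟩
    exfalso
    rcases L.eq_or_eq (x := ⟨x, hmem⟩) (y := ⟨s (u 0), L.mem _ (hI 0)⟩ * ⟨s (u 1), L.mem _ (hI 1)⟩)
      (by rw [← hgx, hprod, map_mul, hπ, hπ, ← map_mul]; simp) with h | h
    · exact L.not_isSquare_member hD ((show x = s (u 0) * s (u 1) from h) ▸ (L.pair_isSquare hP).1)
    · exact L.not_isSquare_member hD ((show x = d * (s (u 0) * s (u 1)) from h) ▸ (L.pair_isSquare hP).2)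
  · refine Or.inr ⟨u 0, u 1, u 2, ⟨hI 0, hI 1, hI 2, horth 0 1, horth 0 2, horth 1 2, fun a b c e => ?_⟩,
      L.eq_or_eq (x := ⟨x, hmem⟩) (y := ⟨s (u 0), L.mem _ (hI 0)⟩ * ⟨s (u 1), L.mem _ (hI 1)⟩ * ⟨s (u 2), L.mem _ (hI 2)⟩) ?_⟩
    · have h := Fintype.linearIndependent_iff.1 hli ![a, b, c] (by simpa [Fin.sum_univ_three] using e)
      exact ⟨h 0, h 1, h 2⟩
    · rw [← hgx, hprod, map_mul, map_mul, hπ, hπ, hπ, ← map_mul, ← map_mul]
      simp [mul_assoc]

/-- The conjugates of `d` in its centraliser. -/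
theorem member_iff (L : DLocal d π s) (hne : (adj (conjugatesOf d) d).Nonempty) (x : G) :
    x ∈ adj (conjugatesOf d) d ↔ ∃ v, Iso v ∧ x = d * s v := by
  classical
  have hF := L.card
  set D := conjugatesOf d with hDdef
  have hdD : d ∈ D := mem_conjugatesOf_self
  -- transitivity inside the centraliser
  have hTall : ∀ {a b c a' b' c' : Fin 6 → F}, Plane a b c → Plane a' b' c' →
      (s a * s b * s c ∈ D ∨ d * (s a * s b * s c) ∈ D) →
      s a' * s b' * s c' ∈ D ∧ d * (s a' * s b' * s c') ∈ D := by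
    intro a b c a' b' c' hP hP' h
    have hone : s a * s b * s c ∈ D := by
      rcases h with h | h
      · exact h
      obtain ⟨y, hy⟩ := L.triple_fused hP
      have h' := conj_mem_conjugates (y : G)⁻¹ h
      rw [← hy] at h'
      simpa [mul_assoc] using h'
    obtain ⟨y, hy⟩ := L.exists_triple_conj hP hP'
    have h1 : s a' * s b' * s c' ∈ D := hy ▸ conj_mem_conjugates (y : G) hone
    obtain ⟨z, hz⟩ := L.triple_fused hP'
    exact ⟨h1, hz ▸ conj_mem_conjugates (z : G) h1⟩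
  have hSall : ∀ ε : G, (ε = 1 ∨ ε = d) → ∀ {v w : Fin 6 → F}, Iso v → Iso w → ε * s v ∈ D → ε * s w ∈ D := by
    intro ε hε v w hv hw h
    obtain ⟨g, hg⟩ := exists_act hF (by norm_num) hv hw
    obtain ⟨y, hy⟩ := L.exists_elt g
    have hyε : (y : G) * ε * (y : G)⁻¹ = ε := by
      rcases hε with rfl | rfl
      · simp
      · exact L.conj_d y
    have h' := conj_mem_conjugates (y : G) h
    rwa [show (y : G) * (ε * s v) * (y : G)⁻¹ = ((y : G) * ε * (y : G)⁻¹) * ((y : G) * s v * (y : G)⁻¹) by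
      group, hyε, hy v hv, hg] at h'
  have hps : ∀ {a b}, OrthPair a b → s a * s b ∉ D ∧ d * (s a * s b) ∉ D := fun h =>
    ⟨fun h' => L.not_isSquare_member h' (L.pair_isSquare h).1,
      fun h' => L.not_isSquare_member h' (L.pair_isSquare h).2⟩
  -- some member `x` has `d * x` outside
  obtain ⟨x₀, hx₀, hdx₀⟩ : ∃ x ∈ adj D d, d * x ∉ D := by
    by_contra hcon
    have hQ : ∀ x ∈ adj D d, d * x ∈ D := fun x hx => by_contra fun h => hcon ⟨x, hx, h⟩
    have hpq : ∀ p ∈ D, ∀ q ∈ D, p ≠ q → Commute p q → p * q ∈ D := by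
      intro p hp q hq hne' hc
      obtain ⟨g, rfl⟩ := isConj_iff.1 hp
      have hc' := hc.map (MulAut.conj g⁻¹).toMonoidHom
      simp only [MulEquiv.coe_toMonoidHom, MulAut.conj_apply, inv_inv] at hc'
      rw [show g⁻¹ * (g * d * g⁻¹) * g = d by group] at hc'
      have h := conj_mem_conjugates g (hQ (g⁻¹ * q * g)
        ⟨by simpa using conj_mem_conjugates g⁻¹ hq, fun e => hne' (by rw [← e]; group), hc'⟩)
      rwa [show g * (d * (g⁻¹ * q * g)) * g⁻¹ = g * d * g⁻¹ * q by group] at h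
    obtain ⟨x, hx⟩ := hne
    rcases L.member_shape hx with ⟨v, hv, hxv⟩ | ⟨a, b, c, hP, hxT⟩
    · have hs1 : s v ∈ D := by
        rcases hxv with rfl | rfl
        · exact hx.1
        · have := hQ _ hx
          rwa [← mul_assoc, L.d_sq, one_mul] at this
      have h0 := U62Mult.orthPair_std (F := F) hF
      have hm : ∀ {w}, Iso w → s w ∈ D := fun {w} hw => by
        simpa using hSall 1 (Or.inl rfl) hv hw (by simpa using hs1)
      refine (hps h0).1 (hpq _ (hm h0.1) _ (hm h0.2.1) (fun e => ?_)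
        (L.commute h0.1 h0.2.1 ((hf_eq_zero_symm hF).1 h0.2.2.1)))
      obtain ⟨k, -, hk⟩ := L.inj h0.1 h0.2.1 (Or.inl e)
      exact h0.2.2.2 k hk
    · have hxT' : s a * s b * s c ∈ D ∨ d * (s a * s b * s c) ∈ D :=
        hxT.imp (fun h => by rw [← h]; exact hx.1) (fun h => by rw [← h]; exact hx.1)
      have hP' : Plane a (a + b) c := by
        have := hP.of_comb hF (a := 1) (b := 0) (c := 0) (a' := 1) (b' := 1) (c' := 0)
          (a'' := 0) (b'' := 0) (c'' := 1) (by simp)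
        simpa [comb] using this
      obtain ⟨h1, -⟩ := hTall hP hP hxT'
      obtain ⟨h2, -⟩ := hTall hP hP' hxT'
      have hab := L.commute hP.iu hP.iv ((hf_eq_zero_symm hF).1 hP.uv)
      have hac := L.commute hP.iu hP.iw ((hf_eq_zero_symm hF).1 hP.uw)
      have hac' := L.commute hP'.iv hP.iw ((hf_eq_zero_symm hF).1 hP'.vw)
      have haa' := L.commute hP.iu hP'.iv ((hf_eq_zero_symm hF).1 hP'.uv)
      have hbc := L.commute hP.iv hP.iw ((hf_eq_zero_symm hF).1 hP.vw)
      have hpair : OrthPair b (a + b) :=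
        ⟨hP.iv, hP'.iv, by rw [hf_add_right hF, hP.iv.2, (hf_eq_zero_symm hF).1 hP.uv, add_zero],
          fun k e => by
            obtain ⟨h, -, -⟩ := hP.li 1 (1 - k) 0 (by rw [sub_smul, one_smul, one_smul, ← e]; simp)
            exact one_ne_zero h⟩
      have hprod : s a * s b * s c * (s a * s (a + b) * s c) = s b * s (a + b) := by
        rw [(hac.mul_left hac').symm.mul_mul_mul_comm, L.sq c hP.iw, mul_one, hab.eq]
        simp only [mul_assoc, invol_cancel (L.sq a hP.iu)]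
      have hcomm : Commute (s a * s b * s c) (s a * s (a + b) * s c) := by
        have hbb := L.commute hP.iv hP'.iv ((hf_eq_zero_symm hF).1 hpair.2.2.1)
        exact ((((Commute.refl _).mul_right haa').mul_right hac).mul_left
          ((hab.symm.mul_right hbb).mul_right hbc)).mul_left ((hac.symm.mul_right hac'.symm).mul_right (Commute.refl _))
      refine (hps hpair).1 (hprod ▸ hpq _ h1 _ h2 (fun e => ?_) hcomm)
      have h3 : s b * s (a + b) = 1 := by rw [← hprod, ← e, member_sq L h1]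
      obtain ⟨k, -, hk⟩ := L.inj hpair.1 hpair.2.1 (Or.inl ((mul_eq_one_iff_eq_inv.1 h3).trans (L.s_inv hpair.2.1)))
      exact hpair.2.2.2 k hk
  obtain ⟨ε, hε, v₀, hv₀, rfl⟩ : ∃ ε, (ε = 1 ∨ ε = d) ∧ ∃ v, Iso v ∧ x₀ = ε * s v := by
    rcases L.member_shape hx₀ with ⟨v, hv, h | h⟩ | ⟨a, b, c, hP, h⟩
    · exact ⟨1, Or.inl rfl, v, hv, by rw [h, one_mul]⟩
    · exact ⟨d, Or.inr rfl, v, hv, h⟩
    · exfalso
      obtain ⟨h1, h2⟩ := hTall hP hP (h.imp (fun h => by rw [← h]; exact hx₀.1) (fun h => by rw [← h]; exact hx₀.1))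
      rcases h with h | h
      · exact hdx₀ (h ▸ h2)
      · refine hdx₀ ?_
        rwa [h, ← mul_assoc, L.d_sq, one_mul]
  have hεC : ε ∈ Cen d := by rcases hε with rfl | rfl; exacts [one_mem _, L.d_mem]
  have hεc : ∀ {y}, y ∈ Cen d → Commute ε y := fun hy => by
    rcases hε with rfl | rfl; exacts [Commute.one_left _, L.d_comm hy]
  have hεsq : ε * ε = 1 := by rcases hε with rfl | rfl; exacts [one_mul 1, L.d_sq]
  have hεπ : π ⟨ε, hεC⟩ = 1 := (L.ker _).2 hε
  have hrD : ∀ {v}, Iso v → ε * s v ∈ D := fun hv => hSall ε hε hv₀ hv hx₀.1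
  have hdrD : ∀ {v}, Iso v → d * (ε * s v) ∉ D := by
    intro v hv h
    refine hdx₀ ?_
    rcases hε with rfl | rfl
    · rw [one_mul] at h ⊢
      exact hSall d (Or.inr rfl) hv hv₀ h
    · rw [← mul_assoc, L.d_sq] at h ⊢
      exact hSall 1 (Or.inl rfl) hv hv₀ h
  have hrne : ∀ {v}, Iso v → ε * s v ≠ d := by
    intro v hv h
    have h0 : π ⟨s v, L.mem v hv⟩ = 1 := by
      have h1 : π (⟨ε, hεC⟩ * ⟨s v, L.mem v hv⟩) = 1 := (L.ker _).2 (Or.inr h)
      rwa [map_mul, hεπ, one_mul] at h1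
    rw [L.image v hv] at h0
    have h2 := center_cube hF (by norm_num) (toPSU_eq_one.1 h0)
    rw [pow_succ, pow_two, tv_sq hF hv.2, one_mul] at h2
    exact tv_ne_one hF hv h2
  -- members related to a given one as transvection lifts
  have htrans : ∀ (p : G), p ∈ D → ∃ h : G, h * p * h⁻¹ = d ∧
      ∀ m ∈ D, Commute p m → m ≠ p → p * m ∉ D → ∃ v, Iso v ∧ h * m * h⁻¹ = ε * s v := by
    intro p hp
    obtain ⟨g, rfl⟩ := isConj_iff.1 hp
    refine ⟨g⁻¹, by group, fun m hm hc hmp hpm => ?_⟩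
    have hc' := hc.map (MulAut.conj g⁻¹).toMonoidHom
    simp only [MulEquiv.coe_toMonoidHom, MulAut.conj_apply, inv_inv] at hc'
    rw [show g⁻¹ * (g * d * g⁻¹) * g = d by group] at hc'
    have hy : g⁻¹ * m * g ∈ adj D d :=
      ⟨by simpa using conj_mem_conjugates g⁻¹ hm, fun e => hmp (by rw [← e]; group), hc'⟩
    have hdy : d * (g⁻¹ * m * g) ∉ D := fun h => hpm (by
      have := conj_mem_conjugates g h
      rwa [show g * (d * (g⁻¹ * m * g)) * g⁻¹ = g * d * g⁻¹ * m by group] at this)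
    rw [inv_inv]
    rcases L.member_shape hy with ⟨v, hv, h⟩ | ⟨a, b, c, hP, h⟩
    · refine ⟨v, hv, ?_⟩
      by_contra hne'
      refine hdrD hv ?_
      have hmem := hy.1
      rcases hε with rfl | rfl <;> rcases h with h | h <;>
        first
          | exact absurd (by simpa using h) hne'
          | (rw [h] at hmem; simpa [← mul_assoc, L.d_sq] using hmem)
    · exfalso
      obtain ⟨h1, h2⟩ := hTall hP hP (h.imp (fun h => by rw [← h]; exact hy.1) (fun h => by rw [← h]; exact hy.1))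
      rcases h with h | h
      · exact hdy (h ▸ h2)
      · refine hdy ?_
        rwa [h, ← mul_assoc, L.d_sq, one_mul]
  have hpair : ∀ {u v : Fin 6 → F}, Iso u → Iso v → ε * s u ≠ ε * s v →
      Commute (ε * s u) (ε * s v) → OrthPair u v := by
    intro u v hu hv hne' hc
    refine ⟨hu, hv, (L.commute_iff hu hv).1 ?_, fun c e => hne' ?_⟩
    · have h := hc.eq
      rw [mul_assoc ε (s u), ← mul_assoc (s u), ← (hεc (L.mem u hu)).eq, mul_assoc ε (s u), ← mul_assoc ε ε,
        hεsq, one_mul, mul_assoc ε (s v), ← mul_assoc (s v), ← (hεc (L.mem v hv)).eq, mul_assoc ε (s v),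
        ← mul_assoc ε ε, hεsq, one_mul] at h
      exact h
    · have hc0 : c ≠ 0 := fun h0 => hv.1 (by rw [e, h0, zero_smul])
      rw [e, L.smul u c hu hc0]
  have hπr : ∀ {v} (hv : Iso v) (h : ε * s v ∈ Cen d), π ⟨ε * s v, h⟩ = toPSU 6 F (tv hF v) := fun {v} hv h => by
    rw [show (⟨ε * s v, h⟩ : ↥(Cen d)) = ⟨ε, hεC⟩ * ⟨s v, L.mem v hv⟩ from rfl, map_mul, hεπ, one_mul,
      L.image v hv]
  have hconj : ∀ {h a b : G}, Commute a b → Commute (h * a * h⁻¹) (h * b * h⁻¹) := fun {h a b} hc => by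
    simpa using hc.map (MulAut.conj h).toMonoidHom
  -- no member lifts a frame
  have hnoT : ∀ {a b c : Fin 6 → F}, Plane a b c → ¬ (s a * s b * s c ∈ D ∨ d * (s a * s b * s c) ∈ D) := by
    intro a b c hP hT
    obtain ⟨h1, h2⟩ := hTall hP hP hT
    have ha := L.mem a hP.iu
    have hT' : s a * s b * s c ∈ Cen d := mul_mem (mul_mem ha (L.mem b hP.iv)) (L.mem c hP.iw)
    have hab := L.commute hP.iu hP.iv ((hf_eq_zero_symm hF).1 hP.uv)
    have hac := L.commute hP.iu hP.iw ((hf_eq_zero_symm hF).1 hP.uw)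
    have hcT : Commute (ε * s a) (s a * s b * s c) :=
      (hεc hT').mul_left (((Commute.refl _).mul_right hab).mul_right hac)
    have hcd : Commute (ε * s a) d := (L.d_comm (mul_mem hεC ha)).symm
    have hbc : OrthPair b c := (hP.rotate hF).orthPair
    have e1 : ε * s a * (s a * s b * s c) = ε * (s b * s c) := by
      rw [mul_assoc ε, ← mul_assoc (s a), ← mul_assoc (s a), L.sq a hP.iu, one_mul]
    obtain ⟨h, hh, hm⟩ := htrans _ (hrD hP.iu)
    obtain ⟨v1, hv1, e_d⟩ := hm d hdD hcd (fun e => hrne hP.iu e.symm) fun h' => hdrD hP.iu (by rwa [hcd.eq] at h')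
    obtain ⟨v2, hv2, e_T⟩ := hm _ h1 hcT (fun e => hdrD hP.iu (by rw [← e]; exact h2)) (by
      rw [e1]
      rcases hε with rfl | rfl
      · rw [one_mul]; exact (hps hbc).1
      · exact (hps hbc).2)
    obtain ⟨v3, hv3, e_dT⟩ := hm _ h2 (hcd.mul_right hcT) (fun e => by
        refine hdrD hP.iu ?_
        rw [← e, ← mul_assoc, L.d_sq, one_mul]; exact h1) (by
      rw [← mul_assoc, hcd.eq, mul_assoc, e1]
      rcases hε with rfl | rfl
      · rw [one_mul]; exact (hps hbc).2
      · rw [← mul_assoc, L.d_sq, one_mul]; exact (hps hbc).1)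
    have hinj : ∀ {m m'}, h * m * h⁻¹ = h * m' * h⁻¹ → m = m' := fun e => mul_left_cancel (mul_right_cancel e)
    have hne1 : d ≠ s a * s b * s c := fun e => member_ne_one L h2 (by rw [← e, L.d_sq])
    have hne2 : d ≠ d * (s a * s b * s c) := fun e => member_ne_one L h1 (mul_eq_left.1 e.symm)
    have hne3 : s a * s b * s c ≠ d * (s a * s b * s c) := fun e => L.d_ne (mul_eq_right.1 e.symm)
    have hdT : Commute d (s a * s b * s c) := L.d_comm hT'
    refine no_three hF (hpair hv1 hv2 (by rw [← e_d, ← e_T]; exact fun e => hne1 (hinj e))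
        (by rw [← e_d, ← e_T]; exact hconj hdT))
      (hpair hv1 hv3 (by rw [← e_d, ← e_dT]; exact fun e => hne2 (hinj e))
        (by rw [← e_d, ← e_dT]; exact hconj ((Commute.refl d).mul_right hdT)))
      (hpair hv2 hv3 (by rw [← e_T, ← e_dT]; exact fun e => hne3 (hinj e))
        (by rw [← e_T, ← e_dT]; exact hconj (hdT.symm.mul_right (Commute.refl _)))) ?_
    have hm1 : ∀ {v}, Iso v → ε * s v ∈ Cen d := fun hv => mul_mem hεC (L.mem _ hv)
    have e4 : (ε * s v1) * ((ε * s v2) * (ε * s v3)) = 1 := by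
      rw [← e_d, ← e_T, ← e_dT,
        show h * d * h⁻¹ * (h * (s a * s b * s c) * h⁻¹ * (h * (d * (s a * s b * s c)) * h⁻¹))
          = h * (d * ((s a * s b * s c) * d * (s a * s b * s c))) * h⁻¹ by group,
        ← hdT.eq, mul_assoc d (s a * s b * s c), member_sq L h1, mul_one, L.d_sq, mul_one, mul_inv_cancel]
    have e5 := congrArg π (show (⟨_, hm1 hv1⟩ : ↥(Cen d)) * (⟨_, hm1 hv2⟩ * ⟨_, hm1 hv3⟩) = 1 from Subtype.ext e4)
    rw [map_mul, map_mul, map_one, hπr hv1, hπr hv2, hπr hv3] at e5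
    simpa using e5
  -- the class of the section
  have hεd : ε = d := by
    refine hε.resolve_left fun h1 => ?_
    subst h1
    obtain ⟨ω, -, hω⟩ := exists_omega hF
    have h0 := U62Mult.orthPair_std (F := F) hF
    have hl := L.line ω _ _ hω h0
    set u : Fin 6 → F := p1
    set w : Fin 6 → F := p2
    simp only [linePts, List.map_cons, List.map_nil, List.prod_cons, List.prod_nil, mul_one] at hl
    obtain ⟨h, hh, hm⟩ := htrans _ (hrD h0.1)
    have hq : ∀ a : F, OrthPair u (u + a • w) → ∃ v, Iso v ∧ h * s (u + a • w) * h⁻¹ = 1 * s v ∧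
        Commute (s u) (s (u + a • w)) := by
      intro a hp
      have hc := L.commute hp.1 hp.2.1 ((hf_eq_zero_symm hF).1 hp.2.2.1)
      obtain ⟨v, hv, e⟩ := hm (1 * s (u + a • w)) (hrD hp.2.1) (by simpa using hc) (fun e => by
        obtain ⟨k, -, hk⟩ := L.inj hp.1 hp.2.1 (Or.inl (by simpa using e.symm))
        exact hp.2.2.2 k hk) (by simpa using (hps hp).1)
      exact ⟨v, hv, by simpa using e, hc⟩
    have hw' : ∃ v, Iso v ∧ h * s w * h⁻¹ = 1 * s v := by
      obtain ⟨v, hv, e⟩ := hm (1 * s w) (hrD h0.2.1)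
        (by simpa using L.commute h0.1 h0.2.1 ((hf_eq_zero_symm hF).1 h0.2.2.1)) (fun e => by
          obtain ⟨k, -, hk⟩ := L.inj h0.1 h0.2.1 (Or.inl (by simpa using e.symm))
          exact h0.2.2.2 k hk) (by simpa using (hps h0).1)
      exact ⟨v, hv, by simpa using e⟩
    have hmut := linePts_mutual hF ω h0
    have hiso := linePts_iso hF ω h0
    let q : Fin 4 → (Fin 6 → F) := ![w, u + w, u + ω • w, u + ω ^ 2 • w]
    have hqm : ∀ i, q i ∈ linePts ω u w := fun i => by fin_cases i <;> simp [q, linePts]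
    have hω0 : ω ≠ 0 := fun e => one_ne_zero (show (1 : F) = 0 by rw [e] at hω; linear_combination -hω)
    have hω1 : ω ≠ 1 := fun e => one_ne_zero (show (1 : F) = 0 by rw [e] at hω; linear_combination -hω)
    have hω2 : ω ^ 2 ≠ 1 := fun e => hω0 (by linear_combination e - hω)
    have hω3 : ω ^ 2 ≠ ω := fun e => one_ne_zero (show (1 : F) = 0 by linear_combination e - hω)
    have hpr : ∀ a : F, a ≠ 0 → OrthPair u (u + a • w) := fun a ha =>
      ⟨h0.1, ((h0.symm hF).shift hF a).2.1, by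
        rw [hf_add_right hF, hf_smul_right hF, h0.1.2, h0.2.2.1]; simp, fun k e => by
        refine h0.2.2.2 (a⁻¹ * (k - 1)) ?_
        rw [mul_smul, sub_smul, one_smul, ← e, add_sub_cancel_left, smul_smul, inv_mul_cancel₀ ha, one_smul]⟩
    have himg : ∀ i, ∃ v, Iso v ∧ h * s (q i) * h⁻¹ = 1 * s v := by
      intro i
      fin_cases i
      · exact hw'
      · obtain ⟨v, hv, e, -⟩ := hq 1 (hpr 1 one_ne_zero)
        exact ⟨v, hv, by simpa [q] using e⟩
      · obtain ⟨v, hv, e, -⟩ := hq ω (hpr ω hω0)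
        exact ⟨v, hv, by simpa [q] using e⟩
      · obtain ⟨v, hv, e, -⟩ := hq (ω ^ 2) (hpr _ (pow_ne_zero 2 hω0))
        exact ⟨v, hv, by simpa [q] using e⟩
    choose vv hvv hev using himg
    refine no_four hF (v := vv) (fun i j hij => hpair (hvv i) (hvv j) ?_ ?_) ?_
    · rw [← hev, ← hev]
      intro e
      obtain ⟨k, -, hk⟩ := L.inj (hiso _ (hqm i)) (hiso _ (hqm j)) (Or.inl (mul_left_cancel (mul_right_cancel e)))
      -- the four points are pairwise independent
      have hcf : ∀ i, ∃ a b : F, q i = a • u + b • w ∧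
          (a, b) = ![((0 : F), (1 : F)), (1, 1), (1, ω), (1, ω ^ 2)] i := fun i => by
        fin_cases i
        exacts [⟨0, 1, by simp [q], rfl⟩, ⟨1, 1, by simp [q], rfl⟩, ⟨1, ω, by simp [q], rfl⟩,
          ⟨1, ω ^ 2, by simp [q], rfl⟩]
      obtain ⟨a, b, hi, hab⟩ := hcf i
      obtain ⟨a', b', hj, hab'⟩ := hcf j
      rw [hi, hj, smul_add, smul_smul, smul_smul] at hk
      obtain ⟨e1, e2⟩ := LinearIndependent.pair_iff.1 h0.li (a' - k * a) (b' - k * b) (by
        rw [sub_smul, sub_smul, ← sub_eq_zero.2 hk]; abel)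
      replace e1 := sub_eq_zero.1 e1
      replace e2 := sub_eq_zero.1 e2
      clear * - hij hab hab' e1 e2 hω0 hω1 hω2 hω3
      fin_cases i <;> fin_cases j <;> simp_all <;> grind
    · rw [← hev, ← hev]
      exact hconj (L.commute (hiso _ (hqm i)) (hiso _ (hqm j)) (hmut _ (hqm j) _ (hqm i)))
    · have hm1 : ∀ i, s (vv i) ∈ Cen d := fun i => L.mem _ (hvv i)
      have e4 : s (vv 0) * (s (vv 1) * (s (vv 2) * s (vv 3))) = d := by
        have e : ∀ i, s (vv i) = h * s (q i) * h⁻¹ := fun i => by rw [hev, one_mul]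
        rw [e, e, e, e, show h * s (q 0) * h⁻¹ * (h * s (q 1) * h⁻¹ * (h * s (q 2) * h⁻¹ * (h * s (q 3) * h⁻¹)))
          = h * (s (q 0) * (s (q 1) * (s (q 2) * s (q 3)))) * h⁻¹ by group]
        rw [show s (q 0) * (s (q 1) * (s (q 2) * s (q 3))) = (s u)⁻¹ from eq_inv_of_mul_eq_one_right hl,
          L.s_inv h0.1]
        simpa using hh
      have e5 : π (⟨_, hm1 0⟩ * (⟨_, hm1 1⟩ * (⟨_, hm1 2⟩ * ⟨_, hm1 3⟩))) = 1 := (L.ker _).2 (Or.inr e4)
      simp only [map_mul, L.image _ (hvv _)] at e5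
      simpa [List.ofFn_succ, Fin.succ_zero_eq_one, mul_assoc] using e5
  subst hεd
  refine ⟨fun hx => ?_, ?_⟩
  · rcases L.member_shape hx with ⟨v, hv, h | h⟩ | ⟨a, b, c, hP, h⟩
    · refine absurd ?_ (hdrD hv)
      rw [← mul_assoc, L.d_sq, one_mul, ← h]; exact hx.1
    · exact ⟨v, hv, h⟩
    · exact absurd (h.imp (fun e => e ▸ hx.1) (fun e => e ▸ hx.1)) (hnoT hP)
  · rintro ⟨v, hv, rfl⟩
    exact ⟨hrD hv, hrne hv, L.d_comm (mul_mem L.d_mem (L.mem v hv))⟩

end DLocal

end Cfsg.Agent.TransCentFi22
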