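/-
Every conjugate `a` of `d` sees the other conjugates in its centraliser as the isotropic points of a unitary six-space.

Main results (namespace `Cfsg.Agent.TransCentFi22`):
* `TC` : the class with these local models; `exists_tc` : it exists;
* `TC.pair_not_mem`, `TC.triple_not_mem` : products of two or three commuting members leave the class;
* `TC.normal_pgroup` : normal p-subgroups of the centraliser of a member `a` lie in `{1, a}`;
* `TC.maximal_clique` : a maximal set of commuting members has an odd product equal to one.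
-/
import Cfsg.Agent.Lib.TransCentFi22.Fusion
import Cfsg.Agent.Lib.FischerM22.LocModel

set_option autoImplicit false

namespace Cfsg.Agent.TransCentFi22

open Cfsg.Agent.Unitary Cfsg.Agent.U62Cover Cfsg.Agent.ThreeTransSU Cfsg.Agent.FischerM22 Cfsg.Agent.ThreeTrans

variable {G : Type*} [Group G] {F : Type} [Field F] [Fintype F]

section Local

variable {d : G} {π : ↥(Cen d) →* Cfsg.PSU 6 F 2} {s : (Fin 6 → F) → G}

theorem DLocal.conj (L : DLocal d π s) (g : G) :
    ∃ π' : ↥(Cen (g * d * g⁻¹)) →* Cfsg.PSU 6 F 2, DLocal (g * d * g⁻¹) π' fun v => g * s v * g⁻¹ := by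
  have hmem : ∀ x : ↥(Cen (g * d * g⁻¹)), g⁻¹ * (x : G) * g ∈ Cen d := fun x => by
    have h := Subgroup.mem_centralizer_singleton_iff.1 x.2
    refine Subgroup.mem_centralizer_singleton_iff.2 ?_
    calc g⁻¹ * (x : G) * g * d = g⁻¹ * ((x : G) * (g * d * g⁻¹)) * g := by group
      _ = g⁻¹ * ((g * d * g⁻¹) * (x : G)) * g := by rw [h]
      _ = d * (g⁻¹ * (x : G) * g) := by group
  let φ : ↥(Cen (g * d * g⁻¹)) →* ↥(Cen d) :=
    { toFun := fun x => ⟨g⁻¹ * (x : G) * g, hmem x⟩
      map_one' := Subtype.ext (by simp)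
      map_mul' := fun x y => Subtype.ext (by
        show g⁻¹ * ((x * y : ↥(Cen (g * d * g⁻¹))) : G) * g = g⁻¹ * (x : G) * g * (g⁻¹ * (y : G) * g)
        rw [Subgroup.coe_mul]; group) }
  have hmem' : ∀ x, x ∈ Cen d → g * x * g⁻¹ ∈ Cen (g * d * g⁻¹) := fun x hx => by
    have h := Subgroup.mem_centralizer_singleton_iff.1 hx
    refine Subgroup.mem_centralizer_singleton_iff.2 ?_
    calc g * x * g⁻¹ * (g * d * g⁻¹) = g * (x * d) * g⁻¹ := by group
      _ = g * (d * x) * g⁻¹ := by rw [h]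
      _ = g * d * g⁻¹ * (g * x * g⁻¹) := by group
  have hlist : ∀ l : List (Fin 6 → F), (l.map fun v => g * s v * g⁻¹).prod = g * (l.map s).prod * g⁻¹ := by
    intro l
    induction l with
    | nil => simp
    | cons v l ih => rw [List.map_cons, List.prod_cons, ih, List.map_cons, List.prod_cons]; group
  refine ⟨π.comp φ, ?_, L.card, ?_, fun x => ?_, fun v hv => hmem' _ (L.mem v hv), fun v hv h => ?_,
    fun v hv => ?_, fun v c hv hc => by rw [L.smul v c hv hc], fun x k hx v hv => ?_, fun ω u w hω h => ?_, ?_, ?_⟩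
  · rw [show g * d * g⁻¹ = MulAut.conj g d from rfl, MulEquiv.orderOf_eq]; exact L.order
  · refine L.surj.comp fun x => ⟨⟨g * (x : G) * g⁻¹, hmem' _ x.2⟩, Subtype.ext ?_⟩
    show g⁻¹ * (g * (x : G) * g⁻¹) * g = x
    group
  · rw [MonoidHom.comp_apply, L.ker]
    show g⁻¹ * (x : G) * g = 1 ∨ g⁻¹ * (x : G) * g = d ↔ _
    constructor <;> rintro (h | h)
    · exact Or.inl (by rw [show (x : G) = g * (g⁻¹ * (x : G) * g) * g⁻¹ by group, h]; group)
    · exact Or.inr (by rw [show (x : G) = g * (g⁻¹ * (x : G) * g) * g⁻¹ by group, h])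
    · exact Or.inl (by rw [h]; group)
    · exact Or.inr (by rw [h]; group)
  · show π (φ ⟨_, h⟩) = _
    rw [show φ ⟨g * s v * g⁻¹, h⟩ = ⟨s v, L.mem v hv⟩ from Subtype.ext (by
      show g⁻¹ * (g * s v * g⁻¹) * g = s v
      group)]
    exact L.image v hv _
  · rw [show g * s v * g⁻¹ * (g * s v * g⁻¹) = g * (s v * s v) * g⁻¹ by group, L.sq v hv]; group
  · have h := L.equiv (φ x) k hx v hv
    rw [show ((φ x : ↥(Cen d)) : G) = g⁻¹ * (x : G) * g from rfl] at h
    rw [← h]; group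
  · rw [hlist, L.line ω u w hω h]; group
  · obtain ⟨ω, t, u, v, w, hω, ht, hP, hprod⟩ := L.oval
    exact ⟨ω, t, u, v, w, hω, ht, hP, by rw [hlist, hprod]⟩
  · refine le_antisymm ((Subgroup.closure_le _).2 ?_) fun x hx => ?_
    · rintro _ ⟨v, hv, rfl⟩; exact hmem' _ (L.mem v hv)
    have hle : Subgroup.closure {x | ∃ v, Iso v ∧ x = s v} ≤
        (Subgroup.closure {x | ∃ v, Iso v ∧ x = g * s v * g⁻¹}).comap (MulAut.conj g).toMonoidHom :=
      (Subgroup.closure_le _).2 (by rintro _ ⟨v, hv, rfl⟩; exact Subgroup.subset_closure ⟨v, hv, rfl⟩)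
    have h' := hle (L.gen ▸ hmem ⟨x, hx⟩ : g⁻¹ * x * g ∈ Subgroup.closure {x | ∃ v, Iso v ∧ x = s v})
    simpa [Subgroup.mem_comap, MulAut.conj_apply, mul_assoc] using h'

theorem DLocal.pointModel (L : DLocal d π s) {D : Set G} (hm : ∀ v, Iso v → d * s v ∈ adj D d)
    (hs : ∀ y ∈ adj D d, ∃ v, Iso v ∧ d * s v = y) : PointModel D d fun v => d * s v := by
  have hmem : ∀ v, Iso v → d * s v ∈ Cen d := fun v hv => mul_mem L.d_mem (L.mem v hv)
  refine ⟨L.card, hm, hs, fun v c hv hc => by rw [L.smul v c hv hc],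
    fun u v hu hv h => L.inj hu hv (Or.inl (mul_left_cancel h)), fun u v hu hv => ?_, fun l hl hprod y hy => ?_⟩
  · rw [← L.commute_iff hu hv]
    have e1 := L.d_comm (L.mem u hu)
    have e2 := L.d_comm (L.mem v hv)
    refine ⟨fun h => ?_, fun h => ((Commute.refl d).mul_right e2).mul_left (e1.symm.mul_right h)⟩
    have h1 := h.eq
    rw [mul_assoc d (s u), ← mul_assoc (s u), ← e1.eq, mul_assoc d (s u), ← mul_assoc d d, L.d_sq, one_mul,
      mul_assoc d (s v), ← mul_assoc (s v), ← e2.eq, mul_assoc d (s v), ← mul_assoc d d, L.d_sq, one_mul] at h1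
    exact h1
  · let l' : List ↥(Cen d) := l.attach.map fun p => ⟨d * s p.1, hmem _ (hl _ p.2)⟩
    have e : (l.map fun v => d * s v).prod = (l'.prod : ↥(Cen d)) := by
      rw [Subgroup.val_list_prod, List.map_map]
      exact congrArg List.prod (List.attach_map_val (f := fun v => d * s v)).symm
    have hπ : π l'.prod = 1 := by
      rw [map_list_prod, List.map_map, show (⇑π ∘ fun p : {x // x ∈ l} => ⟨d * s p.1, hmem _ (hl _ p.2)⟩)
        = fun p => toPSU 6 F (tv L.card p.1) from funext fun p => by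
          show π (⟨d, L.d_mem⟩ * ⟨s p.1, L.mem _ (hl _ p.2)⟩) = _
          rw [map_mul, L.map_d, one_mul, L.image _ (hl _ p.2)],
        List.attach_map_val (f := fun v => toPSU 6 F (tv L.card v)),
        show l.map (fun v => toPSU 6 F (tv L.card v)) = (l.map (tv L.card)).map (toPSU 6 F) by
          rw [List.map_map]; rfl,
        ← map_list_prod, hprod, map_one]
    rw [e]
    rcases (L.ker _).1 hπ with h | h <;> rw [h]
    · exact Commute.one_right y
    · exact hy.2.2.symm

end Local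

/-- A conjugacy class with these local models. -/
structure TC (D : Set G) (F : Type) [Field F] [Fintype F] : Prop where
  card : Fintype.card F = 4
  conj : ∀ g : G, ∀ a ∈ D, g * a * g⁻¹ ∈ D
  cls : ∀ a ∈ D, ∀ b ∈ D, ∃ g : G, g * a * g⁻¹ = b
  perfect : ∀ a ∈ D, commutator ↥(Cen a) = ⊤
  not_sq : ∀ a ∈ D, ¬ IsSquare a
  loc : ∀ a ∈ D, ∃ (π : ↥(Cen a) →* Cfsg.PSU 6 F 2) (s : (Fin 6 → F) → G),
    DLocal a π s ∧ PointModel D a fun v => a * s v

theorem exists_tc [Finite G] (d : G) (hd : orderOf d = 2) (hF : Fintype.card F = 4)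
    (hperf : commutator ↥(Cen d) = ⊤) [((Subgroup.zpowers d).subgroupOf (Cen d)).Normal]
    (e : ↥(Cen d) ⧸ (Subgroup.zpowers d).subgroupOf (Cen d) ≃* Cfsg.PSU 6 F 2)
    (hnwc : ∃ g : G, g * d * g⁻¹ ∈ Cen d ∧ g * d * g⁻¹ ≠ d) : TC (conjugatesOf d) F := by
  obtain ⟨π, s, L⟩ := exists_dlocal d hd hF hperf e
  obtain ⟨g₀, hg₀, hne₀⟩ := hnwc
  have hdD : d ∈ conjugatesOf d := mem_conjugatesOf_self
  have hne : (adj (conjugatesOf d) d).Nonempty :=
    ⟨_, conj_mem_conjugates g₀ hdD, hne₀, (Subgroup.mem_centralizer_singleton_iff.1 hg₀).symm⟩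
  have hiff := L.member_iff hne
  have M := L.pointModel (D := conjugatesOf d) (fun v hv => (hiff _).2 ⟨v, hv, rfl⟩) fun y hy => by
    obtain ⟨v, hv, rfl⟩ := (hiff y).1 hy
    exact ⟨v, hv, rfl⟩
  refine ⟨hF, fun g a ha => conj_mem_conjugates g ha, fun a ha b hb => ?_, fun a ha => ?_,
    fun a ha => L.not_isSquare_member ha, fun a ha => ?_⟩
  · exact isConj_iff.1 (IsConj.trans (IsConj.symm ha) hb)
  · obtain ⟨g, rfl⟩ := isConj_iff.1 ha
    have e1 : (Cen d).map (MulAut.conj g).toMonoidHom = Cen (g * d * g⁻¹) := by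
      ext x
      constructor
      · rintro ⟨y, hy, rfl⟩
        have h := Subgroup.mem_centralizer_singleton_iff.1 hy
        refine Subgroup.mem_centralizer_singleton_iff.2 ?_
        show g * y * g⁻¹ * (g * d * g⁻¹) = g * d * g⁻¹ * (g * y * g⁻¹)
        rw [show g * y * g⁻¹ * (g * d * g⁻¹) = g * (y * d) * g⁻¹ by group, h]; group
      · intro hx
        have h := Subgroup.mem_centralizer_singleton_iff.1 hx
        refine ⟨g⁻¹ * x * g, Subgroup.mem_centralizer_singleton_iff.2 ?_, ?_⟩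
        · rw [show g⁻¹ * x * g * d = g⁻¹ * (x * (g * d * g⁻¹)) * g by group, h]; group
        · show g * (g⁻¹ * x * g) * g⁻¹ = x
          group
    let c := ((Cen d).equivMapOfInjective _ (MulAut.conj g).injective).trans (MulEquiv.subgroupCongr e1)
    rw [commutator_def, ← Subgroup.map_top_of_surjective c.toMonoidHom c.surjective, ← Subgroup.map_commutator,
      ← commutator_def, hperf]
  · obtain ⟨g, rfl⟩ := isConj_iff.1 ha
    obtain ⟨π', L'⟩ := L.conj g
    refine ⟨π', _, L', ?_⟩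
    have h := M.conj (fun k a ha => conj_mem_conjugates k ha) g
    rwa [show (fun v => g * d * g⁻¹ * (g * s v * g⁻¹)) = MulAut.conj g ∘ fun v => d * s v from
      funext fun v => by show _ = g * (d * s v) * g⁻¹; group]

namespace TC

variable {D : Set G}

theorem order (T : TC D F) {a : G} (ha : a ∈ D) : orderOf a = 2 := by
  obtain ⟨π, s, L, -⟩ := T.loc a ha; exact L.order

theorem sq (T : TC D F) {a : G} (ha : a ∈ D) : a * a = 1 := by
  rw [← pow_two, ← T.order ha, pow_orderOf_eq_one]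

theorem inv (T : TC D F) {a : G} (ha : a ∈ D) : a⁻¹ = a := inv_eq_of_mul_eq_one_left (T.sq ha)

theorem ne_one (T : TC D F) {a : G} (ha : a ∈ D) : a ≠ 1 := fun h => by
  have := T.order ha
  rw [h, orderOf_one] at this
  omega

theorem conj_adj_mem (T : TC D F) (g : G) {a y : G} (h : y ∈ adj D a) : g * y * g⁻¹ ∈ adj D (g * a * g⁻¹) :=
  ⟨T.conj g y h.1, fun e => h.2.1 ((MulAut.conj g).injective e), by
    simpa using h.2.2.map (MulAut.conj g).toMonoidHom⟩

theorem adj_nonempty (T : TC D F) {a : G} (ha : a ∈ D) : (adj D a).Nonempty := by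
  obtain ⟨π, s, -, M⟩ := T.loc a ha
  exact ⟨_, M.mem _ (U62Mult.orthPair_std (F := F) T.card).1⟩

theorem loc_eq (T : TC D F) {a : G} (ha : a ∈ D) : Loc D a = Cen a := by
  obtain ⟨π, s, L, M⟩ := T.loc a ha
  refine le_antisymm ((Subgroup.closure_le _).2 fun y hy =>
    Subgroup.mem_centralizer_singleton_iff.2 hy.2.2.symm.eq) ?_
  have haL : a ∈ Loc D a := by
    obtain ⟨ω, -, hω⟩ := exists_omega T.card
    have h0 := U62Mult.orthPair_std (F := F) T.card
    have hl := L.line ω _ _ hω h0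
    have hi := linePts_iso T.card ω h0
    have key : ∀ l : List (Fin 6 → F), (∀ v ∈ l, Iso v) →
        (l.map fun v => a * s v).prod = a ^ l.length * (l.map s).prod := by
      intro l
      induction l with
      | nil => simp
      | cons v l ih =>
        intro h
        rw [List.map_cons, List.prod_cons, ih fun x hx => h x (by simp [hx]), List.map_cons, List.prod_cons,
          List.length_cons, pow_succ']
        have hc : Commute (s v) (a ^ l.length) := ((L.d_comm (L.mem v (h v (by simp)))).pow_left _).symm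
        rw [mul_assoc, ← mul_assoc (s v), hc.eq]
        simp only [mul_assoc]
    have h5 := key _ hi
    rw [hl, mul_one] at h5
    have e5 : a ^ 5 = a := by
      simp only [pow_succ, pow_zero, one_mul, T.sq ha]
    rw [show (linePts ω (p1 : Fin 6 → F) p2).length = 5 from rfl, e5] at h5
    have hm : ((linePts ω (p1 : Fin 6 → F) p2).map fun v => a * s v).prod ∈ Loc D a :=
      Subgroup.list_prod_mem _ fun y hy => by
        obtain ⟨v, hv, rfl⟩ := List.mem_map.1 hy
        exact Subgroup.subset_closure (M.mem v (hi v hv))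
    rwa [h5] at hm
  rw [← L.gen, Subgroup.closure_le]
  rintro _ ⟨v, hv, rfl⟩
  rw [show s v = a⁻¹ * (a * s v) by group]
  exact mul_mem (inv_mem haL) (Subgroup.subset_closure (M.mem v hv))

theorem pair_not_mem (T : TC D F) {a b : G} (ha : a ∈ D) (hb : b ∈ adj D a) : a * b ∉ D := by
  intro h
  obtain ⟨π, s, L, M⟩ := T.loc a ha
  have hne : a * b ≠ a := fun e => T.ne_one hb.1 (mul_eq_left.1 e)
  obtain ⟨v, hv, rfl⟩ := M.surj b hb
  rw [← mul_assoc, L.d_sq, one_mul] at h hne
  obtain ⟨w, hw, e⟩ := M.surj (s v) ⟨h, hne, L.d_comm (L.mem v hv)⟩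
  obtain ⟨c, hc, rfl⟩ := L.inj hv hw (Or.inr e.symm)
  change a * s (c • v) = s v at e
  rw [L.smul v c hv hc] at e
  exact L.d_ne (mul_eq_right.1 e)

theorem triple_not_mem (T : TC D F) {a b c : G} (ha : a ∈ D) (hb : b ∈ adj D a) (hc : c ∈ adj D a)
    (hbc : b ≠ c) (h : Commute b c) : a * b * c ∉ D := by
  intro hm
  obtain ⟨π, s, L, M⟩ := T.loc a ha
  obtain ⟨u, hu, rfl⟩ := M.surj b hb
  obtain ⟨w, hw, rfl⟩ := M.surj c hc
  have hP : OrthPair u w := ⟨hu, hw, (M.comm u w hu hw).1 h, fun k e => hbc (by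
    have hk : k ≠ 0 := fun h0 => hw.1 (by rw [e, h0, zero_smul])
    show a * s u = a * s w
    rw [e, L.smul u k hu hk])⟩
  refine T.not_sq _ hm ?_
  rw [← mul_assoc a a, L.d_sq, one_mul, ← mul_assoc, ← (L.d_comm (L.mem u hu)).eq, mul_assoc]
  exact (L.pair_isSquare hP).2

theorem braid (T : TC D F) {a p q : G} (ha : a ∈ D) (hp : p ∈ adj D a) (hq : q ∈ adj D a)
    (h : ¬ Commute p q) : p * q * p = q * p * q := by
  obtain ⟨π, s, L, M⟩ := T.loc a ha
  obtain ⟨u, hu, rfl⟩ := M.surj p hp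
  obtain ⟨w, hw, rfl⟩ := M.surj q hq
  have hb := L.braid hu hw fun e => h ((M.comm u w hu hw).2 e)
  have e1 := L.d_comm (L.mem u hu)
  have e2 := L.d_comm (L.mem w hw)
  have key : ∀ x y : G, Commute a x → Commute a y → a * x * (a * y) * (a * x) = a * (x * y * x) := fun x y hx hy => by
    rw [show a * x * (a * y) * (a * x) = a * (x * a) * y * (a * x) by simp only [mul_assoc], ← hx.eq,
      ← mul_assoc a a, L.d_sq, one_mul, show x * y * (a * x) = x * (y * a) * x by simp only [mul_assoc], ← hy.eq,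
      ← mul_assoc x a, ← hx.eq]
    simp only [mul_assoc]
  rw [key _ _ e1 e2, key _ _ e2 e1, hb]

/-- A normal subgroup of prime power order of the centraliser of `a` lies in `{1, a}`. -/
theorem normal_pgroup (T : TC D F) [Finite G] {a : G} (ha : a ∈ D) {p : ℕ} [Fact p.Prime]
    (N : Subgroup ↥(Cen a)) (hN : N.Normal) (hp : IsPGroup p N) {x : ↥(Cen a)} (hx : x ∈ N) :
    (x : G) = 1 ∨ (x : G) = a := by
  obtain ⟨π, s, L, -⟩ := T.loc a ha
  have hs : IsSimpleGroup (Cfsg.PSU 6 F 2) :=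
    S0283.result (q := 2) (by rw [T.card]; norm_num) 6 (by norm_num) (by norm_num)
  rcases hs.eq_bot_or_eq_top_of_normal (N.map π) (hN.map π L.surj) with h | h
  · exact (L.ker x).1 (by
      have h1 : π x ∈ N.map π := ⟨x, hx, rfl⟩
      rwa [h, Subgroup.mem_bot] at h1)
  · exfalso
    have h1 : IsPGroup p (⊤ : Subgroup (Cfsg.PSU 6 F 2)) := h ▸ hp.map π
    have h2 : IsPGroup p (Cfsg.PSU 6 F 2) := h1.of_equiv Subgroup.topEquiv
    have : Nontrivial (Cfsg.PSU 6 F 2) := hs.toNontrivial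
    have h3 := h2.center_nontrivial
    rw [center_psu_eq_bot T.card] at h3
    exact not_nontrivial _ h3

/-- A maximal set of commuting members has an odd product of members equal to one. -/
theorem maximal_clique (T : TC D F) {Q : Set G} (hQ : Q ⊆ D) (hc : ∀ p ∈ Q, ∀ q ∈ Q, Commute p q)
    (hne : Q.Nonempty) (hmax : ∀ u ∈ D, (∀ q ∈ Q, Commute u q) → u ∈ Q) :
    ∃ l : List G, Odd l.length ∧ (∀ q ∈ l, q ∈ Q) ∧ l.prod = 1 := by
  classical
  have hF := T.card
  obtain ⟨a, haQ⟩ := hne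
  have ha := hQ haQ
  obtain ⟨π, s, L, M⟩ := T.loc a ha
  set S : Set (Fin 6 → F) := {v | Iso v ∧ a * s v ∈ Q} with hS
  have horth : ∀ u ∈ S, ∀ v ∈ S, hf u v = 0 := fun u hu v hv => (M.comm u v hu.1 hv.1).1 (hc _ hu.2 _ hv.2)
  have hfull : ∀ z, Iso z → (∀ u ∈ S, hf z u = 0) → z ∈ S := fun z hz h => by
    refine ⟨hz, hmax _ (M.mem z hz).1 fun q hq => ?_⟩
    by_cases hqa : q = a
    · rw [hqa]; exact (M.mem z hz).2.2.symm
    obtain ⟨u, hu, rfl⟩ := M.surj q ⟨hQ hq, hqa, hc a haQ q hq⟩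
    exact (M.comm z u hz hu).2 (h u ⟨hu, hq⟩)
  obtain ⟨e1, e2, e3, he1, he2, he3, he, hli⟩ := exists_plane (F := F) hF
  have hE : Plane e1 e2 e3 := ⟨he1, he2, he3, he e1 (by simp) e2 (by simp), he e1 (by simp) e3 (by simp),
    he e2 (by simp) e3 (by simp), hli⟩
  -- a plane of points of the set
  obtain ⟨u, v, w, hP, hu, hv, hw⟩ : ∃ u v w, Plane u v w ∧ u ∈ S ∧ v ∈ S ∧ w ∈ S := by
    obtain ⟨u, hu⟩ : S.Nonempty := by
      by_contra h
      exact h ⟨e1, hfull e1 he1 fun x hx => absurd ⟨x, hx⟩ h⟩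
    obtain ⟨g, hg⟩ := exists_act hF (by norm_num) he1 hu.1
    obtain ⟨v, hv, huv⟩ : ∃ v ∈ S, OrthPair u v := by
      by_contra h
      have hpr : ∀ x ∈ S, ∃ c : F, x = c • u := fun x hx => by_contra fun hx' =>
        h ⟨x, hx, hu.1, hx.1, horth u hu x hx, fun c e => hx' ⟨c, e⟩⟩
      have hp := hE.act g
      rw [hg] at hp
      refine h ⟨_, hfull _ hp.iv fun x hx => ?_, hp.orthPair⟩
      obtain ⟨c, rfl⟩ := hpr x hx
      rw [hf_smul_right hF, (hf_eq_zero_symm hF).1 hp.uv, mul_zero]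
    obtain ⟨g2, hg1', hg2'⟩ := exists_act_two hF (by norm_num) hE.orthPair huv
    by_contra h
    have hsp : ∀ x ∈ S, ∃ c c' : F, x = c • u + c' • v := fun x hx => by
      by_contra hx'
      refine h ⟨u, v, x, ⟨hu.1, hv.1, hx.1, huv.2.2.1, horth u hu x hx, horth v hv x hx, fun p q r e => ?_⟩,
        hu, hv, hx⟩
      by_cases hr : r = 0
      · rw [hr, zero_smul, add_zero] at e
        obtain ⟨h1, h2⟩ := LinearIndependent.pair_iff.1 huv.li p q e
        exact ⟨h1, h2, hr⟩
      · exfalso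
        refine hx' ⟨-(r⁻¹ * p), -(r⁻¹ * q), ?_⟩
        have h1 := congrArg (fun z => r⁻¹ • z) e
        simp only [smul_add, smul_smul, inv_mul_cancel₀ hr, one_smul, smul_zero] at h1
        rw [eq_neg_of_add_eq_zero_right h1, neg_add, neg_smul, neg_smul]
    have hp := hE.act g2
    rw [hg1', hg2'] at hp
    refine h ⟨u, v, _, hp, hu, hv, hfull _ hp.iw fun x hx => ?_⟩
    obtain ⟨c, c', rfl⟩ := hsp x hx
    rw [hf_add_right hF, hf_smul_right hF, hf_smul_right hF, (hf_eq_zero_symm hF).1 hp.uw,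
      (hf_eq_zero_symm hF).1 hp.vw]; simp
  have hsub : ∀ x y z : F, (x ≠ 0 ∨ y ≠ 0 ∨ z ≠ 0) → comb u v w x y z ∈ S := fun x y z h => by
    refine hfull _ (hP.iso_comb hF h) fun t ht => ?_
    obtain ⟨p, q, r, e⟩ := hP.mem_of_perp hF (horth t ht u hu) (horth t ht v hv) (horth t ht w hw)
    rw [e]; exact hP.hf_comb hF _ _ _ _ _ _
  -- an oval of the plane
  obtain ⟨ω, t, u', v', w', -, -, hP', hprod⟩ := L.oval
  obtain ⟨g, k, hk, g1, g2, g3⟩ := exists_act_plane hF hP' hP
  obtain ⟨x, hx⟩ := L.exists_elt g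
  have hmemS : ∀ p ∈ ovalPts ω t u' v' w', Iso p ∧ act g p ∈ S := by
    intro p hp
    simp only [ovalPts, List.mem_cons, List.not_mem_nil, or_false] at hp
    have h' : ∀ {b c : F}, Iso (comb u' v' w' 1 b c) ∧ act g (comb u' v' w' 1 b c) ∈ S := fun {b c} => by
      refine ⟨hP'.iso_comb hF (Or.inl one_ne_zero), ?_⟩
      rw [act_add, act_add, act_smul, act_smul, act_smul, g1, g2, g3, smul_smul]
      exact hsub 1 b (c * k) (Or.inl one_ne_zero)
    rcases hp with rfl | rfl | rfl | rfl | rfl | rfl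
    · exact ⟨hP'.iu, g1.symm ▸ hu⟩
    · exact ⟨hP'.iv, g2.symm ▸ hv⟩
    · refine ⟨hP'.iw, ?_⟩
      rw [g3]
      simpa [comb] using hsub 0 0 k (Or.inr (Or.inr hk))
    · simpa [comb] using h' (b := 1) (c := t)
    · simpa [comb] using h' (b := ω) (c := ω ^ 2 * t)
    · simpa [comb] using h' (b := ω ^ 2) (c := ω * t)
  refine ⟨a :: (ovalPts ω t u' v' w').map fun p => a * s (act g p), ?_, fun q hq => ?_, ?_⟩
  · rw [List.length_cons, List.length_map]; exact ⟨3, rfl⟩
  · rcases List.mem_cons.1 hq with rfl | hq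
    · exact haQ
    · obtain ⟨p, hp, rfl⟩ := List.mem_map.1 hq
      exact (hmemS p hp).2.2
  · rw [List.prod_cons, List.map_congr_left (g := fun p => (x : G) * (a * s p) * (x : G)⁻¹) (fun p hp => by
      rw [← hx p (hmemS p hp).1, show (x : G) * (a * s p) * (x : G)⁻¹
        = ((x : G) * a * (x : G)⁻¹) * ((x : G) * s p * (x : G)⁻¹) by group, L.conj_d])]
    rw [show ((ovalPts ω t u' v' w').map fun p => (x : G) * (a * s p) * (x : G)⁻¹)
      = ((ovalPts ω t u' v' w').map fun p => a * s p).map (MulAut.conj (x : G)) by rw [List.map_map]; rfl,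
      ← map_list_prod]
    have hprod' : ((ovalPts ω t u' v' w').map fun p => a * s p).prod = a := by
      have hiso : ∀ p ∈ ovalPts ω t u' v' w', Iso p := fun p hp => (hmemS p hp).1
      simp only [ovalPts, List.map_cons, List.map_nil, List.prod_cons, List.prod_nil, mul_one,
        List.forall_mem_cons, List.not_mem_nil, false_implies, implies_true, and_true] at hprod hiso ⊢
      obtain ⟨i1, i2, i3, i4, i5, i6⟩ := hiso
      have cm : ∀ {z : Fin 6 → F}, Iso z → ∀ y : G, s z * (a * y) = a * (s z * y) := fun hz y => by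
        rw [← mul_assoc, ← (L.d_comm (L.mem _ hz)).eq, mul_assoc]
      simp only [mul_assoc, cm i1, cm i2, cm i3, cm i4, cm i5, invol_cancel L.d_sq]
      exact hprod
    rw [hprod', MulAut.conj_apply, L.conj_d, L.d_sq]

end TC

end Cfsg.Agent.TransCentFi22
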