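/-
The component of a member in the commuting graph of the class and the subgroup it generates.

Main results (namespace `Cfsg.Agent.TransCentFi22`):
* `Wset`, `Hsub` : the component of `d` (its members at distance at most two) and the subgroup generated by it;
* `TC.w_closed` : it is closed under commuting; `TC.w_pair` : any two of its members are at distance at most two;
* `TC.mem_h_of_conj` : an element carrying one member of the component into it lies in the subgroup;
* `TC.cls_h`, `TC.cores_h`, `TC.conn_h`, `TC.center_h` : the component is a class of 3-transpositions of it.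
-/
import Cfsg.Agent.Lib.TransCentFi22.Count

set_option autoImplicit false

namespace Cfsg.Agent.TransCentFi22

open Cfsg.Agent.Unitary Cfsg.Agent.U62Cover Cfsg.Agent.ThreeTrans Cfsg.Agent.ThreeTransSU Cfsg.Agent.FischerM22

variable {G : Type*} [Group G] {F : Type} [Field F] [Fintype F] {D : Set G}

/-- The members at distance at most two from `d`. -/
def Wset (D : Set G) (d : G) : Set G := {x | x ∈ D ∧ (Commute d x ∨ (common D d x).Nonempty)}

/-- The subgroup they generate. -/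
def Hsub (D : Set G) (d : G) : Subgroup G := Subgroup.closure (Wset D d)

/-- The component as a subset of its subgroup. -/
def DH (D : Set G) (d : G) : Set ↥(Hsub D d) := {x | (x : G) ∈ Wset D d}

theorem w_sub {d x : G} (h : x ∈ Wset D d) : x ∈ D := h.1

theorem self_mem_w {d : G} (hd : d ∈ D) : d ∈ Wset D d := ⟨hd, Or.inl (Commute.refl d)⟩

theorem w_le_h {d x : G} (h : x ∈ Wset D d) : x ∈ Hsub D d := Subgroup.subset_closure h

variable [Finite G]

namespace TC

theorem w_closed (T : TC D F) {d : G} (hd : d ∈ D) {x y : G} (hx : x ∈ Wset D d) (hy : y ∈ D)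
    (hxy : Commute x y) : y ∈ Wset D d := by
  by_cases hyx : y = x
  · exact hyx ▸ hx
  refine ⟨hy, ?_⟩
  by_cases hdy : Commute d y
  · exact Or.inl hdy
  refine Or.inr ?_
  have hyd : y ≠ d := fun e => hdy (e ▸ Commute.refl d)
  by_cases hdx : Commute d x
  · exact ⟨x, ⟨hx.1, fun e => hdy (e ▸ hxy), hdx⟩, hx.1, fun e => hdy (e ▸ hdx), hxy.symm⟩
  have hn : (common D d x).Nonempty := hx.2.resolve_left hdx
  obtain ⟨z, hz, hzy⟩ := T.exists_common_commute hx.1 hd (fun h => hdx h.symm)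
    (by rwa [common, Set.inter_comm]) ⟨hy, hyx, hxy⟩
  exact ⟨z, hz.2, hz.1.1, fun e => hdy (e ▸ hz.2.2.2), hzy.symm⟩

theorem adj_subset_w (T : TC D F) {d x : G} (hd : d ∈ D) (hx : x ∈ Wset D d) : adj D x ⊆ Wset D d :=
  fun _ hy => T.w_closed hd hx hy.1 hy.2.2

theorem w_of_mem (T : TC D F) {d x y : G} (hd : d ∈ D) (hx : x ∈ Wset D d) (hy : y ∈ Wset D x) :
    y ∈ Wset D d := by
  rcases hy.2 with h | ⟨q, hq1, hq2⟩
  · exact T.w_closed hd hx hy.1 h
  · exact T.w_closed hd (T.adj_subset_w hd hx hq1) hy.1 hq2.2.2.symm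

theorem w_symm {d x : G} (hd : d ∈ D) (hx : x ∈ Wset D d) : d ∈ Wset D x := by
  refine ⟨hd, hx.2.imp (fun h => h.symm) ?_⟩
  rw [common, common, Set.inter_comm]
  exact id

/-- Two members of the component are at distance at most two. -/
theorem w_pair (T : TC D F) {d x y : G} (hd : d ∈ D) (hx : x ∈ Wset D d) (hy : y ∈ Wset D d) :
    Commute x y ∨ (common D x y).Nonempty :=
  (T.w_of_mem hx.1 (w_symm hd hx) hy).2

theorem w_braid (T : TC D F) {d x y : G} (hd : d ∈ D) (hx : x ∈ Wset D d) (hy : y ∈ Wset D d)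
    (h : ¬ Commute x y) : x * y * x = y * x * y := by
  obtain ⟨q, hq1, hq2⟩ := (T.w_pair hd hx hy).resolve_left h
  exact T.braid hq1.1 (adj_symm hx.1 hq1) (adj_symm hy.1 hq2) h

theorem w_conj (T : TC D F) {d x y : G} (hd : d ∈ D) (hx : x ∈ Wset D d) (hy : y ∈ Wset D d) :
    x * y * x⁻¹ ∈ Wset D d := by
  by_cases h : Commute x y
  · rwa [h.eq, mul_inv_cancel_right]
  obtain ⟨q, hq1, hq2⟩ := (T.w_pair hd hx hy).resolve_left h
  refine T.w_closed hd (T.adj_subset_w hd hx hq1) (T.conj x y hy.1) ?_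
  exact (hq1.2.2.symm.mul_right hq2.2.2.symm).mul_right hq1.2.2.symm.inv_right

theorem h_conj (T : TC D F) {d : G} (hd : d ∈ D) {g y : G} (hg : g ∈ Hsub D d) (hy : y ∈ Wset D d) :
    g * y * g⁻¹ ∈ Wset D d := by
  revert y
  induction hg using Subgroup.closure_induction'' with
  | one => intro y hy; simpa using hy
  | mem x hx => intro y hy; exact T.w_conj hd hx hy
  | inv_mem x hx => intro y hy; rw [T.inv hx.1]; exact T.w_conj hd hx hy
  | mul a b _ _ iha ihb =>
    intro y hy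
    rw [show a * b * y * (a * b)⁻¹ = a * (b * y * b⁻¹) * a⁻¹ by group]
    exact iha (ihb hy)

theorem w_conj_noncomm (T : TC D F) {d x y : G} (hd : d ∈ D) (hx : x ∈ Wset D d) (hy : y ∈ Wset D d)
    (h : ¬ Commute x y) : (x * y) * x * (x * y)⁻¹ = y := by
  rw [mul_inv_rev, T.inv hx.1, T.inv hy.1]
  calc x * y * x * (y * x) = x * (y * x * y) * x := by simp only [mul_assoc]
    _ = x * (x * y * x) * x := by rw [T.w_braid hd hx hy h]
    _ = y := by simp only [mul_assoc, invol_cancel (T.sq hx.1), T.sq hx.1, mul_one]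

/-- Two commuting neighbours have a neighbour in common commuting with neither. -/
theorem exists_between (T : TC D F) {q x y : G} (hq : q ∈ D) (hx : x ∈ adj D q) (hy : y ∈ adj D q) :
    ∃ z ∈ adj D q, ¬ Commute x z ∧ ¬ Commute y z := by
  obtain ⟨π, s, L, M⟩ := T.loc q hq
  have hF := T.card
  obtain ⟨u, hu, rfl⟩ := M.surj x hx
  obtain ⟨w, hw, rfl⟩ := M.surj y hy
  have key : ∃ c : Fin 6 → F, Iso c ∧ hf c u ≠ 0 ∧ hf c w ≠ 0 := by
    by_cases huw : hf u w = 0
    · by_cases hdep : ∃ k : F, w = k • u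
      · obtain ⟨k, rfl⟩ := hdep
        have hk : k ≠ 0 := fun h => hw.1 (by rw [h, zero_smul])
        obtain ⟨z, hz, -⟩ := exists_partner hF (k := 0) (b := Fin.elim0) linearIndependent_empty_type hu
          (fun i => i.elim0) (by simp [Submodule.span_empty, hu.1])
        obtain ⟨l, hl⟩ := exists_iso_shift hF hu.2 (show hf z u ≠ 0 by rw [hf_eq_one_symm hF hz.2]; exact one_ne_zero)
        refine ⟨_, hl, ?_, ?_⟩ <;>
          simp [hf_add_left hF, hf_smul_left hF, hf_smul_right hF, hu.2, hf_eq_one_symm hF hz.2, hk]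
      · have hP : OrthPair u w := ⟨hu, hw, huw, fun k e => hdep ⟨k, e⟩⟩
        obtain ⟨z, hz⟩ := exists_dual hF hP.li ![1, 1]
        have h1 : hf z u = 1 := hz 0
        have h2 : hf z w = 1 := hz 1
        obtain ⟨l, hl⟩ := exists_iso_shift hF hu.2 (show hf z u ≠ 0 by rw [h1]; exact one_ne_zero)
        refine ⟨_, hl, ?_, ?_⟩ <;> simp [hf_add_left hF, hf_smul_left hF, hu.2, huw, h1, h2]
    · refine ⟨_, hw.act (tv hF u), ?_, ?_⟩ <;>
        rw [act_tv hF hu.2, hf_add_left hF, hf_smul_left hF]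
      · rw [hu.2, mul_zero, add_zero]; exact fun e => huw ((hf_eq_zero_symm hF).1 e)
      · rw [hw.2, zero_add, mul_ne_zero_iff]; exact ⟨fun e => huw ((hf_eq_zero_symm hF).1 e), huw⟩
  obtain ⟨c, hc, h1, h2⟩ := key
  exact ⟨_, M.mem c hc, fun h => h1 ((hf_eq_zero_symm hF).1 ((M.comm u c hu hc).1 h)),
    fun h => h2 ((hf_eq_zero_symm hF).1 ((M.comm w c hw hc).1 h))⟩

theorem w_transitive (T : TC D F) {d x y : G} (hd : d ∈ D) (hx : x ∈ Wset D d) (hy : y ∈ Wset D d) :
    ∃ g ∈ Hsub D d, g * x * g⁻¹ = y := by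
  have hnc : ∀ {x y}, x ∈ Wset D d → y ∈ Wset D d → ¬ Commute x y → ∃ g ∈ Hsub D d, g * x * g⁻¹ = y :=
    fun hx hy h => ⟨_, mul_mem (w_le_h hx) (w_le_h hy), T.w_conj_noncomm hd hx hy h⟩
  by_cases hc : Commute x y
  swap
  · exact hnc hx hy hc
  by_cases hxy : x = y
  · exact ⟨1, one_mem _, by simp [hxy]⟩
  obtain ⟨π, s, -, M⟩ := T.loc x hx.1
  obtain ⟨v, hv, hve⟩ := M.surj y ⟨hy.1, fun e => hxy e.symm, hc⟩
  obtain ⟨pt, M'⟩ := T.exists_model hx.1
  -- a member commuting with both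
  obtain ⟨q, hq⟩ : (adj D x ∩ adj D y).Nonempty := by
    rw [← Set.ncard_pos (Set.toFinite _), T.common_ncard hx.1 ⟨hy.1, fun e => hxy e.symm, hc⟩]
    norm_num
  have hqW := T.adj_subset_w hd hx hq.1
  obtain ⟨z, hz, h1, h2⟩ := T.exists_between hq.1.1 (adj_symm hx.1 hq.1) (adj_symm hy.1 hq.2)
  have hzW := T.adj_subset_w hd hqW hz
  obtain ⟨g1, hg1, e1⟩ := hnc hx hzW h1
  obtain ⟨g2, hg2, e2⟩ := hnc hzW hy fun h => h2 h.symm
  exact ⟨g2 * g1, mul_mem hg2 hg1, by rw [← e2, ← e1]; group⟩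

theorem cen_le_h (T : TC D F) {d x : G} (hd : d ∈ D) (hx : x ∈ Wset D d) : Cen x ≤ Hsub D d := by
  rw [← T.loc_eq hx.1]
  exact Subgroup.closure_mono (T.adj_subset_w hd hx)

/-- An element carrying a member of the component into it lies in its subgroup. -/
theorem mem_h_of_conj (T : TC D F) {d g u : G} (hd : d ∈ D) (hu : u ∈ Wset D d)
    (hgu : g * u * g⁻¹ ∈ Wset D d) : g ∈ Hsub D d := by
  obtain ⟨h, hh, e⟩ := T.w_transitive hd hu hgu
  have h1 : h⁻¹ * g ∈ Cen u := by
    refine Subgroup.mem_centralizer_singleton_iff.2 ?_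
    calc h⁻¹ * g * u = h⁻¹ * (g * u * g⁻¹) * g := by group
      _ = h⁻¹ * (h * u * h⁻¹) * g := by rw [e]
      _ = u * (h⁻¹ * g) := by group
  rw [show g = h * (h⁻¹ * g) by group]
  exact mul_mem hh (T.cen_le_h hd hu h1)

theorem exists_far (T : TC D F) {d : G} (hd : d ∈ D) : ∃ c ∈ Wset D d, ¬ Commute d c := by
  obtain ⟨q, hq⟩ := T.adj_nonempty hd
  obtain ⟨z, hz, h, -⟩ := T.exists_between hq.1 (adj_symm hd hq) (adj_symm hd hq)
  exact ⟨z, T.adj_subset_w hd (T.adj_subset_w hd (self_mem_w hd) hq) hz, h⟩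

theorem cls_h (T : TC D F) {d : G} (hd : d ∈ D) : Cfsg.IsThreeTranspositionClass (DH D d) := by
  refine ⟨⟨fun x hx => by rw [← Subgroup.orderOf_coe]; exact T.order (w_sub hx), fun x hx y hy => ?_⟩,
    ⟨⟨d, w_le_h (self_mem_w hd)⟩, self_mem_w hd, ?_⟩, ?_⟩
  · by_cases h : Commute (x : G) (y : G)
    · refine Or.inl (Subtype.ext ?_)
      rw [SubgroupClass.coe_pow, Subgroup.coe_mul, h.mul_pow, pow_two, pow_two, T.sq (w_sub hx),
        T.sq (w_sub hy), one_mul, Subgroup.coe_one]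
    · refine Or.inr (Subtype.ext ?_)
      rw [SubgroupClass.coe_pow, Subgroup.coe_mul, Subgroup.coe_one]
      calc ((x : G) * y) ^ 3 = ((x : G) * y * x) * ((y : G) * x * y) := by
            simp only [pow_succ, pow_zero, one_mul, mul_assoc]
        _ = ((y : G) * x * y) * ((y : G) * x * y) := by rw [T.w_braid hd hx hy h]
        _ = 1 := by simp only [mul_assoc, invol_cancel (T.sq (w_sub hy)), invol_cancel (T.sq (w_sub hx)),
            T.sq (w_sub hy)]
  · ext x
    constructor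
    · intro hx
      obtain ⟨g, hg, e⟩ := T.w_transitive hd (self_mem_w hd) hx
      exact isConj_iff.2 ⟨⟨g, hg⟩, Subtype.ext e⟩
    · intro hx
      obtain ⟨g, rfl⟩ := isConj_iff.1 hx
      exact T.h_conj hd g.2 (self_mem_w hd)
  · refine Subgroup.map_injective (Hsub D d).subtype_injective ?_
    rw [MonoidHom.map_closure, ← MonoidHom.range_eq_map, Subgroup.range_subtype]
    show _ = Subgroup.closure (Wset D d)
    refine congrArg Subgroup.closure (Set.ext fun x => ⟨?_, fun hx => ⟨⟨x, w_le_h hx⟩, hx, rfl⟩⟩)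
    rintro ⟨y, hy, rfl⟩
    exact hy

theorem conn_h (T : TC D F) {d : G} (hd : d ∈ D) : ConnectedComm (DH D d) := by
  intro x hx y hy
  rcases T.w_pair hd hx hy with h | ⟨q, hq1, hq2⟩
  · exact Relation.ReflTransGen.single ⟨hx, hy, commute_coe_iff.2 h⟩
  · have hqW := T.adj_subset_w hd hx hq1
    refine Relation.ReflTransGen.head (b := (⟨q, w_le_h hqW⟩ : ↥(Hsub D d)))
      ⟨hx, hqW, commute_coe_iff.2 hq1.2.2⟩ (Relation.ReflTransGen.single ⟨hqW, hy, commute_coe_iff.2 hq2.2.2.symm⟩)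

theorem center_cen (T : TC D F) {a : G} (ha : a ∈ D) {z : ↥(Cen a)} (hz : z ∈ Subgroup.center ↥(Cen a)) :
    (z : G) = 1 ∨ (z : G) = a := by
  obtain ⟨π, s, L, -⟩ := T.loc a ha
  refine (L.ker z).1 ?_
  have h1 : π z ∈ Subgroup.center (Cfsg.PSU 6 F 2) := Subgroup.mem_center_iff.2 fun k => by
    obtain ⟨y, rfl⟩ := L.surj k
    rw [← map_mul, ← map_mul, Subgroup.mem_center_iff.1 hz y]
  rwa [center_psu_eq_bot T.card, Subgroup.mem_bot] at h1

theorem center_h (T : TC D F) {d : G} (hd : d ∈ D) : Subgroup.center ↥(Hsub D d) = ⊥ := by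
  refine eq_bot_iff.2 fun z hz => ?_
  have hdW := self_mem_w (D := D) hd
  have hzd : (z : G) ∈ Cen d := Subgroup.mem_centralizer_singleton_iff.2
    (congrArg Subtype.val (Subgroup.mem_center_iff.1 hz ⟨d, w_le_h hdW⟩)).symm
  have hzc : (⟨z, hzd⟩ : ↥(Cen d)) ∈ Subgroup.center ↥(Cen d) := Subgroup.mem_center_iff.2 fun y =>
    Subtype.ext (by simpa using congrArg Subtype.val (Subgroup.mem_center_iff.1 hz ⟨y, T.cen_le_h hd hdW y.2⟩))
  rcases T.center_cen hd hzc with h | h
  · exact Subgroup.mem_bot.2 (Subtype.ext h)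
  · exfalso
    obtain ⟨q, hq⟩ := T.adj_nonempty hd
    obtain ⟨g, hg, e⟩ := T.w_transitive hd hdW (T.adj_subset_w hd hdW hq)
    have h1 := congrArg Subtype.val (Subgroup.mem_center_iff.1 hz ⟨g, hg⟩)
    simp only [Subgroup.coe_mul] at h1
    rw [show (z : G) = d from h] at h1
    exact hq.2.1 (by rw [← e, h1, mul_inv_cancel_right])

/-- The normal 2-subgroups of the component group are trivial. -/
theorem normal_two_h (T : TC D F) {d : G} (hd : d ∈ D) (N : Subgroup ↥(Hsub D d)) (hN : N.Normal)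
    (hp : IsPGroup 2 N) : N = ⊥ := by
  by_contra hne
  have : Fact (Nat.Prime 2) := ⟨Nat.prime_two⟩
  have hdW := self_mem_w (D := D) hd
  have hle := T.cen_le_h hd hdW
  have : Nontrivial N := (Subgroup.nontrivial_iff_ne_bot N).2 hne
  have := hp.center_nontrivial
  obtain ⟨z₀, hz₀⟩ := exists_ne (1 : Subgroup.center N)
  obtain ⟨k, hk⟩ := (hp.to_subgroup (Subgroup.center N)) z₀
  -- an involution in the centre of N
  obtain ⟨z, hz2, hz1⟩ : ∃ z : Subgroup.center N, z * z = 1 ∧ z ≠ 1 := by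
    induction k generalizing z₀ with
    | zero => exact absurd (by simpa using hk) hz₀
    | succ k ih =>
      by_cases h : z₀ * z₀ = 1
      · exact ⟨z₀, h, hz₀⟩
      · exact ih (z₀ * z₀) h (by rw [← pow_two, ← pow_mul, ← pow_succ']; exact hk)
  set dH : ↥(Hsub D d) := ⟨d, w_le_h hdW⟩ with hdH
  set z' : ↥(Hsub D d) := ((z : N) : ↥(Hsub D d)) with hz'
  have hzN : z' ∈ N := (z : N).2
  have hz'2 : z' * z' = 1 := congrArg (fun t : Subgroup.center N => ((t : N) : ↥(Hsub D d))) hz2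
  have hzc : ∀ m ∈ N, z' * m = m * z' := fun m hm =>
    (congrArg Subtype.val (Subgroup.mem_center_iff.1 z.2 ⟨m, hm⟩)).symm
  have hd2 : dH * dH = 1 := Subtype.ext (T.sq hd)
  -- an involution of N centralising d
  obtain ⟨m, hm, hm1, hmd⟩ : ∃ m ∈ N, m ≠ 1 ∧ dH * m = m * dH := by
    have hcj : dH * z' * dH⁻¹ ∈ N := hN.conj_mem _ hzN dH
    rw [inv_eq_of_mul_eq_one_left hd2] at hcj
    by_cases h : dH * z' * dH = z'
    · refine ⟨z', hzN, fun e => hz1 (Subtype.ext (Subtype.ext e)), ?_⟩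
      conv_rhs => rw [← h]
      rw [mul_assoc, mul_assoc, hd2, mul_one]
    · refine ⟨z' * (dH * z' * dH), mul_mem hzN hcj, fun e => h ?_, ?_⟩
      · rw [eq_inv_of_mul_eq_one_right e, inv_eq_of_mul_eq_one_left hz'2]
      · have hc := hzc _ hcj
        calc dH * (z' * (dH * z' * dH)) = (dH * z' * dH) * (z' * dH) := by simp only [mul_assoc]
          _ = (dH * z' * dH) * z' * dH := by simp only [mul_assoc]
          _ = z' * (dH * z' * dH) * dH := by rw [hc]
  have hmC : (m : G) ∈ Cen d := Subgroup.mem_centralizer_singleton_iff.2 (congrArg Subtype.val hmd).symm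
  let ι : ↥(Cen d) →* ↥(Hsub D d) := Subgroup.inclusion hle
  have hsub : ∀ x : ↥(Cen d), x ∈ N.comap ι → (x : G) = 1 ∨ (x : G) = d := fun x hx =>
    T.normal_pgroup hd (N.comap ι) (hN.comap ι)
      (hp.comap_of_injective ι (Subgroup.inclusion_injective hle)) hx
  rcases hsub ⟨m, hmC⟩ hm with h | h
  · exact hm1 (Subtype.ext h)
  have hdN : dH ∈ N := (show m = dH from Subtype.ext h) ▸ hm
  have hWN : DH D d ⊆ N := by
    intro x hx
    obtain ⟨g, hg, e⟩ := T.w_transitive hd hdW hx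
    rw [show x = (⟨g, hg⟩ : ↥(Hsub D d)) * dH * (⟨g, hg⟩)⁻¹ from Subtype.ext e.symm]
    exact hN.conj_mem _ hdN _
  have htop : N = ⊤ := top_le_iff.1 ((T.cls_h hd).2.2 ▸ (Subgroup.closure_le N).2 hWN)
  obtain ⟨π, s, L, M⟩ := T.loc d hd
  have hv := (U62Mult.orthPair_std (F := F) T.card).1
  have hv' : d * s p1 ∈ Cen d := mul_mem L.d_mem (L.mem _ hv)
  rcases hsub ⟨_, hv'⟩ (by rw [htop]; trivial) with h | h
  · exact T.ne_one (M.mem _ hv).1 h
  · exact (M.mem _ hv).2.1 h

/-- The normal 3-subgroups of the component group are trivial. -/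
theorem normal_three_h (T : TC D F) {d : G} (hd : d ∈ D) (N : Subgroup ↥(Hsub D d)) (hN : N.Normal)
    (hp : IsPGroup 3 N) : N = ⊥ := by
  have : Fact (Nat.Prime 3) := ⟨by norm_num⟩
  have hdW := self_mem_w (D := D) hd
  have hinv : ∀ x ∈ DH D d, ∀ n ∈ N, x * n * x⁻¹ = n⁻¹ := by
    intro x hx
    have hxG := T.order (w_sub hx)
    have hle := T.cen_le_h hd (show (x : G) ∈ Wset D d from hx)
    let ι : ↥(Cen (x : G)) →* ↥(Hsub D d) := Subgroup.inclusion hle
    have hx2 : x * x = 1 := Subtype.ext (T.sq (w_sub hx))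
    have hfree : ∀ n ∈ N, x * n * x⁻¹ = n → n = 1 := by
      intro n hn e
      have hnC : (n : G) ∈ Cen (x : G) := Subgroup.mem_centralizer_singleton_iff.2
        (congrArg Subtype.val (mul_inv_eq_iff_eq_mul.1 e)).symm
      rcases T.normal_pgroup (w_sub hx) (N.comap ι) (hN.comap ι)
        (hp.comap_of_injective ι (Subgroup.inclusion_injective hle)) (x := ⟨n, hnC⟩) hn with h | h
      · exact Subtype.ext h
      · exfalso
        obtain ⟨k, hk⟩ := hp ⟨n, hn⟩
        have h3 : orderOf n ∣ 3 ^ k := orderOf_dvd_of_pow_eq_one (congrArg Subtype.val hk)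
        rw [← Subgroup.orderOf_coe, show (n : G) = x from h, hxG] at h3
        have := Nat.Prime.dvd_of_dvd_pow Nat.prime_two h3
        norm_num at this
    let f : N → N := fun n => ⟨(n : ↥(Hsub D d))⁻¹ * (x * n * x⁻¹), mul_mem (inv_mem n.2) (hN.conj_mem _ n.2 x)⟩
    have hinj : Function.Injective f := by
      intro a b hab
      have e : (a : ↥(Hsub D d))⁻¹ * (x * a * x⁻¹) = (b : ↥(Hsub D d))⁻¹ * (x * b * x⁻¹) := congrArg Subtype.val hab
      have h1 := hfree ((b : ↥(Hsub D d)) * (a : ↥(Hsub D d))⁻¹) (mul_mem b.2 (inv_mem a.2)) (by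
        calc x * (↑b * (↑a)⁻¹) * x⁻¹ = (x * ↑b * x⁻¹) * (x * ↑a * x⁻¹)⁻¹ := by group
          _ = (↑b * ((↑b)⁻¹ * (x * ↑b * x⁻¹))) * (↑a * ((↑a)⁻¹ * (x * ↑a * x⁻¹)))⁻¹ := by group
          _ = ↑b * (↑a)⁻¹ := by rw [← e]; group)
      exact Subtype.ext (mul_inv_eq_one.1 h1).symm
    intro n hn
    obtain ⟨m, hm⟩ := (Finite.injective_iff_surjective.1 hinj) ⟨n, hn⟩
    have e : n = (m : ↥(Hsub D d))⁻¹ * (x * m * x⁻¹) := congrArg Subtype.val hm.symm
    rw [e, inv_eq_of_mul_eq_one_left hx2]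
    simp only [mul_inv_rev, inv_inv, mul_assoc, invol_cancel hx2, inv_eq_of_mul_eq_one_left hx2, hx2, mul_one]
  refine eq_bot_iff.2 fun n hn => Subgroup.mem_bot.2 ?_
  -- every element of the centraliser of d acts on N as one or as minus one
  let P : ↥(Hsub D d) → Prop := fun x => (∀ m ∈ N, x * m * x⁻¹ = m) ∨ ∀ m ∈ N, x * m * x⁻¹ = m⁻¹
  have hP : ∀ x, P x := by
    intro x
    have hx : x ∈ Subgroup.closure (DH D d) := by rw [(T.cls_h hd).2.2]; trivial
    induction hx using Subgroup.closure_induction'' with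
    | one => exact Or.inl fun m _ => by group
    | mem y hy => exact Or.inr (hinv y hy)
    | inv_mem y hy =>
      refine Or.inr fun m hm => ?_
      have e : y⁻¹ = y := inv_eq_of_mul_eq_one_left (Subtype.ext (T.sq (w_sub hy)))
      rw [e]
      simpa [e] using hinv y hy m hm
    | mul a b _ _ ha hb =>
      have e : ∀ m, a * b * m * (a * b)⁻¹ = a * (b * m * b⁻¹) * a⁻¹ := fun m => by group
      rcases ha with ha | ha <;> rcases hb with hb | hb
      · exact Or.inl fun m hm => by rw [e, hb m hm, ha m hm]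
      · exact Or.inr fun m hm => by rw [e, hb m hm, ha _ (inv_mem hm)]
      · exact Or.inr fun m hm => by rw [e, hb m hm, ha m hm]
      · exact Or.inl fun m hm => by rw [e, hb m hm, ha _ (inv_mem hm), inv_inv]
  have hle := T.cen_le_h hd hdW
  have hcomm : commutator ↥(Cen d) ≤
      (Subgroup.centralizer ({n} : Set ↥(Hsub D d))).comap (Subgroup.inclusion hle) := by
    rw [commutator_def, Subgroup.commutator_le]
    intro a _ b _
    rw [Subgroup.mem_comap, Subgroup.mem_centralizer_singleton_iff, commutatorElement_def, map_mul, map_mul,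
      map_mul, map_inv, map_inv]
    set α := Subgroup.inclusion hle a
    set β := Subgroup.inclusion hle b
    refine mul_inv_eq_iff_eq_mul.1 ?_
    rw [show α * β * α⁻¹ * β⁻¹ * n * (α * β * α⁻¹ * β⁻¹)⁻¹
      = α * (β * (α⁻¹ * (β⁻¹ * n * β) * α) * β⁻¹) * α⁻¹ by group]
    have inv' : ∀ {y : ↥(Hsub D d)}, ∀ m ∈ N, y⁻¹ * m * y = y * m * y⁻¹ := by
      intro y m hm
      have hm' : y⁻¹ * m * y ∈ N := by simpa using hN.conj_mem m hm y⁻¹
      rcases hP y with h | h
      · have h1 := h _ hm'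
        rw [show y * (y⁻¹ * m * y) * y⁻¹ = m by group] at h1
        rw [h m hm, ← h1]
      · have h1 := h _ hm'
        rw [show y * (y⁻¹ * m * y) * y⁻¹ = m by group] at h1
        rw [h m hm]
        exact inv_inj.1 (by rw [inv_inv]; exact h1.symm)
    rcases hP α with hα | hα <;> rcases hP β with hβ | hβ
    all_goals
      simp only [inv' n hn, hβ n hn, inv' _ (inv_mem hn), hα n hn, hα _ (inv_mem hn), hβ _ (inv_mem hn), inv_inv]
  have h1 := hcomm (T.perfect d hd ▸ Subgroup.mem_top (⟨d, Subgroup.mem_centralizer_singleton_iff.2 rfl⟩ : ↥(Cen d)))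
  rw [Subgroup.mem_comap, Subgroup.mem_centralizer_singleton_iff] at h1
  have h2 := hinv ⟨d, w_le_h hdW⟩ (self_mem_w hd) n hn
  rw [show (Subgroup.inclusion hle ⟨d, _⟩ : ↥(Hsub D d)) = ⟨d, w_le_h hdW⟩ from rfl] at h1
  rw [h1, mul_inv_cancel_right] at h2
  obtain ⟨k, hk⟩ := hp ⟨n, hn⟩
  exact eq_one_of_pow_coprime (m := 2) (n := 3 ^ k) (by rw [pow_two]; exact mul_eq_one_iff_eq_inv.2 h2)
    (congrArg Subtype.val hk) (Nat.Coprime.pow_right _ (by norm_num))

theorem cores_h (T : TC D F) {d : G} (hd : d ∈ D) : CentralCores ↥(Hsub D d) := by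
  constructor
  · rw [T.normal_two_h hd _ (Cores.pCore_normal 2 _) (Cores.isPGroup_pCore 2 _)]; exact bot_le
  · rw [T.normal_three_h hd _ (Cores.pCore_normal 3 _) (Cores.isPGroup_pCore 3 _)]; exact bot_le

end TC

end Cfsg.Agent.TransCentFi22
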