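/-
The common neighbours of two non-commuting members, identified with the 126 points of the table.

Main result (namespace `Cfsg.Agent.TransCentFi22.TC`): `exists_far_coords`.

Every line through a common neighbour `q` meets the common neighbourhood in exactly one further point: in the model at
`q` the same line passes through one member and contains exactly one point orthogonal to the other.
-/
import Cfsg.Agent.Lib.TransCentFi22.Component
import Cfsg.Agent.Lib.TransCentFi22.Six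

set_option autoImplicit false

namespace Cfsg.Agent.TransCentFi22

open Cfsg.Agent.Unitary Cfsg.Agent.U62Cover Cfsg.Agent.ThreeTrans Cfsg.Agent.ThreeTransSU Cfsg.Agent.FischerM22
open Cfsg.Agent.SU32 Cfsg.Agent.ThreeTransSU.GensCert

variable {G : Type*} [Group G] [Finite G] {F : Type} [Field F] [Fintype F] {D : Set G}

theorem good_deg_fin : (List.finRange 126).all (fun i => decide
    (((List.finRange 126).filter fun j => decide (hk 6 (goodPt j) (goodPt i) = .z)).length = 46)) = true := by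
  decide +kernel

namespace TC

/-- Lines through a common neighbour `q`: the point orthogonal to `c`, and its uniqueness. -/
theorem line_transfer (T : TC D F) {d c Q X : G} {π : ↥(Cen d) →* Cfsg.PSU 6 F 2} {s : (Fin 6 → F) → G}
    (L : DLocal d π s) (M : PointModel D d fun v => d * s v) {q x : Fin 6 → F} (hd : d ∈ D)
    (hQ : Q ∈ common D d c) (hdc : ¬ Commute d c) (hcD : c ∈ D) (hqx : OrthPair q x) (eQ : Q = d * s q) (eX : X = d * s x) :
    (∃ k : F, d * s (x + k • q) ∈ common D d c) ∧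
      (X ∈ common D d c → ∀ a b : F, a ≠ 0 → b ≠ 0 → d * s (a • q + b • x) ∉ common D d c) := by
  have hF := T.card
  obtain ⟨ω, -, hω⟩ := exists_omega hF
  have hQD := hQ.1.1
  obtain ⟨pt, M'⟩ := T.exists_model hQD
  have hdQ := adj_symm hd hQ.1
  have hXd : X ∈ adj D d := eX ▸ M.mem x hqx.2.1
  have hXQ : X ∈ adj D Q := ⟨hXd.1, fun e => by
    rw [eQ, eX] at e
    obtain ⟨k, -, hk⟩ := M.inj q x hqx.1 hqx.2.1 e.symm
    exact hqx.2.2.2 k hk, by rw [eQ, eX]; exact (M.comm q x hqx.1 hqx.2.1).2 hqx.2.2.1⟩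
  have hcQ : c ∈ adj D Q := ⟨hcD, fun e => hdc (e ▸ hQ.1.2.2), hQ.2.2.2.symm⟩
  obtain ⟨u', hu', eu⟩ := M'.surj d hdQ
  obtain ⟨x', hx', ex⟩ := M'.surj X hXQ
  obtain ⟨c', hc', ec⟩ := M'.surj c hcQ
  have hux : OrthPair u' x' := ⟨hu', hx', (M'.comm u' x' hu' hx').1 (by rw [eu, ex]; exact hXd.2.2), fun k e => by
    have hk : k ≠ 0 := fun h0 => hx'.1 (by rw [e, h0, zero_smul])
    exact hXd.2.1 (by rw [← ex, ← eu, e, M'.smul u' k hu' hk])⟩
  have huc : hf u' c' ≠ 0 := fun h => hdc (by rw [← eu, ← ec]; exact (M'.comm u' c' hu' hc').2 h)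
  constructor
  · set k := hf x' c' * (hf u' c')⁻¹ with hk
    set y' := x' + k • u' with hy'
    have hy0 : hf y' c' = 0 := by
      rw [hy', hf_add_left hF, hf_smul_left hF, hk, mul_assoc, inv_mul_cancel₀ huc, mul_one, add_self hF]
    have hyI : Iso y' := (hux.shift hF k).2.1
    have hyu : hf y' u' = 0 := by
      rw [hy', hf_add_left hF, hf_smul_left hF, hu'.2, (hf_eq_zero_symm hF).1 hux.2.2.1]; simp
    have hYQ := M'.mem y' hyI
    have hYd : pt y' ∈ adj D d := ⟨hYQ.1, fun e => by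
      rw [← eu] at e
      obtain ⟨m, -, hm⟩ := M'.inj u' y' hu' hyI e.symm
      refine hux.2.2.2 (m - k) ?_
      rw [sub_smul, ← hm, hy', add_sub_cancel_right], by
        rw [← eu]; exact ((M'.comm y' u' hyI hu').2 hyu).symm⟩
    have hYc : pt y' ∈ adj D c := ⟨hYQ.1, fun e => hdc (e ▸ hYd.2.2), by
      rw [← ec]; exact ((M'.comm y' c' hyI hc').2 hy0).symm⟩
    obtain ⟨y, hy, ey⟩ := M.surj _ hYd
    obtain ⟨α, β, e⟩ := span_of_iso_perp hF hω hqx.li (x := y) fun z hz hzq hzx => by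
      refine (M.comm z y hz hy).1 ?_
      rw [ey]
      by_cases hzQ : d * s z = Q
      · rw [hzQ]; exact hYQ.2.2
      have hZQ : d * s z ∈ adj D Q := ⟨(M.mem z hz).1, hzQ, by
        rw [eQ]; exact ((M.comm z q hz hqx.1).2 hzq).symm⟩
      obtain ⟨z', hz', ez⟩ := M'.surj _ hZQ
      rw [← ez]
      refine (M'.comm z' y' hz' hyI).2 ?_
      rw [hy', hf_add_right hF, hf_smul_right hF, (M'.comm z' x' hz' hx').1 (by
          rw [ez, ex, eX]; exact (M.comm z x hz hqx.2.1).2 hzx),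
        (M'.comm z' u' hz' hu').1 (by rw [ez, eu]; exact (M.mem z hz).2.2.symm)]
      simp
    have hβ : β ≠ 0 := fun h0 => hYQ.2.1 (by
      have hα : α ≠ 0 := fun hα => hy.1 (by rw [e, h0, hα]; simp)
      rw [← ey, e, h0, zero_smul, add_zero, eQ, L.smul q α hqx.1 hα])
    refine ⟨β⁻¹ * α, ?_⟩
    rw [← L.smul _ β (hqx.shift hF _).2.1 hβ, smul_add, smul_smul, ← mul_assoc,
      mul_inv_cancel₀ hβ, one_mul, add_comm, ← e, ey]
    exact ⟨hYd, hYc⟩
  · intro hXc a b ha hb hmem
    set y := a • q + b • x with hy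
    have hyI : Iso y := by
      rw [hy, show a • q + b • x = b • (x + (b⁻¹ * a) • q) by
        rw [smul_add, smul_smul, ← mul_assoc, mul_inv_cancel₀ hb, one_mul, add_comm]]
      exact (hqx.shift hF _).2.1.smul hF hb
    have hYQ : d * s y ∈ adj D Q := ⟨hmem.1.1, fun e => by
      rw [eQ] at e
      obtain ⟨m, -, hm⟩ := M.inj q y hqx.1 hyI e.symm
      obtain ⟨-, h1⟩ := LinearIndependent.pair_iff.1 hqx.li (a - m) b (by
        rw [sub_smul, ← hm, hy]; abel)
      exact hb h1, by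
        rw [eQ]; refine (M.comm q y hqx.1 hyI).2 ?_
        rw [hy, hf_add_right hF, hf_smul_right hF, hf_smul_right hF, hqx.1.2, hqx.2.2.1]; simp⟩
    obtain ⟨y', hy', ey⟩ := M'.surj _ hYQ
    obtain ⟨α, β, e⟩ := span_of_iso_perp hF hω hux.li (x := y') fun z' hz' hzu hzx => by
      refine (M'.comm z' y' hz' hy').1 ?_
      rw [ey]
      by_cases hzd : pt z' = d
      · rw [hzd]; exact (M.mem y hyI).2.2
      have hZd : pt z' ∈ adj D d := ⟨(M'.mem z' hz').1, hzd, by
        rw [← eu]; exact ((M'.comm z' u' hz' hu').2 hzu).symm⟩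
      obtain ⟨z, hz, ez⟩ := M.surj _ hZd
      rw [← ez]
      refine (M.comm z y hz hyI).2 ?_
      rw [hy, hf_add_right hF, hf_smul_right hF, hf_smul_right hF, (M.comm z q hz hqx.1).1 (by
          rw [ez, ← eQ]; exact (M'.mem z' hz').2.2.symm),
        (M.comm z x hz hqx.2.1).1 (by rw [ez, ← eX, ← ex]; exact (M'.comm z' x' hz' hx').2 hzx)]
      simp
    have h0 := (M'.comm y' c' hy' hc').1 (by rw [ey, ec]; exact hmem.2.2.2.symm)
    have hxc := (M'.comm x' c' hx' hc').1 (by rw [ex, ec]; exact hXc.2.2.2.symm)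
    rw [e, hf_add_left hF, hf_smul_left hF, hf_smul_left hF, hxc, mul_zero, add_zero] at h0
    have hα : α = 0 := (mul_eq_zero.1 h0).resolve_right huc
    rw [hα, zero_smul, zero_add] at e
    have hβ : β ≠ 0 := fun h' => hy'.1 (by rw [e, h', zero_smul])
    rw [e, M'.smul x' β hx' hβ, ex, eX] at ey
    obtain ⟨m, -, hm⟩ := M.inj x y hqx.2.1 hyI ey
    obtain ⟨h1, -⟩ := LinearIndependent.pair_iff.1 hqx.li a (b - m) (by
      rw [sub_smul, ← hm, hy]; abel)
    exact ha h1

/-- The common neighbours of two non-commuting members. -/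
theorem exists_far_coords (T : TC D F) {d c : G} (hd : d ∈ D) (hc : c ∈ D) (hdc : ¬ Commute d c)
    (hn : (common D d c).Nonempty) :
    ∃ ψ : Fin 126 → G, Function.Injective ψ ∧ Set.range ψ = common D d c ∧
      ∀ i j, ψ i * ψ j * (ψ i)⁻¹ = ψ (goodTbl i j) := by
  classical
  have hF := T.card
  obtain ⟨π, s, L, M⟩ := T.loc d hd
  set V : Set (Fin 6 → F) := {v | Iso v ∧ d * s v ∈ common D d c} with hVdef
  have hconj : ∀ {u v : Fin 6 → F}, Iso u → Iso v →
      d * s u * (d * s v) * (d * s u)⁻¹ = d * s (v + hf v u • u) := fun {u v} hu hv => by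
    have h1 := L.conj_s hu hv
    rw [act_tv L.card hu.2] at h1
    rw [← h1, mul_inv_rev, show d * s u * (d * s v) * ((s u)⁻¹ * d⁻¹) = d * (s u * d) * s v * (s u)⁻¹ * d⁻¹ by
      simp only [mul_assoc], ← (L.d_comm (L.mem u hu)).eq]
    rw [show d * (d * s u) * s v * (s u)⁻¹ * d⁻¹ = d * d * (s u * s v * (s u)⁻¹) * d⁻¹ by simp only [mul_assoc],
      L.d_sq, one_mul, L.d_inv]
    exact (L.d_comm (mul_mem (mul_mem (L.mem u hu) (L.mem v hv)) (inv_mem (L.mem u hu)))).eq.symm
  have hV : Six V := by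
    refine ⟨hF, ?_, fun v hv => hv.1, fun v hv k hk => ⟨hv.1.smul hF hk, by rw [L.smul v k hv.1 hk]; exact hv.2⟩,
      fun u hu w hw => ?_, fun q hq x hx hqx a b ha hb h => ?_, fun q hq x hqx => ?_⟩
    · obtain ⟨y, hy⟩ := hn
      obtain ⟨v, hv, e⟩ := M.surj y hy.1
      exact ⟨v, hv, e.symm ▸ hy⟩
    · refine ⟨?_, ?_⟩
      · rw [← act_tv hF hu.1.2]; exact hw.1.act _
      · rw [← hconj hu.1 hw.1]
        have h1 := T.conj_adj_mem (d * s u) hw.2.1
        have h2 := T.conj_adj_mem (d * s u) hw.2.2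
        rw [(hu.2.1.2.2.symm).eq, mul_inv_cancel_right] at h1
        rw [(hu.2.2.2.2.symm).eq, mul_inv_cancel_right] at h2
        exact ⟨h1, h2⟩
    · exact (T.line_transfer L M hd hq.2 hdc hc hqx rfl rfl).2 hx.2 a b ha hb h.2
    · obtain ⟨k, hk⟩ := (T.line_transfer L M hd hq.2 hdc hc hqx rfl rfl).1
      exact ⟨k, (hqx.shift hF k).2.1, hk⟩
  obtain ⟨w, hwV, hwi, hwo, hwt⟩ := hV.exists_coords
  set ψ : Fin 126 → G := fun i => d * s (w i) with hψ
  have hinj : Function.Injective ψ := fun i j h => by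
    obtain ⟨k, -, hk⟩ := M.inj _ _ (hwV i).1 (hwV j).1 h
    exact hwi i j k hk
  have hcomm : ∀ i j, Commute (ψ i) (ψ j) ↔ hk 6 (goodPt i) (goodPt j) = .z := fun i j =>
    (M.comm _ _ (hwV i).1 (hwV j).1).trans (hwo i j)
  refine ⟨ψ, hinj, ?_, fun i j => ?_⟩
  · refine Set.Subset.antisymm (by rintro _ ⟨i, rfl⟩; exact (hwV i).2) ?_
    have hdeg := good_deg_fin
    simp only [List.all_eq_true, List.mem_finRange, forall_const, decide_eq_true_eq] at hdeg
    refine fun y hy => T.common_connected hd hc hdc (P := fun y => y ∈ Set.range ψ) ?_ (hwV 0).2 ⟨0, rfl⟩ y hy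
    rintro q hq r hr hqr ⟨i, rfl⟩
    by_cases hri : r = ψ i
    · exact ⟨i, hri.symm⟩
    set J : Finset (Fin 126) :=
      (((List.finRange 126).filter fun j => decide (hk 6 (goodPt j) (goodPt i) = .z)).toFinset).erase i with hJ
    have hi : i ∈ ((List.finRange 126).filter fun j => decide (hk 6 (goodPt j) (goodPt i) = .z)).toFinset := by
      simp [(hcomm i i).1 (Commute.refl _)]
    have hJc : J.card = 45 := by
      rw [hJ, Finset.card_erase_of_mem hi, List.toFinset_card_of_nodup ((List.nodup_finRange 126).filter _), hdeg i]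
    have hsub : ψ '' (↑J : Set (Fin 126)) ⊆ common D d c ∩ adj D (ψ i) := by
      rintro _ ⟨j, hj, rfl⟩
      simp only [hJ, Finset.coe_erase, Set.mem_sdiff, Finset.mem_coe, List.mem_toFinset, List.mem_filter,
        List.mem_finRange, true_and, decide_eq_true_eq, Set.mem_singleton_iff] at hj
      exact ⟨(hwV j).2, (hwV j).2.1.1, fun e => hj.2 (hinj e), ((hcomm j i).2 hj.1).symm⟩
    have heq := Set.eq_of_subset_of_ncard_le hsub (by
      rw [T.common_deg hd hc hdc hq, Set.ncard_image_of_injective _ hinj, Set.ncard_coe_finset, hJc])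
    have hr' : r ∈ common D d c ∩ adj D (ψ i) := ⟨hr, hr.1.1, hri, hqr⟩
    rw [← heq] at hr'
    obtain ⟨j, -, e⟩ := hr'
    exact ⟨j, e⟩
  · obtain ⟨k, hk, e⟩ := hwt i j
    show d * s (w i) * (d * s (w j)) * (d * s (w i))⁻¹ = _
    rw [hconj (hwV i).1 (hwV j).1, e, L.smul _ k (hwV _).1 hk]

end TC

end Cfsg.Agent.TransCentFi22
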