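/-
The 126 points of norm one of `x₀² + ⋯ + x₅²` over the field with three elements and the kernel checks on their
table (`Cfsg.Agent.Lib.TransCentFi22.ReflData`).
-/
import Cfsg.Agent.Lib.TransCentFi22.ReflData

set_option autoImplicit false
set_option Elab.async false

namespace Cfsg.Agent.TransCentFi22

/-! ### the points -/

/-- The representatives of the 126 points of norm one. -/
def normOne (i : Fin 126) : Fin 6 → ZMod 3 :=
  fun k => (((normOneList.getD i []).getD k 0 : ℕ) : ZMod 3)

/-- The index of the image of point `j` under the reflection in point `i`. -/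
def reflIdx (i j : Fin 126) : Fin 126 := Fin.ofNat 126 ((reflTable.getD i []).getD j 0)

/-- The index of the point of a vector of norm one. -/
def pointIdx (a b c d e f : ZMod 3) : Fin 126 :=
  Fin.ofNat 126 (normOneLookup.getD (((((a.val * 3 + b.val) * 3 + c.val) * 3 + d.val) * 3 + e.val) * 3 + f.val) 0)

theorem normOne_dot : ∀ i, dotProduct (normOne i) (normOne i) = 1 := by decide +kernel

/-- The index of the point of a vector. -/
def vecIdx (v : Fin 6 → ZMod 3) : Fin 126 := pointIdx (v 0) (v 1) (v 2) (v 3) (v 4) (v 5)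

theorem vecIdx_normOne : ∀ i, vecIdx (normOne i) = i ∧ vecIdx (-normOne i) = i := by decide +kernel

theorem normOne_sep (i j : Fin 126) (h : i ≠ j) : normOne i ≠ normOne j ∧ normOne i ≠ -normOne j :=
  ⟨fun e => h ((vecIdx_normOne i).1.symm.trans ((congrArg vecIdx e).trans (vecIdx_normOne j).1)),
    fun e => h ((vecIdx_normOne i).1.symm.trans ((congrArg vecIdx e).trans (vecIdx_normOne j).2))⟩

theorem normOne_cover : ∀ a b c d e f : ZMod 3, a * a + b * b + c * c + d * d + e * e + f * f = 1 →
    ![a, b, c, d, e, f] = normOne (pointIdx a b c d e f) ∨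
      ![a, b, c, d, e, f] = -normOne (pointIdx a b c d e f) := by
  decide +kernel

/-- `w` is `v + (u ⬝ v) u` or its negative, on lists of digits. -/
def reflOk (u v w : List ℕ) : Bool :=
  let c := u.getD 0 0 * v.getD 0 0 + u.getD 1 0 * v.getD 1 0 + u.getD 2 0 * v.getD 2 0 + u.getD 3 0 * v.getD 3 0 +
    u.getD 4 0 * v.getD 4 0 + u.getD 5 0 * v.getD 5 0
  ((List.range 6).all fun k => (v.getD k 0 + c * u.getD k 0) % 3 == w.getD k 0) ||
    ((List.range 6).all fun k => (v.getD k 0 + c * u.getD k 0 + w.getD k 0) % 3 == 0)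

/-- Row `i` of the table is correct. -/
def rowOk (i : ℕ) : Bool :=
  (List.range 126).all fun j =>
    decide ((reflTable.getD i []).getD j 0 < 126) &&
      reflOk (normOneList.getD i []) (normOneList.getD j [])
        (normOneList.getD ((reflTable.getD i []).getD j 0) [])

theorem rowOk_0 : ((List.range' 0 14).all rowOk) = true := by decide +kernel

theorem rowOk_1 : ((List.range' 14 14).all rowOk) = true := by decide +kernel

theorem rowOk_2 : ((List.range' 28 14).all rowOk) = true := by decide +kernel

theorem rowOk_3 : ((List.range' 42 14).all rowOk) = true := by decide +kernel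

theorem rowOk_4 : ((List.range' 56 14).all rowOk) = true := by decide +kernel

theorem rowOk_5 : ((List.range' 70 14).all rowOk) = true := by decide +kernel

theorem rowOk_6 : ((List.range' 84 14).all rowOk) = true := by decide +kernel

theorem rowOk_7 : ((List.range' 98 14).all rowOk) = true := by decide +kernel

theorem rowOk_8 : ((List.range' 112 14).all rowOk) = true := by decide +kernel

theorem rowOk_all (i : ℕ) (hi : i < 126) : rowOk i = true := by
  have h : (0 ≤ i ∧ i < 14) ∨ (14 ≤ i ∧ i < 28) ∨ (28 ≤ i ∧ i < 42) ∨ (42 ≤ i ∧ i < 56) ∨ (56 ≤ i ∧ i < 70) ∨ (70 ≤ i ∧ i < 84) ∨ (84 ≤ i ∧ i < 98) ∨ (98 ≤ i ∧ i < 112) ∨ (112 ≤ i ∧ i < 126) := by omega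
  rcases h with h | h | h | h | h | h | h | h | h
  · exact List.all_eq_true.1 rowOk_0 i (List.mem_range'_1.2 h)
  · exact List.all_eq_true.1 rowOk_1 i (List.mem_range'_1.2 h)
  · exact List.all_eq_true.1 rowOk_2 i (List.mem_range'_1.2 h)
  · exact List.all_eq_true.1 rowOk_3 i (List.mem_range'_1.2 h)
  · exact List.all_eq_true.1 rowOk_4 i (List.mem_range'_1.2 h)
  · exact List.all_eq_true.1 rowOk_5 i (List.mem_range'_1.2 h)
  · exact List.all_eq_true.1 rowOk_6 i (List.mem_range'_1.2 h)
  · exact List.all_eq_true.1 rowOk_7 i (List.mem_range'_1.2 h)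
  · exact List.all_eq_true.1 rowOk_8 i (List.mem_range'_1.2 h)

theorem reflOk_sound {u v w : List ℕ} (h : reflOk u v w = true) {u' v' w' : Fin 6 → ZMod 3}
    (hu : ∀ k, u' k = (u.getD k 0 : ℕ)) (hv : ∀ k, v' k = (v.getD k 0 : ℕ)) (hw : ∀ k, w' k = (w.getD k 0 : ℕ)) :
    v' + dotProduct u' v' • u' = w' ∨ v' + dotProduct u' v' • u' = -w' := by
  simp only [reflOk, Bool.or_eq_true, List.all_eq_true, List.mem_range, beq_iff_eq] at h
  rcases h with h | h
  · refine .inl (funext fun k => ?_)
    have e := congrArg (Nat.cast (R := ZMod 3)) (h k k.isLt)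
    rw [ZMod.natCast_mod] at e
    simp only [Nat.cast_add, Nat.cast_mul] at e
    simp only [Pi.add_apply, Pi.smul_apply, smul_eq_mul, dotProduct, Fin.sum_univ_six, hu, hv, hw]
    simpa using e
  · refine .inr (funext fun k => ?_)
    have e := congrArg (Nat.cast (R := ZMod 3)) (h k k.isLt)
    rw [ZMod.natCast_mod] at e
    simp only [Nat.cast_add, Nat.cast_mul, Nat.cast_zero] at e
    simp only [Pi.add_apply, Pi.smul_apply, Pi.neg_apply, smul_eq_mul, dotProduct, Fin.sum_univ_six, hu, hv, hw]
    exact eq_neg_of_add_eq_zero_left (by simpa using e)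

theorem normOne_refl (i j : Fin 126) :
    normOne j + dotProduct (normOne i) (normOne j) • normOne i = normOne (reflIdx i j) ∨
      normOne j + dotProduct (normOne i) (normOne j) • normOne i = -normOne (reflIdx i j) := by
  have h := List.all_eq_true.1 (rowOk_all i i.isLt) j
    (List.mem_range.2 j.isLt)
  rw [Bool.and_eq_true, decide_eq_true_eq] at h
  refine reflOk_sound h.2 (fun k => rfl) (fun k => rfl) fun k => ?_
  rw [normOne, show ((reflIdx i j : Fin 126) : ℕ) = (reflTable.getD i []).getD j 0 from Nat.mod_eq_of_lt h.1]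

end Cfsg.Agent.TransCentFi22
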