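/-
A group generated by 126 elements permuted under conjugation as the reflections of `O₆(3)` in the points of norm
one is, modulo its centre, the projective reflection group.

Main results (namespace `Cfsg.Agent.TransCentFi22`):
* `normOne`, `reflIdx` : the points and the action of the reflections on their indices;
* `quotient_center_equiv` : two groups generated by families with one conjugation table have the same central quotient;
* `isProjReflection_of_table`.
-/
import Cfsg.Prelude.Def_FischerSpaces
import Cfsg.Agent.Lib.ThreeTrans.ReflThree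
import Cfsg.Agent.Lib.Orth.Frame.Basic
import Cfsg.Agent.Lib.TransCentFi22.ReflChecks

set_option autoImplicit false
set_option Elab.async false

namespace Cfsg.Agent.TransCentFi22

open Cfsg Cfsg.Agent.Orth
open QuadraticMap (polar)

/-! ### generating families with a conjugation table -/

section Table

variable {ι : Type*} {G : Type*} [Group G] (a : ι → G) (ha : Function.Injective a)
  (T : ι → Equiv.Perm ι) (hgen : Subgroup.closure (Set.range a) = ⊤)
  (h : ∀ i j, a i * a j * (a i)⁻¹ = a (T i j))

include hgen h in
theorem exists_perm (g : G) : ∃ σ : Equiv.Perm ι, ∀ j, g * a j * g⁻¹ = a (σ j) := by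
  have hg : g ∈ Subgroup.closure (Set.range a) := hgen ▸ Subgroup.mem_top g
  induction hg using Subgroup.closure_induction with
  | mem x hx =>
    obtain ⟨i, rfl⟩ := hx
    exact ⟨T i, h i⟩
  | one => exact ⟨1, fun j => by simp⟩
  | mul x y _ _ hx hy =>
    obtain ⟨σ, hσ⟩ := hx
    obtain ⟨τ, hτ⟩ := hy
    refine ⟨σ * τ, fun j => ?_⟩
    rw [show x * y * a j * (x * y)⁻¹ = x * (y * a j * y⁻¹) * x⁻¹ by group, hτ, hσ]
    rfl
  | inv x _ hx =>
    obtain ⟨σ, hσ⟩ := hx
    refine ⟨σ.symm, fun j => ?_⟩
    have e := hσ (σ.symm j)
    rw [σ.apply_symm_apply] at e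
    rw [← e]; group

/-- The permutation induced on the indices by conjugation. -/
noncomputable def conjPerm : G →* Equiv.Perm ι where
  toFun g := (exists_perm a T hgen h g).choose
  map_one' := by
    have e := (exists_perm a T hgen h 1).choose_spec
    refine Equiv.ext fun j => ha ?_
    rw [← e]; simp
  map_mul' x y := by
    have e := (exists_perm a T hgen h (x * y)).choose_spec
    refine Equiv.ext fun j => ha ?_
    rw [← e, Equiv.Perm.mul_apply, ← (exists_perm a T hgen h x).choose_spec,
      ← (exists_perm a T hgen h y).choose_spec]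
    group

theorem conjPerm_spec (g : G) (j : ι) : g * a j * g⁻¹ = a (conjPerm a ha T hgen h g j) :=
  (exists_perm a T hgen h g).choose_spec j

theorem conjPerm_gen (i : ι) : conjPerm a ha T hgen h (a i) = T i :=
  Equiv.ext fun j => ha (((conjPerm_spec a ha T hgen h (a i) j).symm).trans (h i j))

theorem conjPerm_ker : (conjPerm a ha T hgen h).ker = Subgroup.center G := by
  ext g
  rw [MonoidHom.mem_ker, Subgroup.mem_center_iff]
  constructor
  · intro hg x
    have hx : x ∈ Subgroup.closure (Set.range a) := hgen ▸ Subgroup.mem_top x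
    induction hx using Subgroup.closure_induction with
    | mem y hy =>
      obtain ⟨i, rfl⟩ := hy
      have e := conjPerm_spec a ha T hgen h g i
      rw [hg, Equiv.Perm.one_apply, mul_inv_eq_iff_eq_mul] at e
      exact e.symm
    | one => simp
    | mul y z _ _ hy hz => exact (Commute.mul_left hy hz).eq
    | inv y _ hy => exact (Commute.inv_left hy).eq
  · intro hg
    refine Equiv.ext fun j => ha ?_
    rw [Equiv.Perm.one_apply, ← conjPerm_spec a ha T hgen h g j, ← hg (a j), mul_inv_cancel_right]

theorem conjPerm_range : (conjPerm a ha T hgen h).range = Subgroup.closure (Set.range T) := by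
  rw [MonoidHom.range_eq_map, ← hgen, MonoidHom.map_closure, ← Set.range_comp]
  exact congrArg _ (congrArg Set.range (funext (conjPerm_gen a ha T hgen h)))

include ha hgen h in
theorem quotient_center_perm : Nonempty (G ⧸ Subgroup.center G ≃* ↥(Subgroup.closure (Set.range T))) :=
  ⟨((QuotientGroup.quotientMulEquivOfEq (conjPerm_ker a ha T hgen h).symm).trans
    (QuotientGroup.quotientKerEquivRange _)).trans (MulEquiv.subgroupCongr (conjPerm_range a ha T hgen h))⟩

end Table

/-- Two groups generated by families with the same conjugation table have the same central quotient. -/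
theorem quotient_center_equiv {ι : Type*} {L R : Type*} [Group L] [Group R] (a : ι → L) (b : ι → R)
    (ha : Function.Injective a) (hb : Function.Injective b) (hga : Subgroup.closure (Set.range a) = ⊤)
    (hgb : Subgroup.closure (Set.range b) = ⊤) (t : ι → ι → ι) (h : ∀ i j, a i * a j * (a i)⁻¹ = a (t i j))
    (h' : ∀ i j, b i * b j * (b i)⁻¹ = b (t i j)) (hT : ∀ i, Function.Bijective (t i)) :
    Nonempty (L ⧸ Subgroup.center L ≃* R ⧸ Subgroup.center R) := by
  obtain ⟨e⟩ := quotient_center_perm a ha (fun i => Equiv.ofBijective (t i) (hT i)) hga h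
  obtain ⟨e'⟩ := quotient_center_perm b hb (fun i => Equiv.ofBijective (t i) (hT i)) hgb h'
  exact ⟨e.trans e'.symm⟩

theorem exists_normOne {v : Fin 6 → ZMod 3} (hv : dotProduct v v = 1) :
    ∃ i, v = normOne i ∨ v = -normOne i := by
  have e : v = ![v 0, v 1, v 2, v 3, v 4, v 5] := by ext k; fin_cases k <;> rfl
  have hc := normOne_cover (v 0) (v 1) (v 2) (v 3) (v 4) (v 5)
    (by rw [← hv, dotProduct, Fin.sum_univ_six])
  rcases hc with h | h
  · exact ⟨_, .inl (e.trans h)⟩
  · exact ⟨_, .inr (e.trans h)⟩

/-! ### the reflections -/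

/-- The form `x₀² + ⋯ + x₅²`. -/
noncomputable abbrev qSix : QuadraticForm (ZMod 3) (Fin 6 → ZMod 3) := Frame.sq

/-- The reflection in a point. -/
noncomputable def pointRefl (i : Fin 126) : ↥(Cfsg.reflectionSubgroup (⇑qSix) (1 : ZMod 3)) :=
  ⟨refl qSix (normOne i), ThreeTrans.refl_mem_reflSub (by rw [Frame.sq_apply, normOne_dot])⟩

theorem refl_neg (v : Fin 6 → ZMod 3) : refl qSix (-v) = refl qSix v := by
  rw [← neg_one_smul (ZMod 3) v]
  exact refl_smul qSix (by decide) v

theorem pointRefl_inj : Function.Injective pointRefl := by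
  intro i j h
  by_contra hne
  obtain ⟨c, hc, e⟩ := Frame.exists_smul_of_refl_eq (by decide) (by rw [Frame.sq_apply, normOne_dot]; decide)
    (congrArg Subtype.val h)
  have h3 : ∀ c : ZMod 3, c ≠ 0 → c = 1 ∨ c = -1 := by decide
  rcases h3 c hc with rfl | rfl
  · exact (normOne_sep i j hne).1 (e.trans (one_smul _ _))
  · exact (normOne_sep i j hne).2 (e.trans (neg_one_smul _ _))

theorem pointRefl_conj (i j : Fin 126) :
    pointRefl i * pointRefl j * (pointRefl i)⁻¹ = pointRefl (reflIdx i j) := by
  refine Subtype.ext ?_
  change refl qSix (normOne i) * refl qSix (normOne j) * (refl qSix (normOne i))⁻¹ = refl qSix (normOne _)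
  rw [conj_refl, Frame.refl_ap_unit (normOne_dot i),
    show normOne j - (2 * dotProduct (normOne i) (normOne j)) • normOne i =
      normOne j + dotProduct (normOne i) (normOne j) • normOne i by
      rw [show (2 : ZMod 3) = -1 by decide, neg_one_mul, neg_smul, sub_neg_eq_add]]
  rcases normOne_refl i j with e | e
  · rw [e]
  · rw [e, refl_neg]

theorem pointRefl_gen : Subgroup.closure (Set.range pointRefl) = ⊤ := by
  refine Subgroup.map_injective (Subgroup.subtype_injective _) ?_
  rw [MonoidHom.map_closure, ← MonoidHom.range_eq_map, Subgroup.range_subtype, ← Set.range_comp]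
  conv_rhs => rw [Cfsg.reflectionSubgroup, ThreeTrans.reflectionsOfNorm_eq]
  congr 1
  ext g
  constructor
  · rintro ⟨i, rfl⟩
    exact ⟨normOne i, by rw [Set.mem_ofPred_eq, Frame.sq_apply, normOne_dot], rfl⟩
  · rintro ⟨v, hv, rfl⟩
    rw [Set.mem_ofPred_eq, Frame.sq_apply] at hv
    obtain ⟨i, rfl | rfl⟩ := exists_normOne hv
    · exact ⟨i, rfl⟩
    · exact ⟨i, (refl_neg _).symm⟩

theorem reflIdx_bijective (i : Fin 126) : Function.Bijective (reflIdx i) := by
  refine Finite.injective_iff_bijective.1 fun j k e => pointRefl_inj ?_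
  have := (pointRefl_conj i j).trans ((congrArg pointRefl e).trans (pointRefl_conj i k).symm)
  exact mul_left_cancel (mul_right_cancel this)

theorem polarGramDet_qSix : Cfsg.polarGramDet (⇑qSix) = (1 : ZMod 3) := by
  have e : (Matrix.of fun i j : Fin 6 => polar (⇑qSix) (Pi.single i 1) (Pi.single j 1)) =
      (2 : ZMod 3) • (1 : Matrix (Fin 6) (Fin 6) (ZMod 3)) := by
    ext i j
    rw [Matrix.of_apply, Frame.polar_sq, Matrix.smul_apply, Matrix.one_apply, smul_eq_mul]
    congr 1
    simp [Pi.single_apply, eq_comm]
  rw [Cfsg.polarGramDet, e, Matrix.det_smul, Matrix.det_one, mul_one, Fintype.card_fin]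
  decide

/-- A group generated by 126 elements with the conjugation table of the reflections is, modulo its centre, the
projective reflection group of dimension six, discriminant one and norm one. -/
theorem isProjReflection_of_table {L : Type*} [Group L] (a : Fin 126 → L) (ha : Function.Injective a)
    (hgen : Subgroup.closure (Set.range a) = ⊤) (h : ∀ i j, a i * a j * (a i)⁻¹ = a (reflIdx i j)) :
    Cfsg.IsProjReflectionGroupModThree (L ⧸ Subgroup.center L) 6 1 1 :=
  ⟨qSix, Frame.sq_nd (by decide), polarGramDet_qSix,
    quotient_center_equiv a pointRefl ha pointRefl_inj hgen pointRefl_gen reflIdx h pointRefl_conj reflIdx_bijective⟩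

end Cfsg.Agent.TransCentFi22
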