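/-
The places of the 126 norm one points of a minus type six-space over the field with three elements in the table.

Main definition (namespace `Cfsg.Agent.TransCentFi22`): `phiList` (the place of each point of `normOne` in `goodTblRows`).
-/
import Cfsg.Agent.EqLemmas

set_option autoImplicit false

namespace Cfsg.Agent.TransCentFi22

/-- The places in the table. -/
def phiList : List Nat :=
  [
    0, 1, 2, 3, 64, 87, 71, 94, 65, 80, 85, 66, 16, 55, 106, 59, 109, 57, 107, 83, 111, 45, 56, 43, 81, 47, 58,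
    121, 122, 44, 96, 120, 123, 76, 68, 26, 40, 91, 73, 86, 70, 32, 42, 75, 84, 38, 113, 90, 115, 100, 114, 95,
    125, 118, 39, 23, 36, 17, 41, 29, 108, 101, 37, 18, 102, 112, 89, 67, 104, 46, 99, 72, 124, 117, 105, 48,
    116, 119, 60, 24, 27, 20, 61, 30, 77, 31, 33, 21, 34, 25, 4, 8, 5, 10, 6, 12, 9, 19, 11, 22, 13, 28, 82, 62,
    79, 69, 97, 63, 110, 98, 93, 74, 103, 88, 7, 14, 49, 51, 50, 53, 15, 35, 52, 78, 54, 92]

end Cfsg.Agent.TransCentFi22
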