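/-
The common neighbours generate a projective reflection group of a minus type six-space over the field with three
elements: the table of the 126 points is the conjugation table of the reflections of norm one.

Main result (namespace `Cfsg.Agent.TransCentFi22`): `TC.far_refl` : the statement for the common neighbours.
-/
import Cfsg.Agent.Lib.TransCentFi22.TableData
import Cfsg.Agent.Lib.TransCentFi22.Far
import Cfsg.Agent.Lib.TransCentFi22.Setup
import Cfsg.Agent.Lib.TransCentFi22.Reflections

set_option autoImplicit false

namespace Cfsg.Agent.TransCentFi22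

/-- The place of a point in the table of the common neighbours. -/
def phiIdx (i : Fin 126) : Fin 126 := ⟨phiList.getD i.val 0 % 126, Nat.mod_lt _ (by norm_num)⟩

theorem phi_injective : Function.Injective phiIdx := by
  have h : ((List.finRange 126).map phiIdx).Nodup := by decide +kernel
  intro i j e
  exact List.inj_on_of_nodup_map h (List.mem_finRange i) (List.mem_finRange j) e

theorem phi_table (i j : Fin 126) : goodTbl (phiIdx i) (phiIdx j) = phiIdx (reflIdx i j) := by
  have h : (List.finRange 126).all (fun i => (List.finRange 126).all fun j =>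
      decide (goodTbl (phiIdx i) (phiIdx j) = phiIdx (reflIdx i j))) = true := by decide +kernel
  simp only [List.all_eq_true, List.mem_finRange, forall_const, decide_eq_true_eq] at h
  exact h i j

open Cfsg.Agent.ThreeTrans Cfsg.Agent.ThreeTransSU in
theorem TC.far_refl {G : Type*} [Group G] [Finite G] {F : Type} [Field F] [Fintype F] {D : Set G} (T : TC D F) :
    FarRefl D F := by
  intro d c hd hc hdc hn
  obtain ⟨ψ, hinj, hr, hψ⟩ := T.exists_far_coords hd hc hdc hn
  have hmem : ∀ i, ψ (phiIdx i) ∈ Subgroup.closure (common D d c) := fun i =>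
    Subgroup.subset_closure (hr ▸ ⟨_, rfl⟩)
  refine isProjReflection_of_table (fun i => (⟨ψ (phiIdx i), hmem i⟩ : ↥(Subgroup.closure (common D d c))))
    (fun i j e => phi_injective (hinj (congrArg Subtype.val e))) ?_ fun i j => Subtype.ext ?_
  · refine Subgroup.map_injective (Subgroup.closure (common D d c)).subtype_injective ?_
    rw [MonoidHom.map_closure, ← MonoidHom.range_eq_map, Subgroup.range_subtype, ← Set.range_comp]
    refine congrArg Subgroup.closure (Eq.trans (Set.Subset.antisymm (by rintro _ ⟨i, rfl⟩; exact ⟨_, rfl⟩) ?_) hr)
    rintro _ ⟨k, rfl⟩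
    obtain ⟨i, rfl⟩ := (Finite.injective_iff_surjective.1 phi_injective) k
    exact ⟨i, rfl⟩
  · show ψ (phiIdx i) * ψ (phiIdx j) * (ψ (phiIdx i))⁻¹ = ψ (phiIdx (reflIdx i j))
    rw [hψ, phi_table]

end Cfsg.Agent.TransCentFi22
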