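/-
Once the component carries the structure of type M(22), it is the whole class.

Main results (namespace `Cfsg.Agent.TransCentFi22.TC`):
* `clique_cen` : the centraliser of the products of pairs of a set of commuting members lies in the component group;
* `w_eq`, `h_top` : the component is the class, and it generates the group.

An outside member `x` and a product `P` of two members have an even product, so some involution of the component
group commutes with both; each kind of involution puts `x` back inside.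
-/
import Cfsg.Agent.Lib.TransCentFi22.Component
import Cfsg.Agent.Lib.FischerM22.Involutions

set_option autoImplicit false

namespace Cfsg.Agent.TransCentFi22

open Cfsg.Agent.Unitary Cfsg.Agent.U62Cover Cfsg.Agent.ThreeTrans Cfsg.Agent.ThreeTransSU Cfsg.Agent.FischerM22

variable {G : Type*} [Group G] [Finite G] {F : Type} [Field F] [Fintype F] {D : Set G}

/-- Two involutions: conjugate, or centralised by an involution. -/
theorem dihedral_cases {a y : G} (ha : a * a = 1) (hy : y * y = 1) :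
    (∃ m, m * a * m⁻¹ = y ∧ ∀ z, Commute z a → Commute z y → Commute z m) ∨
      ∃ t, t ≠ 1 ∧ t * t = 1 ∧ Commute t a ∧ Commute t y ∧ (∀ z, Commute z a → Commute z y → Commute z t) ∧
        (∃ g, a * t = g * a * g⁻¹ ∨ a * t = g * y * g⁻¹) ∧ ∃ g, y * t = g * a * g⁻¹ ∨ y * t = g * y * g⁻¹ := by
  set r := a * y with hr
  have hrinv : a * r * a⁻¹ = r⁻¹ := by
    rw [hr, mul_inv_rev, inv_eq_of_mul_eq_one_left ha, inv_eq_of_mul_eq_one_left hy, ← mul_assoc, ha, one_mul]
  have hpow : ∀ j : ℕ, a * r ^ j = (r ^ j)⁻¹ * a := fun j => by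
    have h : a * r ^ j * a⁻¹ = (r ^ j)⁻¹ := by rw [← conj_pow, hrinv, inv_pow]
    rw [← h, inv_mul_cancel_right]
  have har : a * r = y := by rw [hr, ← mul_assoc, ha, one_mul]
  have hrefl : ∀ k : ℕ, ∃ g, a * r ^ k = g * a * g⁻¹ ∨ a * r ^ k = g * y * g⁻¹ := fun k => by
    obtain ⟨j, rfl | rfl⟩ := Nat.even_or_odd' k
    · refine ⟨(r ^ j)⁻¹, Or.inl ?_⟩
      rw [inv_inv, two_mul, pow_add, ← mul_assoc, hpow]
    · refine ⟨(r ^ j)⁻¹, Or.inr ?_⟩
      calc a * r ^ (2 * j + 1) = (a * r ^ j) * (r * r ^ j) := by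
            rw [mul_assoc, show 2 * j + 1 = j + (1 + j) by omega, pow_add r j, pow_add r 1 j, pow_one]
        _ = (r ^ j)⁻¹ * (a * r) * r ^ j := by rw [hpow]; simp only [mul_assoc]
        _ = (r ^ j)⁻¹ * y * ((r ^ j)⁻¹)⁻¹ := by rw [har, inv_inv]
  have hcz : ∀ z, Commute z a → Commute z y → Commute z r := fun z h1 h2 => h1.mul_right h2
  rcases Nat.even_or_odd (orderOf r) with ⟨k, hk⟩ | ⟨k, hk⟩
  · have hn : 0 < orderOf r := orderOf_pos r
    have hk1 : r ^ k ≠ 1 := fun h => by
      have := Nat.le_of_dvd (by omega) (orderOf_dvd_of_pow_eq_one h)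
      omega
    have hk2 : r ^ k * r ^ k = 1 := by rw [← pow_add, ← hk, pow_orderOf_eq_one]
    have hca : Commute (r ^ k) a := by
      show r ^ k * a = a * r ^ k
      rw [hpow, inv_eq_of_mul_eq_one_left hk2]
    refine Or.inr ⟨r ^ k, hk1, hk2, hca, ?_, fun z h1 h2 => (hcz z h1 h2).pow_right k, hrefl k, ?_⟩
    · rw [← har]; exact hca.mul_right ((Commute.refl r).pow_left k)
    · rw [← har, mul_assoc, ← pow_succ']; exact har.symm ▸ hrefl (k + 1)
  · refine Or.inl ⟨r ^ k, ?_, fun z h1 h2 => (hcz z h1 h2).pow_right k⟩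
    have e1 : (r ^ k)⁻¹ = r ^ (k + 1) := inv_eq_of_mul_eq_one_right (by
      rw [← pow_add, show k + (k + 1) = orderOf r by omega, pow_orderOf_eq_one])
    rw [mul_assoc, ← har]
    calc r ^ k * (a * (r ^ k)⁻¹) = r ^ k * (a * r ^ (k + 1)) := by rw [e1]
      _ = r ^ k * ((a * r ^ k) * r) := by rw [pow_succ r k]; simp only [mul_assoc]
      _ = a * r := by rw [hpow]; simp only [mul_assoc, mul_inv_cancel_left]

namespace TC

theorem sq_pair (T : TC D F) {a b : G} (ha : a ∈ D) (hb : b ∈ adj D a) : a * b * (a * b) = 1 := by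
  rw [hb.2.2.symm.mul_mul_mul_comm, T.sq ha, T.sq hb.1, one_mul]

variable {d : G}

theorem refl_mem (T : TC D F) {a y t : G} (ha : a ∈ D) (hy : y ∈ D)
    (h : ∃ g, a * t = g * a * g⁻¹ ∨ a * t = g * y * g⁻¹) : a * t ∈ D := by
  obtain ⟨g, h | h⟩ := h <;> rw [h]
  exacts [T.conj g a ha, T.conj g y hy]

/-- Members in the component group belong to the component. -/
theorem mem_w_of_mem_h (T : TC D F) (hd : d ∈ D) (S : Fi22Setup (DH D d)) {x : G} (hx : x ∈ D)
    (hxH : x ∈ Hsub D d) : x ∈ Wset D d := by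
  obtain ⟨a, ha, hc⟩ := exists_fixed_member S (x := (⟨x, hxH⟩ : ↥(Hsub D d))) (Subtype.ext (T.sq hx))
  exact T.w_closed hd (show (a : G) ∈ Wset D d from ha) hx (commute_coe_iff.1 hc).symm

/-- The centraliser of the pair products of a clique of the component lies in its group. -/
theorem clique_cen (T : TC D F) (hd : d ∈ D) (S : Fi22Setup (DH D d)) : ∀ (n : ℕ) (Q : Set G), Q ⊆ Wset D d →
    (Wset D d).ncard ≤ Q.ncard + n → (∀ p ∈ Q, ∀ q ∈ Q, Commute p q) → 2 ≤ Q.ncard →
    ∀ g : G, (∀ p ∈ Q, ∀ q ∈ Q, Commute g (p * q)) → g ∈ Hsub D d := by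
  intro n
  induction n using Nat.strong_induction_on with
  | _ n ih =>
    intro Q hQ hcard hQc h2 g hg
    obtain ⟨a, ha, b, hb, hab⟩ := (Set.one_lt_ncard (Set.toFinite Q)).1 h2
    by_cases hext : ∃ u ∈ D, u ∉ Q ∧ ∀ q ∈ Q, Commute u q
    · obtain ⟨u, huD, huQ, huc⟩ := hext
      have huW : u ∈ Wset D d := T.w_closed hd (hQ ha) huD (huc a ha).symm
      by_contra hgH
      set y := g * u * g⁻¹ with hy
      have hyD : y ∈ D := T.conj g u huD
      have hyW : y ∉ Wset D d := fun h => hgH (T.mem_h_of_conj hd huW h)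
      have hyc : ∀ p ∈ Q, ∀ q ∈ Q, Commute y (p * q) := fun p hp q hq => by
        have h1 := ((huc p hp).mul_right (huc q hq)).map (MulAut.conj g).toMonoidHom
        simp only [MulEquiv.coe_toMonoidHom, MulAut.conj_apply] at h1
        rwa [(hg p hp q hq).eq, mul_inv_cancel_right] at h1
      have hnot : ∀ p ∈ Q, ∀ q ∈ Q, p ≠ q → y * (p * q) ∉ D := fun p hp q hq hpq h => by
        refine T.triple_not_mem huD (b := p) (c := q) ⟨(hQ hp).1, fun e => huQ (e ▸ hp), huc p hp⟩
          ⟨(hQ hq).1, fun e => huQ (e ▸ hq), huc q hq⟩ hpq (hQc p hp q hq) ?_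
        have h1 := T.conj g⁻¹ _ h
        rwa [hy, show g * u * g⁻¹ * (p * q) = g * u * (g⁻¹ * (p * q)) by simp only [mul_assoc],
          ((hg p hp q hq).inv_left).eq, show g⁻¹ * (g * u * (p * q * g⁻¹)) * g⁻¹⁻¹ = u * (p * q) by group,
          ← mul_assoc] at h1
      have haD := (hQ ha).1
      rcases dihedral_cases (T.sq haD) (T.sq hyD) with ⟨m, hm, hmc⟩ | ⟨t, ht, -, hta, hty, htc, hat, hyt⟩
      · refine hnot a ha b hb hab ?_
        have h1 := hmc (a * b) (((Commute.refl a).mul_right (hQc a ha b hb)).symm) (hyc a ha b hb).symm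
        have h2' := T.conj m b (hQ hb).1
        rwa [show b = a * (a * b) from (invol_cancel (T.sq haD) b).symm,
          show m * (a * (a * b)) * m⁻¹ = m * a * m⁻¹ * (m * (a * b) * m⁻¹) by group, hm, ← h1.eq,
          mul_inv_cancel_right] at h2'
      · have hza : ∀ p ∈ Q, ∀ q ∈ Q, Commute t (p * q) := fun p hp q hq =>
          (htc (p * q) ((hQc p hp a ha).mul_left (hQc q hq a ha)) (hyc p hp q hq).symm).symm
        set a' := a * t with ha'
        have ha'D : a' ∈ D := T.refl_mem haD hyD hat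
        have ha'a : Commute a a' := (Commute.refl a).mul_right hta.symm
        have ha'W : a' ∈ Wset D d := T.w_closed hd (hQ ha) ha'D ha'a
        have hte : t = a * a' := (invol_cancel (T.sq haD) t).symm
        by_cases ha'Q : a' ∈ Q
        · have hne : a ≠ a' := fun e => ht (by rw [hte, ← e, T.sq haD])
          refine hnot a ha a' ha'Q hne ?_
          rw [← hte]
          obtain ⟨k, h | h⟩ := hyt <;> rw [h]
          exacts [T.conj k a haD, T.conj k y hyD]
        · have hlt : (insert a' Q).ncard = Q.ncard + 1 := Set.ncard_insert_of_notMem ha'Q (Set.toFinite _)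
          have hsub : insert a' Q ⊆ Wset D d := Set.insert_subset ha'W hQ
          have hle := Set.ncard_le_ncard hsub (Set.toFinite _)
          have ha'q : ∀ q ∈ Q, Commute a' q := fun q hq => by
            have h1 : Commute a' (a * q) :=
              (((Commute.refl a).mul_right (hQc a ha q hq))).mul_left (hza a ha q hq)
            have h2' := ha'a.symm.mul_right h1
            rwa [invol_cancel (T.sq haD)] at h2'
          have hay : ∀ q ∈ Q, Commute y (a' * q) := fun q hq => by
            have e : a' * q = t * (a * q) := by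
              rw [hte, mul_assoc a a', ← mul_assoc a' a, ← ha'a.eq, ← mul_assoc a (a * a') q, invol_cancel (T.sq haD)]
            rw [e]
            exact hty.symm.mul_right (hyc a ha q hq)
          have hyH : y ∈ Hsub D d := ih (n - 1) (by omega) _ hsub (by omega) (by
              rintro p (rfl | hp) q (rfl | hq)
              exacts [Commute.refl _, ha'q q hq, (ha'q p hp).symm, hQc p hp q hq]) (by omega) y (by
              rintro p (rfl | hp) q (rfl | hq)
              · rw [T.sq ha'D]; exact Commute.one_right y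
              · exact hay q hq
              · rw [← (ha'q p hp).eq]; exact hay p hp
              · exact hyc p hp q hq)
          exact hyW (T.mem_w_of_mem_h hd S hyD hyH)
    · have hmax : ∀ u ∈ D, (∀ q ∈ Q, Commute u q) → u ∈ Q := fun u hu h => by
        by_contra hu'; exact hext ⟨u, hu, hu', h⟩
      obtain ⟨l, hodd, hl, hprod⟩ := T.maximal_clique (fun q hq => (hQ hq).1) hQc ⟨a, ha⟩ hmax
      have haD := (hQ ha).1
      have key : ∀ l : List G, (∀ q ∈ l, q ∈ Q) → (l.map fun q => a * q).prod = a ^ l.length * l.prod := by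
        intro l
        induction l with
        | nil => simp
        | cons q l ih' =>
          intro h
          rw [List.map_cons, List.prod_cons, ih' fun x hx => h x (by simp [hx]), List.prod_cons,
            List.length_cons, pow_succ']
          have hc : Commute q (a ^ l.length) := (hQc q (h q (by simp)) a ha).pow_right _
          rw [mul_assoc, ← mul_assoc q, hc.eq]
          simp only [mul_assoc]
      have e := key l hl
      obtain ⟨k, hk⟩ := hodd
      rw [hprod, mul_one, hk, pow_succ, pow_mul, pow_two, T.sq haD, one_pow, one_mul] at e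
      have hga : Commute g a := by
        rw [← e]
        refine Commute.list_prod_right _ _ fun x hx => ?_
        obtain ⟨q, hq, rfl⟩ := List.mem_map.1 hx
        exact hg a ha q (hl q hq)
      exact T.cen_le_h hd (hQ ha) (Subgroup.mem_centralizer_singleton_iff.2 hga.eq)

theorem pair_cen (T : TC D F) (hd : d ∈ D) (S : Fi22Setup (DH D d)) {a b g : G} (ha : a ∈ Wset D d)
    (hb : b ∈ adj D a) (hg : Commute g (a * b)) : g ∈ Hsub D d := by
  refine T.clique_cen hd S _ ({a, b} : Set G)
    (Set.insert_subset ha (Set.singleton_subset_iff.2 (T.adj_subset_w hd ha hb))) (Nat.le_add_left _ _) ?_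
    (by rw [Set.ncard_pair hb.2.1.symm]) g ?_
  · rintro p (rfl | rfl) q (rfl | rfl)
    exacts [Commute.refl _, hb.2.2, hb.2.2.symm, Commute.refl _]
  · rintro p (rfl | rfl) q (rfl | rfl)
    · rw [T.sq ha.1]; exact Commute.one_right g
    · exact hg
    · rw [← hb.2.2.eq]; exact hg
    · rw [T.sq hb.1]; exact Commute.one_right g

/-- A member of the component centralising an involution with an outside member is conjugate to it there. -/
theorem odd_of_outside (T : TC D F) (hd : d ∈ D) (S : Fi22Setup (DH D d)) {x v w : G} (hx : x ∈ D)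
    (hxW : x ∉ Wset D d) (hv : v ∈ Wset D d) (hwv : Commute w v) (hwx : Commute w x) :
    ∃ m, Commute w m ∧ m * v * m⁻¹ = x := by
  rcases dihedral_cases (T.sq hv.1) (T.sq hx) with ⟨m, hm, hmc⟩ | ⟨t, ht, -, htv, htx, -, hvt, -⟩
  · exact ⟨m, hmc w hwv hwx, hm⟩
  · exfalso
    have hv'D : v * t ∈ D := T.refl_mem hv.1 hx hvt
    have hb : v * t ∈ adj D v := ⟨hv'D, fun e => ht (mul_eq_left.1 e), (Commute.refl v).mul_right htv.symm⟩
    refine hxW (T.mem_w_of_mem_h hd S hx (T.pair_cen hd S hv hb ?_))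
    rw [invol_cancel (T.sq hv.1)]
    exact htx.symm

/-- A member commuting with a product of two commuting members commutes with both. -/
theorem commute_pair (T : TC D F) {u b c : G} (hd : d ∈ D) (hu : u ∈ Wset D d) (hb : b ∈ Wset D d)
    (hc : c ∈ adj D b) (h : Commute u (b * c)) : Commute u b ∧ Commute u c := by
  have hcW := T.adj_subset_w hd hb hc
  have hu2 := T.sq hu.1
  have hb2 := T.sq hb.1
  by_cases hub : Commute u b
  · refine ⟨hub, ?_⟩
    have h1 := hub.mul_right h
    rwa [invol_cancel hb2] at h1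
  exfalso
  by_cases huc : Commute u c
  · have h1 := h.mul_right huc
    rw [mul_assoc, T.sq hc.1, mul_one] at h1
    exact hub h1
  -- u b c u = b c, and both factors braid with u
  have e1 : u * b * u * (u * c * u) = b * c := by
    calc u * b * u * (u * c * u) = u * (b * c) * u := by simp only [mul_assoc, invol_cancel hu2]
      _ = b * c * (u * u) := by rw [h.eq, mul_assoc]
      _ = b * c := by rw [hu2, mul_one]
  rw [T.w_braid hd hu hb hub, T.w_braid hd hu hcW huc] at e1
  have e2 : u * b * c * u * c = c := mul_left_cancel (a := b) (by simpa only [mul_assoc] using e1)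
  have e3 : u * (b * c) * u = 1 := mul_right_cancel (b := c) (by rw [one_mul]; simpa only [mul_assoc] using e2)
  rw [h.eq, mul_assoc, hu2, mul_one] at e3
  exact hc.2.1 ((mul_eq_one_iff_eq_inv.1 e3).trans (T.inv hc.1)).symm

/-- The component is the class. -/
theorem w_eq (T : TC D F) (hd : d ∈ D) (S : Fi22Setup (DH D d)) {x : G} (hx : x ∈ D) : x ∈ Wset D d := by
  classical
  by_contra hxW
  have hxH : x ∉ Hsub D d := fun h => hxW (T.mem_w_of_mem_h hd S hx h)
  obtain ⟨b, hb⟩ := T.adj_nonempty hd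
  rcases dihedral_cases (T.sq_pair hd hb) (T.sq hx) with ⟨m, hm, -⟩ | ⟨t, ht, ht2, htP, htx, -, -, -⟩
  · refine T.pair_not_mem hd hb ?_
    rw [show d * b = m⁻¹ * x * m⁻¹⁻¹ by rw [← hm]; group]
    exact T.conj m⁻¹ x hx
  have htH : t ∈ Hsub D d := T.pair_cen hd S (self_mem_w hd) hb htP
  obtain ⟨m, h1, h3, hprod⟩ := involution_prod S (x := (⟨t, htH⟩ : ↥(Hsub D d))) (Subtype.ext ht2)
    (fun e => ht (congrArg Subtype.val e))
  have hmemC : ∀ {y}, Commute y t → t ∈ Wset D d → y ∈ Hsub D d := fun hy h =>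
    T.cen_le_h hd h (Subgroup.mem_centralizer_singleton_iff.2 hy.eq)
  rcases isProd_cases h1 h3 hprod with ⟨-, htW⟩ | ⟨-, a, ha, c, hc, e⟩ | ⟨-, A, B, C, hT, e⟩
  · exact hxH (hmemC htx.symm htW)
  · refine hxH (T.pair_cen hd S (show (a : G) ∈ Wset D d from ha) (b := (c : G))
      ⟨w_sub hc.1, fun e' => hc.2.1 (Subtype.ext e'), commute_coe_iff.1 hc.2.2⟩ ?_)
    rw [show (a : G) * c = t from (congrArg Subtype.val e).symm]
    exact htx.symm
  -- the triple
  obtain ⟨D', E', F', -, -, -, hset⟩ := triple_set S hT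
  obtain ⟨hA, hB, hC, nAB, nAC, nBC, cAB, cAC, cBC⟩ := hT
  have hbig : (({D', E', F', A, B, C} : Finset ↥(Hsub D d)) : Set ↥(Hsub D d)).ncard <
      (adj (DH D d) A ∩ adj (DH D d) B ∩ adj (DH D d) C).ncard := by
    rw [Cfsg.Agent.FischerM22.orth_ncard S hA ⟨hB, nAB.symm, cAB⟩ ⟨hC, nAC.symm, cAC⟩ nBC cBC, Set.ncard_coe_finset]
    exact lt_of_le_of_lt Finset.card_le_six (by norm_num)
  obtain ⟨u, ⟨⟨huA, huB⟩, huC⟩, hu6⟩ := Set.exists_mem_notMem_of_ncard_lt_ncard hbig (Set.toFinite _)
  have huW : (u : G) ∈ Wset D d := huA.1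
  have hAW : (A : G) ∈ Wset D d := hA
  have et : t = (A : G) * B * C := congrArg Subtype.val e
  have htu : Commute t u := by
    rw [et]
    exact ((commute_coe_iff.1 huA.2.2).mul_left (commute_coe_iff.1 huB.2.2)).mul_left (commute_coe_iff.1 huC.2.2)
  have htA : Commute t A := by
    rw [et]
    exact ((Commute.refl _).mul_left (commute_coe_iff.1 cAB).symm).mul_left (commute_coe_iff.1 cAC).symm
  obtain ⟨m1, hc1, e1⟩ := T.odd_of_outside hd S hx hxW hAW htA htx
  obtain ⟨m2, hc2, e2⟩ := T.odd_of_outside hd S hx hxW huW htu htx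
  -- so `u * t` is conjugate to the pair `B * C`
  set g := m2⁻¹ * m1 with hg
  have hgt : Commute t g := hc2.inv_right.mul_right hc1
  have hgu : g * A * g⁻¹ = u := by
    rw [hg, show m2⁻¹ * m1 * (A : G) * (m2⁻¹ * m1)⁻¹ = m2⁻¹ * (m1 * A * m1⁻¹) * m2 by group, e1, ← e2]
    group
  have hBC : (A : G) * t = B * C := by rw [et, mul_assoc, invol_cancel (T.sq hAW.1)]
  have hadjC : (C : G) ∈ adj D B := ⟨w_sub hC, fun e' => nBC (Subtype.ext e').symm, commute_coe_iff.1 cBC⟩
  have hconjt : g * ((A : G) * t) * g⁻¹ = u * t := by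
    rw [show g * ((A : G) * t) * g⁻¹ = g * A * g⁻¹ * (g * t * g⁻¹) by group, hgu, ← hgt.eq, mul_inv_cancel_right]
  have hgH : g ∈ Hsub D d := by
    have huconj : g⁻¹ * u * g ∈ Hsub D d := by
      refine T.pair_cen hd S (show (B : G) ∈ Wset D d from hB) hadjC ?_
      have h4 := ((Commute.refl (u : G)).mul_right htu.symm).map (MulAut.conj g⁻¹).toMonoidHom
      simp only [MulEquiv.coe_toMonoidHom, MulAut.conj_apply, inv_inv] at h4
      rwa [← hconjt, show g⁻¹ * (g * ((A : G) * t) * g⁻¹) * g = (A : G) * t by group, hBC] at h4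
    have huD : g⁻¹ * (u : G) * g ∈ D := by simpa using T.conj g⁻¹ u huW.1
    have h6 := T.mem_h_of_conj hd (g := g⁻¹) huW (by simpa using T.mem_w_of_mem_h hd S huD huconj)
    simpa using inv_mem h6
  have hB' := T.h_conj hd hgH (show (B : G) ∈ Wset D d from hB)
  have hC' := T.h_conj hd hgH (show (C : G) ∈ Wset D d from hC)
  set B' : ↥(Hsub D d) := ⟨g * B * g⁻¹, w_le_h hB'⟩
  set C' : ↥(Hsub D d) := ⟨g * C * g⁻¹, w_le_h hC'⟩
  have hprod' : (u : G) * t = g * B * g⁻¹ * (g * C * g⁻¹) := by
    rw [← hconjt, hBC]; group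
  have hadj' : g * (C : G) * g⁻¹ ∈ adj D (g * (B : G) * g⁻¹) := T.conj_adj_mem g hadjC
  obtain ⟨k1, k2⟩ := T.commute_pair hd huW hB' hadj' (by
    rw [← hprod']; exact (Commute.refl _).mul_right htu.symm)
  have hu1 : u ≠ B' := fun e' => by
    have e'' : (u : G) = g * B * g⁻¹ := congrArg Subtype.val e'
    rw [← e''] at hprod'
    exact hxH (hmemC htx.symm ((mul_left_cancel hprod') ▸ hC'))
  have hu2 : u ≠ C' := fun e' => by
    have e'' : (u : G) = g * C * g⁻¹ := congrArg Subtype.val e'
    rw [hadj'.2.2.eq, ← e''] at hprod'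
    exact hxH (hmemC htx.symm ((mul_left_cancel hprod') ▸ hB'))
  have hT' : IsTriple (DH D d) u B' C' := ⟨huW, hB', hC', hu1, hu2,
    fun e' => hadj'.2.1 (congrArg Subtype.val e').symm, commute_coe_iff.2 k1, commute_coe_iff.2 k2,
    commute_coe_iff.2 hadj'.2.2⟩
  have hmem6 := hset u B' C' hT' (Subtype.ext (by
    show (u : G) * (g * B * g⁻¹) * (g * C * g⁻¹) = (A : G) * B * C
    rw [mul_assoc, ← hprod', invol_cancel (T.sq huW.1), et]))
  refine hu6 ?_
  simp only [Finset.coe_insert, Finset.coe_singleton, Set.mem_insert_iff, Set.mem_singleton_iff]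
  rcases hmem6 with ⟨h, -, -⟩ | ⟨h, -, -⟩ <;> simp only [List.mem_cons, List.not_mem_nil, or_false] at h <;>
    rcases h with h | h | h <;> simp [h]

/-- The component group is everything. -/
theorem h_top (T : TC D F) (hd : d ∈ D) (S : Fi22Setup (DH D d)) : Hsub D d = ⊤ :=
  eq_top_iff.2 fun g _ => T.mem_h_of_conj hd (self_mem_w hd) (T.w_eq hd S (T.conj g d hd))

end TC

end Cfsg.Agent.TransCentFi22
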