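/-
A non-split extension of SU(6,2) by lifted transvections has a hyperoval whose six lifts do not multiply to one.

Main result (namespace `Cfsg.Agent.TransCentFi22`): `exists_oval`.

If all such products are one, the oval `A, A + bv, B, B + bv, ..` makes the generators of the radical of `v`
additive in the centre, so four of them generate it and it meets the kernel trivially.
-/
import Cfsg.Agent.Lib.U62Mult.TwoBound
import Cfsg.Agent.Lib.FischerM22.Heptad

set_option autoImplicit false

namespace Cfsg.Agent.TransCentFi22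

open Cfsg.Agent.Unitary Cfsg.Agent.U62Cover Cfsg.Agent.ThreeTransSU Cfsg.Agent.FischerM22
open Cfsg.Agent.SU32 Cfsg.Agent.ThreeTransSU.GensCert
open Cfsg.Agent.ThreeTransSU.Ext (coord coord_hf coord_add coord_smul coord_zero coord_perp coord_orthPair)

/-- Three independent mutually orthogonal isotropic vectors. -/
structure Plane {F : Type*} [Field F] [Fintype F] {n : ℕ} (u v w : Fin n → F) : Prop where
  iu : Iso u
  iv : Iso v
  iw : Iso w
  uv : hf u v = 0
  uw : hf u w = 0
  vw : hf v w = 0
  li : ∀ a b c : F, a • u + b • v + c • w = 0 → a = 0 ∧ b = 0 ∧ c = 0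

section Cert

/-- Generators under reflections, scalars and orthogonal sums. -/
def addGens : List (List K4) :=
  [[.o, .o, .z, .z], [.z, .z, .o, .o], [.o, .w, .z, .z], [.z, .z, .o, .w]]

/-- The steps: `(sum, i, j, scalar)`. -/
def addSteps : List (Bool × ℕ × ℕ × K4) :=
  [(true, 0, 1, .o), (true, 0, 1, .w), (true, 0, 1, .w2), (false, 0, 2, .z), (true, 0, 3, .o), (true, 0, 3, .w),
   (true, 0, 3, .w2), (true, 1, 2, .o), (true, 1, 2, .w), (true, 1, 2, .w2), (false, 1, 3, .z), (true, 1, 7, .o),
   (true, 1, 7, .w), (true, 1, 7, .w2), (false, 1, 8, .z), (false, 1, 9, .z), (false, 1, 10, .z), (true, 2, 3, .o),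
   (true, 2, 3, .w), (true, 2, 3, .w2), (false, 2, 8, .z), (false, 2, 9, .z), (false, 2, 10, .z), (true, 2, 14, .o),
   (true, 2, 14, .w), (true, 2, 14, .w2), (false, 2, 18, .z), (false, 2, 19, .z), (false, 2, 20, .z),
   (true, 4, 21, .o), (true, 4, 21, .w), (false, 4, 22, .z), (false, 4, 23, .z), (false, 4, 24, .z),
   (false, 4, 25, .z), (true, 4, 26, .o), (true, 4, 26, .w), (false, 4, 28, .z), (false, 4, 29, .z),
   (false, 4, 30, .z), (false, 4, 31, .z)]

/-- One step. -/
def addNew (sum : Bool) (a b : List K4) (t : K4) : List K4 :=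
  List.ofFn fun i : Fin 4 => vec 4 b i + (bif sum then t else hk 4 b a) * vec 4 a i

/-- Apply the steps, checking each. -/
def addBuild : List (Bool × ℕ × ℕ × K4) → List (List K4) → Option (List (List K4))
  | [], L => some L
  | (sum, i, j, t) :: st, L =>
    if i < L.length ∧ j < L.length ∧
        (bif sum then decide (hk 4 (L.getD j []) (L.getD i []) = .z ∧ t ≠ .z) else
          decide (hk 4 (L.getD j []) (L.getD i []) ≠ .z)) = true ∧
        vec 4 (addNew sum (L.getD i []) (L.getD j []) t) ≠ fun _ => .z then
      addBuild st (L ++ [addNew sum (L.getD i []) (L.getD j []) t])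
    else none

/-- The check. -/
def addCheck : Bool :=
  (addGens.all fun a => decide (hk 4 a a = .z ∧ vec 4 a ≠ fun _ => .z)) &&
  match addBuild addSteps addGens with
  | none => false
  | some L => (allVecs 4).all fun x =>
      decide (hk 4 x x ≠ .z) || decide (vec 4 x = fun _ => .z) ||
        L.any fun p => decide (x = smulL 4 .o p ∨ x = smulL 4 .w p ∨ x = smulL 4 .w2 p)

theorem add_check : addCheck = true := by decide +kernel

variable {F : Type*} [Field F] [Fintype F]

/-- Four points generate those of F^4 under reflections, scalars and orthogonal sums. -/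
theorem gens_add (hF : Fintype.card F = 4) :
    ∃ g : Fin 4 → (Fin 4 → F), (∀ i, Iso (g i)) ∧ ∀ P : Set (Fin 4 → F), (∀ i, g i ∈ P) → (∀ a ∈ P, Iso a) →
      (∀ a ∈ P, ∀ b ∈ P, hf b a ≠ 0 → b + hf b a • a ∈ P) →
      (∀ c : F, ∀ a ∈ P, c ≠ 0 → c • a ∈ P) →
      (∀ a ∈ P, ∀ b ∈ P, hf b a = 0 → b + a ≠ 0 → b + a ∈ P) → ∀ x, Iso x → x ∈ P := by
  have hc := add_check
  simp only [addCheck, Bool.and_eq_true, List.all_eq_true, decide_eq_true_eq] at hc
  obtain ⟨hiso, hb⟩ := hc
  cases hL : addBuild addSteps addGens with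
  | none => rw [hL] at hb; exact absurd hb (by simp)
  | some L =>
    rw [hL] at hb
    simp only [List.all_eq_true, Bool.or_eq_true, List.any_eq_true, decide_eq_true_eq] at hb
    let e : K4 ≃+* F := FiniteField.ringEquivOfCardEq (hF ▸ K4.card_eq)
    have hlen : addGens.length = 4 := rfl
    refine ⟨fun i k => e (vec 4 (addGens.getD i.val []) k), fun i => ?_, fun P hP hPI hre hsm hadd x hx => ?_⟩
    · obtain ⟨h1, h2⟩ := hiso (addGens.getD i.val []) (by
        rw [List.getD_eq_getElem addGens [] (show i.val < addGens.length by omega)]; exact List.getElem_mem _)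
      refine ⟨fun h => h2 (funext fun k => e.injective ((congrFun h k).trans (map_zero e).symm)), ?_⟩
      rw [hf_map e, show Cfsg.hermForm 4 K4 2 _ _ = (0 : K4) from h1, map_zero]
    have hsound : ∀ (st : List (Bool × ℕ × ℕ × K4)) (L L' : List (List K4)),
        (∀ p ∈ L, (fun k => e (vec 4 p k)) ∈ P) → addBuild st L = some L' →
        ∀ p ∈ L', (fun k => e (vec 4 p k)) ∈ P := by
      intro st
      induction st with
      | nil => intro L L' h e1; simp only [addBuild, Option.some.injEq] at e1; exact e1 ▸ h
      | cons q st ih =>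
        obtain ⟨sum, i, j, t⟩ := q
        intro L L' h e1
        rw [addBuild] at e1
        split at e1
        case isFalse => exact absurd e1 (by simp)
        case isTrue hij =>
          obtain ⟨hi, hj, hcond, hne⟩ := hij
          refine ih _ L' (fun p hp => ?_) e1
          rcases List.mem_append.1 hp with hp | hp
          · exact h p hp
          rw [List.mem_singleton] at hp
          subst hp
          have hget : ∀ {i : ℕ}, i < L.length → L.getD i [] ∈ L := fun {i} hi => by
            rw [List.getD_eq_getElem _ _ hi]; exact List.getElem_mem _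
          have ha := h _ (hget hi)
          have hb' := h _ (hget hj)
          have hval : hf (fun k => e (vec 4 (L.getD j []) k)) (fun k => e (vec 4 (L.getD i []) k))
              = e (hk 4 (L.getD j []) (L.getD i [])) := hf_map e _ _
          cases sum with
          | false =>
            simp only [cond_false, decide_eq_true_eq] at hcond
            have h1 := hre _ ha _ hb' (by
              rw [hval]; exact fun h0 => hcond (e.injective (h0.trans (map_zero e).symm)))
            rw [hval] at h1
            convert h1 using 1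
            funext k
            rw [addNew, vec_ofFn]
            simp
          | true =>
            simp only [cond_true, decide_eq_true_eq] at hcond
            obtain ⟨h0, ht⟩ := hcond
            have hta := hsm (e t) _ ha fun h1 => ht (e.injective (h1.trans (map_zero e).symm))
            have h1 := hadd _ hta _ hb' (by
              rw [hf_smul_right hF, hval, h0, show (K4.z : K4) = 0 from rfl, map_zero, mul_zero]) (fun h1 => hne (by
                funext k
                refine e.injective ?_
                rw [addNew, vec_ofFn]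
                simpa [show (K4.z : K4) = 0 from rfl] using congrFun h1 k))
            convert h1 using 1
            funext k
            rw [addNew, vec_ofFn]
            simp
    have hall : ∀ p ∈ L, (fun k => e (vec 4 p k)) ∈ P := hsound _ _ _ (fun p hp => by
      obtain ⟨i, hi, rfl⟩ := List.getElem_of_mem hp
      have := hP ⟨i, hlen ▸ hi⟩
      rw [← List.getD_eq_getElem addGens [] hi]
      exact this) hL
    set y : Fin 4 → K4 := fun k => e.symm (x k) with hy
    have hxe : x = fun k => e (y k) := funext fun k => (e.apply_symm_apply (x k)).symm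
    rcases hb _ (ofFn_mem 4 y) with (h | h) | ⟨p, hp, h⟩
    · exfalso
      refine h (e.injective ?_)
      rw [hk, vec_ofFn, ← hf_map e, ← hxe]
      exact hx.2.trans (map_zero e).symm
    · exfalso
      refine hx.1 ?_
      rw [hxe]
      funext k
      rw [show y k = (0 : K4) from congrFun ((vec_ofFn y).symm.trans h) k, map_zero]
      rfl
    · have key : ∀ c : K4, c ≠ .z → List.ofFn y = smulL 4 c p → x ∈ P := by
        intro c hc hy'
        have h1 : y = fun k => c * vec 4 p k := by
          have := congrArg (vec 4) hy'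
          rwa [vec_ofFn, smulL, vec_ofFn] at this
        have h2 := hsm (e c) _ (hall p hp) fun h0 => hc (e.injective (h0.trans (map_zero e).symm))
        convert h2 using 1
        rw [hxe, h1]
        funext k
        simp
      rcases h with h | h | h
      exacts [key _ (by decide) h, key _ (by decide) h, key _ (by decide) h]

end Cert

variable {F : Type*} [Field F] [Fintype F] {B : Type*} [Group B] {ψ : B →* Cfsg.SU 6 F 2}
  {s : (Fin 6 → F) → B}

/-- All hyperoval products are one. -/
def OvalTrivial (s : (Fin 6 → F) → B) : Prop :=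
  ∀ ω t : F, ω ^ 2 = ω + 1 → t ≠ 0 → ∀ u v w : Fin 6 → F, Plane u v w →
    ((ovalPts ω t u v w).map s).prod = 1

/-- With trivial ovals the generators of the radical are additive modulo `s v`. -/
theorem rho_add (E : Ext ψ s) (ho : OvalTrivial s) {v A C : Fin 6 → F} (hA : OrthPair v A) (hC : OrthPair v C)
    (hAC : hf A C = 0) (hX : OrthPair v (A + C))
    (hli : ∀ x y z : F, x • A + y • v + z • C = 0 → x = 0 ∧ y = 0 ∧ z = 0) (b : F) :
    E.rho v (A + C) b ∈ Subgroup.closure ({E.rho v A b, E.rho v C b, s v} : Set B) := by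
  have hF := E.card
  by_cases hb : b = 0
  · rw [hb, E.rho_zero hX]; exact one_mem _
  obtain ⟨ω, hω0, hω⟩ := exists_omega hF
  have h3 := pow_three hF hω0
  have hω1 : ω ^ 2 ≠ ω := fun e => one_ne_zero (show (1 : F) = 0 by linear_combination e - hω)
  have hP : Plane A (A + b • v) C := by
    refine ⟨hA.2.1, (hA.shift hF b).2.1, hC.2.1, ?_, hAC, ?_, fun x y z e => ?_⟩
    · rw [hf_add_right hF, hf_smul_right hF, hA.2.1.2, (hf_eq_zero_symm hF).1 hA.2.2.1]; simp
    · rw [hf_add_left hF, hf_smul_left hF, hAC, hC.2.2.1]; simp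
    · obtain ⟨e1, e2, e3⟩ := hli (x + y) (y * b) z (by
        rw [smul_add, smul_smul] at e
        rw [add_smul, ← e]; abel)
      have hy : y = 0 := (mul_eq_zero.1 e2).resolve_right hb
      exact ⟨by simpa [hy] using e1, hy, e3⟩
  have hprod := ho ω 1 hω one_ne_zero A (A + b • v) C hP
  have e4 : A + (A + b • v) + (1 : F) • C = C + b • v := by
    rw [one_smul, ← add_assoc, vadd_self hF, zero_add, add_comm]
  have e5 : A + ω • (A + b • v) + (ω ^ 2 * 1) • C = ω ^ 2 • (A + C + (ω ^ 2 * b) • v) := by
    funext i
    simp only [Pi.add_apply, Pi.smul_apply, smul_eq_mul]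
    linear_combination -(A i) * hω - (ω * b * v i) * h3
  have e6 : A + ω ^ 2 • (A + b • v) + (ω * 1) • C = ω • (A + C + (ω * b) • v) := by
    funext i
    simp only [Pi.add_apply, Pi.smul_apply, smul_eq_mul]
    linear_combination (A i) * hω + A i * two_eq_zero hF
  simp only [ovalPts, List.map_cons, List.map_nil, List.prod_cons, List.prod_nil, mul_one] at hprod
  rw [e4, show A + ω • (A + b • v) + ω ^ 2 • C = ω ^ 2 • (A + C + (ω ^ 2 * b) • v) by
      simpa using e5,
    show A + ω ^ 2 • (A + b • v) + ω • C = ω • (A + C + (ω * b) • v) by simpa using e6,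
    E.smul _ _ (hX.shift hF _).2.1 (pow_ne_zero 2 hω0), E.smul _ _ (hX.shift hF _).2.1 hω0,
    E.four_line hX (mul_ne_zero (pow_ne_zero 2 hω0) hb) (mul_ne_zero hω0 hb) (fun e => hω1 (mul_right_cancel₀ hb e)),
    show ω ^ 2 * b + ω * b = b by linear_combination b * hω + ω * b * two_eq_zero hF] at hprod
  have key : E.rho v (A + C) b = (s v)⁻¹ * (E.rho v C b)⁻¹ * (E.rho v A b)⁻¹ := by
    have h' : E.rho v A b * E.rho v C b * s v * E.rho v (A + C) b = 1 := by
      rw [← hprod]; simp only [Ext.rho, mul_assoc]
    rw [eq_inv_of_mul_eq_one_right h']; group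
  rw [key]
  exact mul_mem (mul_mem (inv_mem (Subgroup.subset_closure (by simp))) (inv_mem (Subgroup.subset_closure (by simp))))
    (inv_mem (Subgroup.subset_closure (by simp)))

/-- With trivial ovals the radical is small. -/
theorem card_radical_oval (E : Ext ψ s) [Finite B] (ho : OvalTrivial s) {v : Fin 6 → F} (hv : Iso v) :
    Nat.card (E.radical v) ≤ 2 * 4 ^ 4 := by
  classical
  have hF := E.card
  obtain ⟨z, hz, -⟩ := exists_partner hF (k := 0) (b := Fin.elim0) linearIndependent_empty_type hv
    (fun i => i.elim0) (by simp [Submodule.span_empty, hv.1])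
  obtain ⟨w, hw, hwv, hwz, hexp⟩ := exists_frame hF (m := 4) rfl hv hz
  obtain ⟨g, hgI, hgP⟩ := gens_add hF
  obtain ⟨M, hMR, hMv, hMg, hMc, hMn⟩ := E.exists_small hv (List.ofFn fun i => coord w (g i)) fun u hu => by
    obtain ⟨i, rfl⟩ := List.mem_ofFn.1 hu
    exact coord_orthPair hF hw hwv hwz hv hz (hgI i)
  rw [List.length_ofFn] at hMc
  let P : Set (Fin 4 → F) := {c | Iso c ∧ ∀ b, E.rho v (coord w c) b ∈ M}
  have hall : ∀ c, Iso c → c ∈ P := by
    refine hgP P (fun i => ⟨hgI i, hMg _ (List.mem_ofFn.2 ⟨i, rfl⟩)⟩) (fun a ha => ha.1) ?_ ?_ ?_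
    · rintro a ⟨ha, haM⟩ b ⟨hb, hbM⟩ hab
      have hpa := coord_orthPair hF hw hwv hwz hv hz ha
      have hpb := coord_orthPair hF hw hwv hwz hv hz hb
      have hI : Iso (b + hf b a • a) := by
        refine ⟨fun h => ?_, ?_⟩
        · have h1 := congrArg (fun x => hf x a) h
          simp only [hf_add_left hF, hf_smul_left hF, ha.2, hf_zero_left hF, mul_zero, add_zero] at h1
          exact hab h1
        · rw [hf_add_left hF, hf_add_right hF, hf_add_right hF, hf_smul_left hF, hf_smul_left hF,
            hf_smul_right hF, hf_smul_right hF, ha.2, hb.2, hf_symm hF b a]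
          linear_combination (hf b a * hf b a ^ 2) * two_eq_zero hF
      refine ⟨hI, fun c => ?_⟩
      have e1 : act (ψ (s (coord w a))) v = v := by
        rw [E.map_s _ hpa.2.1, act_tv_of_orth hF hpa.2.1.2 hpa.2.2.1]
      have e2 : act (ψ (s (coord w a))) (coord w b) = coord w (b + hf b a • a) := by
        rw [E.map_s _ hpa.2.1, act_tv hF hpa.2.1.2, coord_hf hF hw, coord_add, coord_smul]
      have e3 := E.rho_conj hpb c e1
      rw [e2] at e3
      rw [← e3]
      set q := E.rho v (coord w b) c with hq
      have hqR : q ∈ E.radical v := Subgroup.subset_closure (Or.inl ⟨_, _, hpb, rfl⟩)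
      obtain ⟨d, hd⟩ := (E.radical_spec hv hqR).2 (coord w a) (coord_perp hF hwv a)
      have e4 := E.equiv q (coord w a) hpa.2.1
      rw [hd] at e4
      have e5 : s (coord w a) * q * (s (coord w a))⁻¹ * q⁻¹ = E.rho v (coord w a) d := by
        rw [show s (coord w a) * q * (s (coord w a))⁻¹ * q⁻¹
          = s (coord w a) * (q * (s (coord w a))⁻¹ * q⁻¹) by group, E.s_inv hpa.2.1, e4]
        rfl
      rw [show s (coord w a) * q * (s (coord w a))⁻¹
        = (s (coord w a) * q * (s (coord w a))⁻¹ * q⁻¹) * q by group, e5]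
      exact mul_mem (haM d) (hbM c)
    · rintro c a ⟨ha, haM⟩ hc
      refine ⟨ha.smul hF hc, fun b => ?_⟩
      rw [coord_smul, E.rho_smul (coord_orthPair hF hw hwv hwz hv hz ha) hc]
      exact haM _
    · rintro a ⟨ha, haM⟩ b ⟨hb, hbM⟩ hab hne
      have hab' : hf a b = 0 := (hf_eq_zero_symm hF).1 hab
      have hI : Iso (b + a) := by
        refine ⟨hne, ?_⟩
        rw [hf_add_left hF, hf_add_right hF, hf_add_right hF, ha.2, hb.2, hab, hab']; simp
      by_cases hdep : ∃ d : F, b = d • a
      · obtain ⟨d, rfl⟩ := hdep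
        have e : d • a + a = (d + 1) • a := by rw [add_smul, one_smul]
        rw [e] at hne hI ⊢
        refine ⟨hI, fun c => ?_⟩
        have hd1 : d + 1 ≠ 0 := fun h => hne (by rw [h, zero_smul])
        rw [coord_smul, E.rho_smul (coord_orthPair hF hw hwv hwz hv hz ha) hd1]
        exact haM _
      refine ⟨hI, fun c => ?_⟩
      have hpa := coord_orthPair hF hw hwv hwz hv hz ha
      have hpb := coord_orthPair hF hw hwv hwz hv hz hb
      have hps := coord_orthPair hF hw hwv hwz hv hz hI
      rw [coord_add] at hps ⊢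
      refine (Subgroup.closure_le M).2 ?_ (rho_add E ho hpb hpa (by rw [coord_hf hF hw]; exact hab) hps ?_ c)
      · rintro x (rfl | rfl | rfl)
        exacts [hbM c, haM c, hMv]
      intro x y q e
      have h1 := congrArg (fun p => hf p z) e
      simp only [hf_add_left hF, hf_smul_left hF, hz.2, hf_zero_left hF, coord_perp hF hwz, mul_zero,
        mul_one, zero_add, add_zero] at h1
      subst h1
      have e' : coord w (x • b + q • a) = 0 := by
        rw [coord_add, coord_smul, coord_smul]
        simpa using e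
      have hcz : x • b + q • a = 0 := funext fun i => by
        have h2 := congrArg (fun p => hf p (w i)) e'
        simp only [hf_zero_left hF] at h2
        rw [coord, show hf (∑ j, (x • b + q • a) j • w j) (w i) = (x • b + q • a) i from
          Cfsg.Agent.Unitary.Orthonormal.coeff (herm hF) hw _ i] at h2
        exact h2
      by_cases hx : x = 0
      · subst hx
        rw [zero_smul, zero_add, smul_eq_zero] at hcz
        exact ⟨rfl, rfl, hcz.resolve_right ha.1⟩
      · exfalso
        refine hdep ⟨-(x⁻¹ * q), ?_⟩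
        have h2 := congrArg (fun p => x⁻¹ • p) hcz
        simp only [smul_add, smul_smul, inv_mul_cancel₀ hx, one_smul, smul_zero] at h2
        rw [neg_smul]; exact eq_neg_of_add_eq_zero_left h2
  have hle : E.radical v ≤ M := by
    refine (Subgroup.closure_le _).2 ?_
    rintro _ (⟨u, b, hu, rfl⟩ | h)
    · set a := hf u z with ha
      set u' := u + a • v with hu'
      have h1 : hf u' v = 0 := by
        rw [hu', hf_add_left hF, hf_smul_left hF, hv.2, (hf_eq_zero_symm hF).1 hu.2.2.1]; simp
      have h2 : hf u' z = 0 := by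
        rw [hu', hf_add_left hF, hf_smul_left hF, hz.2, mul_one, ← ha, add_self hF]
      have hc : coord w (fun i => hf u' (w i)) = u' := (hexp u' h1 h2).symm
      have hI : Iso (fun i => hf u' (w i)) := by
        refine ⟨fun h => ?_, ?_⟩
        · rw [h, coord_zero] at hc
          exact (hu.shift hF a).2.1.1 hc.symm
        · rw [← coord_hf hF hw, hc]; exact (hu.shift hF a).2.1.2
      have hm2 := (hall _ hI).2
      rw [hc] at hm2
      have hue : u = u' + a • v := by rw [hu', vadd_cancel hF]
      show E.rho v u b ∈ M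
      rw [hue, E.rho_shift (hu.shift hF a)]
      exact mul_mem (hm2 a) (hm2 (a + b))
    · rw [Set.mem_singleton_iff] at h
      show _ ∈ M
      rw [h]; exact hMv
  exact (Nat.card_le_card_of_injective _ (Subgroup.inclusion_injective hle)).trans hMc

/-- A non-trivial kernel forces a non-trivial oval. -/
theorem exists_oval (E : Ext ψ s) [Finite B] (hker : ψ.ker ≠ ⊥) :
    ∃ (ω t : F) (u v w : Fin 6 → F), ω ^ 2 = ω + 1 ∧ t ≠ 0 ∧ Plane u v w ∧
      ((ovalPts ω t u v w).map s).prod ≠ 1 := by
  classical
  by_contra hcon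
  have ho : OvalTrivial s := fun ω t hω ht u v w hP => by_contra fun h => hcon ⟨ω, t, u, v, w, hω, ht, hP, h⟩
  have hF := E.card
  have : Fact (Nat.Prime 2) := ⟨Nat.prime_two⟩
  have hv := (U62Mult.orthPair_std (F := F) hF).1
  obtain ⟨z, hz, -⟩ := exists_partner hF (k := 0) (b := Fin.elim0) linearIndependent_empty_type hv
    (fun i => i.elim0) (by simp [Submodule.span_empty, hv.1])
  let f : E.radical p1 → {x : Fin 6 → F // Partner (p1 : Fin 6 → F) x} := fun r => ⟨act (ψ r) z,
    by rw [act_hf]; exact hz.1, by
      have h1 := act_hf (ψ (r : B)) p1 z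
      rw [(E.radical_spec hv r.2).1] at h1
      rw [h1]; exact hz.2⟩
  have hs : Function.Surjective f := by
    rintro ⟨x, hx⟩
    obtain ⟨r, hr, hrx⟩ := E.radical_transitive (m := 4) rfl hv hz hx
    exact ⟨⟨r, hr⟩, Subtype.ext hrx⟩
  have h1 := Nat.card_le_card_of_surjective f hs
  have h2 := Ext.card_partner_ge hF (m := 4) rfl hv hz
  have hb := (Nat.bijective_iff_surjective_and_card f).2 ⟨hs, by
    have := card_radical_oval E ho hv
    have h3 : Nat.card {x : Fin 6 → F // Partner (p1 : Fin 6 → F) x} ≤ Nat.card (E.radical p1) := h1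
    refine le_antisymm ?_ h3
    exact this.trans h2⟩
  have hK : U62Mult.kPart E p1 = ⊥ := by
    rw [eq_bot_iff]
    rintro x ⟨hx, hxk⟩
    have : f ⟨x, hx⟩ = f 1 := Subtype.ext (by
      show act (ψ x) z = act (ψ ((1 : E.radical p1) : B)) z
      rw [MonoidHom.mem_ker.1 hxk, OneMemClass.coe_one, map_one])
    exact Subgroup.mem_bot.2 (congrArg Subtype.val (hb.1 this))
  obtain ⟨P⟩ := (inferInstance : Nonempty (Sylow 2 B))
  obtain ⟨U, -, hUN, hPU⟩ := U62Mult.split E hv 3 0 rfl Fin.elim0
    ⟨fun i => i.elim0, fun i => i.elim0⟩ (P : Subgroup B) P.isPGroup' (fun g _ i => i.elim0)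
  have hkP : ψ.ker ≤ (P : Subgroup B) := by
    rw [← P.3 (IsPGroup.to_sup_of_normal_right P.isPGroup' E.ker) le_sup_left]
    exact le_sup_right
  have hle := U62Mult.le_of_sylow_le (fun x hx => E.central hx) (E.perfect ▸ le_top) P hkP hPU
  exact hker (eq_bot_iff.2 fun x hx => hK ▸ hUN ⟨hle hx, hx⟩)

end Cfsg.Agent.TransCentFi22
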