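/-
Totally isotropic planes of a unitary six-space over GF(4).

Main results (namespace `Cfsg.Agent.TransCentFi22`):
* `Plane.exists_values` : an isotropic vector with given products on a plane;
* `exists_act_plane` : SU(6,2) is transitive on frames of totally isotropic planes.
-/
import Cfsg.Agent.Lib.TransCentFi22.Oval

set_option autoImplicit false

namespace Cfsg.Agent.TransCentFi22

open Cfsg.Agent.Unitary Cfsg.Agent.U62Cover Cfsg.Agent.ThreeTransSU Cfsg.Agent.FischerM22

variable {F : Type*} [Field F] [Fintype F] {n : ℕ}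

/-- The combination of three vectors. -/
abbrev comb (u v w : Fin n → F) (a b c : F) : Fin n → F := a • u + b • v + c • w

theorem exists_iso_shift (hF : Fintype.card F = 4) {x p : Fin n → F} (hp : hf p p = 0)
    (ha : hf x p ≠ 0) : ∃ l : F, Iso (x + l • p) := by
  set a := hf x p with hdef
  have hfix : hf x x ^ 2 = hf x x := (hf_symm hF x x).symm
  obtain ⟨t, ht⟩ := exists_trace hF hfix
  refine ⟨t * a, fun h0 => ha ?_, ?_⟩
  · have h1 := congrArg (fun z => hf z p) h0
    simpa [hf_add_left hF, hf_smul_left hF, hp, hf_zero_left hF] using h1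
  · rw [hf_add_left hF, hf_add_right hF, hf_add_right hF, hf_smul_left hF, hf_smul_left hF, hf_smul_right hF,
      hf_smul_right hF, hp, hf_symm hF x p, ← hdef]
    linear_combination (t + t ^ 2) * U62Cover.pow_three hF ha + ht + hf x x * two_eq_zero hF

/-- The product of three transvections that is an elation on the totally isotropic planes through `P`. -/
theorem act_elation (hF : Fintype.card F = 4) {P q : Fin n → F} (hP : hf P P = 0) (hq : hf q q = 0)
    (h : hf P q = 0) (x : Fin n → F) :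
    act (tv hF (P + q) * tv hF P * tv hF q) x = x + hf x P • q + hf x q • P := by
  have h' : hf q P = 0 := (hf_eq_zero_symm hF).1 h
  have hs : hf (P + q) (P + q) = 0 := by
    rw [hf_add_left hF, hf_add_right hF, hf_add_right hF, hP, hq, h, h']; simp
  rw [act_mul, act_mul, act_tv hF hs, act_tv hF hP, act_tv hF hq]
  funext i
  simp only [Pi.add_apply, Pi.smul_apply, smul_eq_mul, hf_add_left hF, hf_add_right hF, hf_smul_left hF,
    hP, hq, h, h', mul_zero, add_zero]
  linear_combination (hf x P * P i + hf x q * q i) * two_eq_zero hF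

namespace Plane

variable {u v w : Fin n → F}

theorem herm (hF : Fintype.card F = 4) (hP : Plane u v w) : ∀ p ∈ [u, v, w], ∀ q ∈ [u, v, w], hf p q = 0 := by
  have h1 := (hf_eq_zero_symm hF).1 hP.uv
  have h2 := (hf_eq_zero_symm hF).1 hP.uw
  have h3 := (hf_eq_zero_symm hF).1 hP.vw
  intro p hp q hq
  simp only [List.mem_cons, List.not_mem_nil, or_false] at hp hq
  rcases hp with rfl | rfl | rfl <;> rcases hq with rfl | rfl | rfl
  exacts [hP.iu.2, hP.uv, hP.uw, h1, hP.iv.2, hP.vw, h2, h3, hP.iw.2]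

theorem hf_comb (hF : Fintype.card F = 4) (hP : Plane u v w) (a b c a' b' c' : F) :
    hf (comb u v w a b c) (comb u v w a' b' c') = 0 :=
  comb_orth hF (hP.herm hF) a b c a' b' c'

theorem comb_inj (hP : Plane u v w) {a b c a' b' c' : F}
    (h : comb u v w a b c = comb u v w a' b' c') : a = a' ∧ b = b' ∧ c = c' := by
  obtain ⟨e1, e2, e3⟩ := hP.li (a - a') (b - b') (c - c') (by
    rw [sub_smul, sub_smul, sub_smul, ← sub_eq_zero.2 h]
    simp only [comb]; abel)
  exact ⟨sub_eq_zero.1 e1, sub_eq_zero.1 e2, sub_eq_zero.1 e3⟩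

theorem iso_comb (hF : Fintype.card F = 4) (hP : Plane u v w) {a b c : F}
    (h : a ≠ 0 ∨ b ≠ 0 ∨ c ≠ 0) : Iso (comb u v w a b c) := by
  refine ⟨fun e => ?_, hP.hf_comb hF _ _ _ _ _ _⟩
  obtain ⟨h1, h2, h3⟩ := hP.li a b c e
  rcases h with h | h | h <;> contradiction

theorem linearIndependent (hP : Plane u v w) : LinearIndependent F ![u, v, w] :=
  Fintype.linearIndependent_iff.2 fun g hg i => by
    rw [Fin.sum_univ_three] at hg
    obtain ⟨h1, h2, h3⟩ := hP.li (g 0) (g 1) (g 2) (by simpa using hg)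
    fin_cases i
    exacts [h1, h2, h3]

theorem orthPair (hP : Plane u v w) : OrthPair u v :=
  ⟨hP.iu, hP.iv, hP.uv, fun c e => by
    obtain ⟨-, h2, -⟩ := hP.li c (-1) 0 (by rw [e]; simp)
    simp at h2⟩

theorem rotate (hF : Fintype.card F = 4) (hP : Plane u v w) : Plane v w u :=
  ⟨hP.iv, hP.iw, hP.iu, hP.vw, (hf_eq_zero_symm hF).1 hP.uv, (hf_eq_zero_symm hF).1 hP.uw, fun a b c h => by
    obtain ⟨h1, h2, h3⟩ := hP.li c a b (by rw [← h]; abel)
    exact ⟨h2, h3, h1⟩⟩

theorem act (hP : Plane u v w) (g : Cfsg.SU n F 2) : Plane (act g u) (act g v) (act g w) :=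
  ⟨hP.iu.act g, hP.iv.act g, hP.iw.act g, by rw [act_hf]; exact hP.uv, by rw [act_hf]; exact hP.uw,
    by rw [act_hf]; exact hP.vw, fun a b c h => hP.li a b c ((act_eq_iff g).1 (by
      rw [act_add, act_add, act_smul, act_smul, act_smul, act_zero]; exact h))⟩

theorem smul_third (hF : Fintype.card F = 4) (hP : Plane u v w) {t : F} (ht : t ≠ 0) : Plane u v (t • w) :=
  ⟨hP.iu, hP.iv, hP.iw.smul hF ht, hP.uv, by rw [hf_smul_right hF, hP.uw, mul_zero],
    by rw [hf_smul_right hF, hP.vw, mul_zero], fun a b c h => by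
      obtain ⟨h1, h2, h3⟩ := hP.li a b (c * t) (by rw [mul_smul]; exact h)
      exact ⟨h1, h2, (mul_eq_zero.1 h3).resolve_right ht⟩⟩

/-- Three independent points of a plane span a plane. -/
theorem of_comb (hF : Fintype.card F = 4) (hP : Plane u v w) {a b c a' b' c' a'' b'' c'' : F}
    (hd : a * (b' * c'' - c' * b'') - b * (a' * c'' - c' * a'') + c * (a' * b'' - b' * a'') ≠ 0) :
    Plane (comb u v w a b c) (comb u v w a' b' c') (comb u v w a'' b'' c'') := by
  refine ⟨hP.iso_comb hF ?_, hP.iso_comb hF ?_, hP.iso_comb hF ?_, hP.hf_comb hF _ _ _ _ _ _,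
    hP.hf_comb hF _ _ _ _ _ _, hP.hf_comb hF _ _ _ _ _ _, fun x y z h => ?_⟩
  · by_contra h
    simp only [not_or, not_not] at h
    obtain ⟨rfl, rfl, rfl⟩ := h
    exact hd (by ring)
  · by_contra h
    simp only [not_or, not_not] at h
    obtain ⟨rfl, rfl, rfl⟩ := h
    exact hd (by ring)
  · by_contra h
    simp only [not_or, not_not] at h
    obtain ⟨rfl, rfl, rfl⟩ := h
    exact hd (by ring)
  obtain ⟨h1, h2, h3⟩ := hP.li (x * a + y * a' + z * a'') (x * b + y * b' + z * b'')
    (x * c + y * c' + z * c'') (by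
      rw [← h]; simp only [comb, add_smul, smul_add, smul_smul]; abel)
  refine ⟨(mul_eq_zero.1 ?_).resolve_right hd, (mul_eq_zero.1 ?_).resolve_right hd,
    (mul_eq_zero.1 ?_).resolve_right hd⟩
  · linear_combination (b' * c'' - c' * b'') * h1 - (a' * c'' - c' * a'') * h2 + (a' * b'' - b' * a'') * h3
  · linear_combination -(b * c'' - c * b'') * h1 + (a * c'' - c * a'') * h2 - (a * b'' - b * a'') * h3
  · linear_combination (b * c' - c * b') * h1 - (a * c' - c * a') * h2 + (a * b' - b * a') * h3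

end Plane

/-- A vector orthogonal to a plane of a six-space lies in it. -/
theorem Plane.mem_of_perp (hF : Fintype.card F = 4) {u v w : Fin 6 → F} (hP : Plane u v w) {x : Fin 6 → F}
    (hu : hf x u = 0) (hv : hf x v = 0) (hw : hf x w = 0) : ∃ a b c : F, x = comb u v w a b c := by
  have hli := hP.linearIndependent
  have hle : Submodule.span F (Set.range ![u, v, w]) ≤ perp hF ![u, v, w] := Submodule.span_le.2 (by
    rintro _ ⟨i, rfl⟩
    refine (mem_perp hF).2 fun j => hP.herm hF _ ?_ _ ?_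
    · fin_cases i <;> simp
    · fin_cases j <;> simp)
  have heq : Submodule.span F (Set.range ![u, v, w]) = perp hF ![u, v, w] :=
    Submodule.eq_of_le_of_finrank_eq hle (by
      have := finrank_perp hF hli
      rw [finrank_span_eq_card hli, Fintype.card_fin]; omega)
  have hx : x ∈ Submodule.span F (Set.range ![u, v, w]) := by
    rw [heq]; exact (mem_perp hF).2 fun j => by fin_cases j <;> assumption
  obtain ⟨c, hc⟩ := (Submodule.mem_span_range_iff_exists_fun F).1 hx
  refine ⟨c 0, c 1, c 2, ?_⟩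
  rw [← hc, Fin.sum_univ_three]
  simp

/-- An isotropic vector with given products on a plane. -/
theorem Plane.exists_values (hF : Fintype.card F = 4) {u v w : Fin n → F} (hP : Plane u v w) {a b c : F}
    (h : a ≠ 0 ∨ b ≠ 0 ∨ c ≠ 0) : ∃ q, Iso q ∧ hf q u = a ∧ hf q v = b ∧ hf q w = c := by
  obtain ⟨x, hx⟩ := exists_dual hF hP.linearIndependent ![a, b, c]
  have e1 : hf x u = a := hx 0
  have e2 : hf x v = b := hx 1
  have e3 : hf x w = c := hx 2
  obtain ⟨p, hp, hne⟩ : ∃ p ∈ [u, v, w], hf x p ≠ 0 := by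
    rcases h with h | h | h
    exacts [⟨u, by simp, e1 ▸ h⟩, ⟨v, by simp, e2 ▸ h⟩, ⟨w, by simp, e3 ▸ h⟩]
  have hh := hP.herm hF
  obtain ⟨l, hl⟩ := exists_iso_shift hF (hh p hp p hp) hne
  refine ⟨_, hl, ?_, ?_, ?_⟩ <;>
    rw [hf_add_left hF, hf_smul_left hF, hh p hp _ (by simp), mul_zero, add_zero] <;> assumption

/-- SU(6,2) is transitive on frames of totally isotropic planes, up to a scalar on the last point. -/
theorem exists_act_plane (hF : Fintype.card F = 4) {a b c u v w : Fin 6 → F} (hA : Plane a b c)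
    (hP : Plane u v w) :
    ∃ (g : Cfsg.SU 6 F 2) (k : F), k ≠ 0 ∧ act g a = u ∧ act g b = v ∧ act g c = k • w := by
  obtain ⟨g, hga, hgb⟩ := exists_act_two hF (by norm_num) hA.orthPair hP.orthPair
  have hQ := hA.act g
  rw [hga, hgb] at hQ
  -- bring the third point into the plane
  obtain ⟨g', hu', hv', α, β, γ, hγ, hc'⟩ : ∃ g' : Cfsg.SU 6 F 2, act g' u = u ∧ act g' v = v ∧
      ∃ α β γ : F, γ ≠ 0 ∧ act g' (act g c) = comb u v w α β γ := by
    set w' := act g c with hw'
    by_cases hk : hf w' w = 0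
    · obtain ⟨α, β, γ, e⟩ := hP.mem_of_perp hF ((hf_eq_zero_symm hF).1 hQ.uw)
        ((hf_eq_zero_symm hF).1 hQ.vw) hk
      refine ⟨1, act_one u, act_one v, α, β, γ, fun h0 => ?_, by rw [act_one]; exact e⟩
      obtain ⟨-, -, h3⟩ := hQ.li α β (-1) (by
        rw [e, h0]; simp [comb]; abel)
      simp at h3
    set k := hf w' w with hkdef
    set z := w + k⁻¹ • w' with hz
    have hwz : hf w' z = k := by
      rw [hz, hf_add_right hF, hf_smul_right hF, hQ.iw.2, mul_zero, add_zero]
    have hzz : hf z z = 0 := by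
      rw [hz, hf_add_left hF, hf_smul_left hF, hf_add_right hF, hf_add_right hF, hf_smul_right hF,
        hf_smul_right hF, hP.iw.2, hQ.iw.2, hf_symm hF w' w, ← hkdef]
      field_simp
      linear_combination k ^ 3 * two_eq_zero hF
    have hzu : ∀ {p}, hf p w = 0 → hf p w' = 0 → hf p z = 0 := fun h1 h2 => by
      rw [hz, hf_add_right hF, hf_smul_right hF, h1, h2]; simp
    refine ⟨tv hF z, act_tv_of_orth hF hzz (hzu hP.uw hQ.uw), act_tv_of_orth hF hzz (hzu hP.vw hQ.vw),
      0, 0, k, hk, ?_⟩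
    rw [act_tv hF hzz, hwz, hz, smul_add, smul_smul, mul_inv_cancel₀ hk, one_smul, add_comm (k • w),
      ← add_assoc, vadd_self hF]
    simp [comb]
  obtain ⟨q, hq, q1, q2, q3⟩ := hP.exists_values hF (a := 0) (b := 0) (c := (γ⁻¹) ^ 2)
    (Or.inr (Or.inr (pow_ne_zero 2 (inv_ne_zero hγ))))
  set P := comb u v w α β 0 with hPdef
  have hPq : hf P q = 0 := by
    rw [hPdef]
    simp only [comb, hf_add_left hF, hf_smul_left hF, (hf_eq_zero_symm hF).1 q1, (hf_eq_zero_symm hF).1 q2,
      mul_zero, zero_mul, add_zero]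
  have hE := act_elation hF (hP.hf_comb hF α β 0 α β 0) hq.2 hPq
  refine ⟨tv hF (P + q) * tv hF P * tv hF q * (g' * g), γ, hγ, ?_, ?_, ?_⟩
  · have e : u = comb u v w 1 0 0 := by simp [comb]
    rw [act_mul _ (g' * g), act_mul g' g, hga, hu', hE, (hf_eq_zero_symm hF).1 q1]
    nth_rw 2 [e]
    rw [hP.hf_comb hF]; simp
  · have e : v = comb u v w 0 1 0 := by simp [comb]
    rw [act_mul _ (g' * g), act_mul g' g, hgb, hv', hE, (hf_eq_zero_symm hF).1 q2]
    nth_rw 2 [e]
    rw [hP.hf_comb hF]; simp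
  · rw [act_mul _ (g' * g), act_mul g' g, hc', hE, hP.hf_comb hF]
    simp only [comb, hf_add_left hF, hf_smul_left hF, (hf_eq_zero_symm hF).1 q1, (hf_eq_zero_symm hF).1 q2,
      mul_zero, zero_add, zero_smul, add_zero]
    rw [hf_symm hF q w, q3, show γ * ((γ⁻¹ ^ 2) ^ 2) = 1 by
      rw [show (γ⁻¹ ^ 2) ^ 2 = γ⁻¹ * γ⁻¹ ^ 3 by ring, U62Cover.pow_three hF (inv_ne_zero hγ), mul_one, mul_inv_cancel₀ hγ],
      one_smul]
    funext i
    simp only [comb, Pi.add_apply, Pi.smul_apply, smul_eq_mul, zero_mul, add_zero]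
    linear_combination (α * u i + β * v i) * two_eq_zero hF

end Cfsg.Agent.TransCentFi22
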