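/-
An involution `d` whose centraliser is a double cover of PSU(6,2): the section of transvection lifts.

Main results (namespace `Cfsg.Agent.TransCentFi22`):
* `DLocal` : centraliser of `d` with an equivariant section `s` of transvection lifts whose five-point line
  products are one and with a hyperoval whose six-point product is `d`;
* `exists_dlocal` : it exists under the hypotheses of the transposition centraliser theorem.
-/
import Cfsg.Agent.Lib.TransCentFi22.Geom
import Cfsg.Prelude.Def_CaseTheorems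

set_option autoImplicit false

namespace Cfsg.Agent.TransCentFi22

open Cfsg.Agent.Unitary Cfsg.Agent.U62Cover Cfsg.Agent.ThreeTransSU Cfsg.Agent.FischerM22

variable {G : Type*} [Group G] {F : Type*} [Field F] [Fintype F]

/-- The centraliser of `d`. -/
abbrev Cen (d : G) : Subgroup G := Subgroup.centralizer ({d} : Set G)

/-- The centraliser of `d` as a double cover of PSU(6,2) with its section of transvection lifts. -/
structure DLocal (d : G) (π : ↥(Cen d) →* Cfsg.PSU 6 F 2) (s : (Fin 6 → F) → G) : Prop where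
  order : orderOf d = 2
  card : Fintype.card F = 4
  surj : Function.Surjective π
  ker : ∀ x, π x = 1 ↔ (x : G) = 1 ∨ (x : G) = d
  mem : ∀ v, Iso v → s v ∈ Cen d
  image : ∀ v, Iso v → ∀ h : s v ∈ Cen d, π ⟨s v, h⟩ = toPSU 6 F (tv card v)
  sq : ∀ v, Iso v → s v * s v = 1
  smul : ∀ (v : Fin 6 → F) (c : F), Iso v → c ≠ 0 → s (c • v) = s v
  equiv : ∀ (x : ↥(Cen d)) (g : Cfsg.SU 6 F 2), π x = toPSU 6 F g → ∀ v, Iso v →
    (x : G) * s v * (x : G)⁻¹ = s (act g v)
  line : ∀ (ω : F) (u w : Fin 6 → F), ω ^ 2 = ω + 1 → OrthPair u w → ((linePts ω u w).map s).prod = 1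
  oval : ∃ (ω t : F) (u v w : Fin 6 → F), ω ^ 2 = ω + 1 ∧ t ≠ 0 ∧ Plane u v w ∧
    ((ovalPts ω t u v w).map s).prod = d
  gen : Subgroup.closure {x | ∃ v, Iso v ∧ x = s v} = Cen d

theorem exists_dlocal [Finite G] (d : G) (hd : orderOf d = 2) (hF : Fintype.card F = 4)
    (hperf : commutator ↥(Cen d) = ⊤) [((Subgroup.zpowers d).subgroupOf (Cen d)).Normal]
    (e : ↥(Cen d) ⧸ (Subgroup.zpowers d).subgroupOf (Cen d) ≃* Cfsg.PSU 6 F 2) :
    ∃ (π : ↥(Cen d) →* Cfsg.PSU 6 F 2) (s : (Fin 6 → F) → G), DLocal d π s := by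
  classical
  let π : ↥(Cen d) →* Cfsg.PSU 6 F 2 := e.toMonoidHom.comp (QuotientGroup.mk' _)
  have hs : Function.Surjective π := e.surjective.comp (QuotientGroup.mk'_surjective _)
  have hd2 : d * d = 1 := by rw [← pow_two, ← hd, pow_orderOf_eq_one]
  have hd1 : d ≠ 1 := fun h => by rw [h, orderOf_one] at hd; omega
  have hker : ∀ x, π x = 1 ↔ (x : G) = 1 ∨ (x : G) = d := fun x => by
    show e (QuotientGroup.mk' _ x) = 1 ↔ _
    rw [EmbeddingLike.map_eq_one_iff, QuotientGroup.mk'_apply, QuotientGroup.eq_one_iff, Subgroup.mem_subgroupOf]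
    refine ⟨fun h => ?_, fun h => ?_⟩
    · obtain ⟨k, hk, hx⟩ : ∃ k < 2, d ^ k = (x : G) := by
        rw [mem_zpowers_iff_mem_range_orderOf, Finset.mem_image] at h
        obtain ⟨k, hk, hx⟩ := h
        rw [hd, Finset.mem_range] at hk
        exact ⟨k, hk, hx⟩
      interval_cases k
      · exact Or.inl (by rw [← hx, pow_zero])
      · exact Or.inr (by rw [← hx, pow_one])
    · rcases h with h | h <;> rw [h]
      exacts [one_mem _, Subgroup.mem_zpowers d]
  let dC : ↥(Cen d) := ⟨d, Subgroup.mem_centralizer_singleton_iff.2 rfl⟩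
  -- the pullback to SU(6,2)
  let B : Subgroup (↥(Cen d) × Cfsg.SU 6 F 2) :=
    (π.comp (MonoidHom.fst _ _)).eqLocus ((toPSU 6 F).comp (MonoidHom.snd _ _))
  have hBmem : ∀ (x : ↥(Cen d)) (g : Cfsg.SU 6 F 2), π x = toPSU 6 F g → (x, g) ∈ B := fun x g h => h
  have hmemB : ∀ p : B, π p.1.1 = toPSU 6 F p.1.2 := fun p => p.2
  let q1 : B →* ↥(Cen d) := (MonoidHom.fst _ _).comp B.subtype
  let ψ : B →* Cfsg.SU 6 F 2 := (MonoidHom.snd _ _).comp B.subtype
  have hq1 : Function.Surjective q1 := fun x => by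
    obtain ⟨g, hg⟩ := QuotientGroup.mk'_surjective _ (π x)
    exact ⟨⟨(x, g), hBmem x g hg.symm⟩, rfl⟩
  have hψ : Function.Surjective ψ := fun g => by
    obtain ⟨x, hx⟩ := hs (toPSU 6 F g)
    exact ⟨⟨(x, g), hBmem x g hx⟩, rfl⟩
  let δ : B := ⟨(dC, 1), hBmem _ _ (by rw [map_one]; exact (hker dC).2 (Or.inr rfl))⟩
  have hψk : ∀ p : B, ψ p = 1 → p = 1 ∨ p = δ := fun p hp => by
    have h1 : π p.1.1 = 1 := by
      rw [hmemB p, show p.1.2 = 1 from hp, map_one]
    exact ((hker _).1 h1).imp (fun h => Subtype.ext (Prod.ext (Subtype.ext h) hp))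
      (fun h => Subtype.ext (Prod.ext (Subtype.ext h) hp))
  have hδ2 : δ * δ = 1 := Subtype.ext (Prod.ext (Subtype.ext hd2) (one_mul 1))
  have hδc : ψ.ker ≤ Subgroup.center B := fun p hp => by
    refine Subgroup.mem_center_iff.2 fun r => ?_
    rcases hψk p (MonoidHom.mem_ker.1 hp) with rfl | rfl
    · rw [mul_one, one_mul]
    · refine Subtype.ext (Prod.ext (Subtype.ext ?_) ?_)
      · show (r.1.1 : G) * d = d * (r.1.1 : G)
        exact Subgroup.mem_centralizer_singleton_iff.1 r.1.1.2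
      · show r.1.2 * 1 = 1 * r.1.2
        rw [mul_one, one_mul]
  have hk2 : IsPGroup 2 ψ.ker := fun p => ⟨1, Subtype.ext (by
    rw [pow_one, SubgroupClass.coe_pow, OneMemClass.coe_one, pow_two]
    rcases hψk p.1 (MonoidHom.mem_ker.1 p.2) with h | h <;> rw [h]
    exacts [one_mul 1, hδ2])⟩
  have hBperf : commutator B = ⊤ := by
    have hmapψ : (commutator B).map ψ = ⊤ := by
      rw [commutator_def, Subgroup.map_commutator, Subgroup.map_top_of_surjective _ hψ, ← commutator_def,
        Cfsg.Agent.Unitary.commutator_SU_eq_top (card_sq hF) (Or.inl (by norm_num))]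
    have hmapq : (commutator B).map q1 = ⊤ := by
      rw [commutator_def, Subgroup.map_commutator, Subgroup.map_top_of_surjective _ hq1, ← commutator_def, hperf]
    have hδ : δ ∈ commutator B := by
      obtain ⟨p, hp, hpd⟩ := (hmapq ▸ Subgroup.mem_top dC : dC ∈ (commutator B).map q1)
      have hz : p.1.2 ∈ Subgroup.center (Cfsg.SU 6 F 2) := by
        refine toPSU_eq_one.1 ?_
        rw [← hmemB p, show p.1.1 = dC from hpd]
        exact (hker dC).2 (Or.inr rfl)
      have e3 : p ^ 3 = δ := by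
        refine Subtype.ext (Prod.ext (Subtype.ext ?_) ?_)
        · show ((p.1.1 ^ 3 : ↥(Cen d)) : G) = d
          rw [show p.1.1 = dC from hpd, SubgroupClass.coe_pow]
          show d ^ 3 = d
          rw [pow_succ, pow_two, hd2, one_mul]
        · show p.1.2 ^ 3 = 1
          exact center_cube hF (by norm_num) hz
      exact e3 ▸ pow_mem hp 3
    refine eq_top_iff.2 fun p _ => ?_
    obtain ⟨r, hr, hrp⟩ := (hmapψ ▸ Subgroup.mem_top (ψ p) : ψ p ∈ (commutator B).map ψ)
    have h1 : ψ (r⁻¹ * p) = 1 := by rw [map_mul, map_inv, hrp, inv_mul_cancel]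
    rw [show p = r * (r⁻¹ * p) by group]
    refine mul_mem hr ?_
    rcases hψk _ h1 with h | h <;> rw [h]
    exacts [one_mem _, hδ]
  obtain ⟨s, E⟩ := U62Mult.exists_ext hF hψ hδc hk2 hBperf
  refine ⟨π, fun v => ((s v).1.1 : G), hd, hF, hs, hker, fun v _ => (s v).1.1.2, fun v hv h => ?_,
    fun v hv => congrArg (fun p : B => (p.1.1 : G)) (E.sq v hv),
    fun v c hv hc => congrArg (fun p : B => (p.1.1 : G)) (E.smul v c hv hc), fun x g hx v hv => ?_,
    fun ω u w hω h => ?_, ?_, ?_⟩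
  · show π (s v).1.1 = _
    rw [hmemB (s v), show (s v).1.2 = tv hF v from E.map_s v hv]
  · exact congrArg (fun p : B => (p.1.1 : G)) (E.equiv ⟨(x, g), hBmem x g hx⟩ v hv)
  · have h1 := congrArg (fun p : B => (p.1.1 : G)) (E.line_all h hω)
    simpa [linePts, lineProd, mul_assoc] using h1
  · have hne : ψ.ker ≠ ⊥ := fun h => by
      have h1 : δ ∈ ψ.ker := MonoidHom.mem_ker.2 rfl
      rw [h, Subgroup.mem_bot] at h1
      exact hd1 (congrArg (fun p : B => (p.1.1 : G)) h1)
    obtain ⟨ω, t, u, v, w, hω, ht, hP, hprod⟩ := exists_oval E hne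
    refine ⟨ω, t, u, v, w, hω, ht, hP, ?_⟩
    have h1 : ψ ((ovalPts ω t u v w).map s).prod = 1 := by
      rw [map_list_prod, List.map_map, List.map_congr_left (g := tv hF), tv_hyperoval hF hω ht (hP.herm hF)]
      intro p hp
      obtain ⟨a, b, c, rfl⟩ := ovalPts_comb ω t u v w p hp
      refine E.map_s _ ?_
      simp only [ovalPts, List.mem_cons, List.not_mem_nil, or_false] at hp
      have hA : ∀ {b c : F}, Iso (comb u v w 1 b c) := fun {b c} => hP.iso_comb hF (Or.inl one_ne_zero)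
      rcases hp with hp | hp | hp | hp | hp | hp <;> rw [hp]
      · exact hP.iu
      · exact hP.iv
      · exact hP.iw
      · simpa [comb] using hA (b := 1) (c := t)
      · simpa [comb] using hA (b := ω) (c := ω ^ 2 * t)
      · simpa [comb] using hA (b := ω ^ 2) (c := ω * t)
    have h2 := congrArg (fun p : B => (p.1.1 : G)) ((hψk _ h1).resolve_left hprod)
    simpa [ovalPts, mul_assoc] using h2
  · refine le_antisymm ((Subgroup.closure_le _).2 ?_) fun x hx => ?_
    · rintro _ ⟨v, -, rfl⟩; exact (s v).1.1.2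
    obtain ⟨p, hp⟩ := hq1 ⟨x, hx⟩
    rw [show x = (q1 p : G) by rw [hp]]
    have hle : Subgroup.closure {b : B | ∃ v, Iso v ∧ b = s v} ≤ (Subgroup.closure
        {x : G | ∃ v, Iso v ∧ x = ((s v).1.1 : G)}).comap ((Cen d).subtype.comp q1) :=
      (Subgroup.closure_le _).2 (by rintro _ ⟨v, hv, rfl⟩; exact Subgroup.subset_closure ⟨v, hv, rfl⟩)
    exact hle (E.gen ▸ Subgroup.mem_top p)

end Cfsg.Agent.TransCentFi22
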