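/-
The computations for the uniqueness of the common neighbourhood, checked.

Main results (namespace `Cfsg.Agent.TransCentFi22`):
* `bad_check` : fifteen of the sixteen parameter pairs force three collinear points;
* `good_build`, `good_pts`, `good_deg`, `good_distinct`, `good_tbl` : the closure of the sixteenth.
-/
import Cfsg.Agent.Lib.TransCentFi22.SixData

set_option autoImplicit false

namespace Cfsg.Agent.TransCentFi22

open Cfsg.Agent.Unitary Cfsg.Agent.SU32 Cfsg.Agent.ThreeTransSU.GensCert

/-- The image of `b` under the transvection at `a`. -/
def tvL (a b : List K4) : List K4 := List.ofFn fun i : Fin 6 => vec 6 b i + hk 6 b a * vec 6 a i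

/-- Apply steps, checking the indices. -/
def sixBuild : List (ℕ × ℕ) → List (List K4) → Option (List (List K4))
  | [], L => some L
  | (i, j) :: st, L =>
    if i < L.length ∧ j < L.length then sixBuild st (L ++ [tvL (L.getD i []) (L.getD j [])]) else none

/-- Equality up to a non-zero scalar. -/
def eqvL (a b : List K4) : Bool :=
  decide (a = smulL 6 .o b) || decide (a = smulL 6 .w b) || decide (a = smulL 6 .w2 b)

/-- One derivation of three collinear points. -/
def badOK : K4 × K4 × List (ℕ × ℕ) × ℕ × ℕ × ℕ × K4 × K4 → Bool
  | (δ, μ, st, i, j, k, α, β) =>
    match sixBuild st (eight δ μ) with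
    | none => false
    | some L => decide (i < L.length ∧ j < L.length ∧ k < L.length) &&
        decide (hk 6 (L.getD i []) (L.getD j []) = .z) && decide (α ≠ .z ∧ β ≠ .z) &&
        ([K4.z, .o, .w, .w2].all fun c => decide (L.getD j [] ≠ smulL 6 c (L.getD i []))) &&
        decide (L.getD k [] = addL (smulL 6 α (L.getD i [])) (smulL 6 β (L.getD j [])))

/-- All cases but one have a derivation. -/
def badCovered : Bool :=
  badCases.all badOK && ([K4.z, .o, .w, .w2].all fun δ => [K4.z, .o, .w, .w2].all fun μ =>
    decide (δ = .z ∧ μ = .w2) || badCases.any fun c => decide (c.1 = δ ∧ c.2.1 = μ))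

theorem bad_check : badCovered = true := by decide +kernel

theorem good_build : sixBuild goodSteps (eight .z .w2) = some goodList := by decide +kernel

theorem good_length : goodList.length = 126 ∧ goodTblRows.length = 126 ∧
    goodTblRows.all (fun r => decide (r.length = 126 ∧ ∀ k ∈ r, k < 126)) = true := by decide +kernel

theorem good_pts : goodList.all (fun a => decide (hk 6 a a = .z ∧ vec 6 a ≠ fun _ => .z)) = true := by
  decide +kernel

theorem good_deg : goodList.all (fun a =>
    decide (goodList.countP (fun b => decide (hk 6 b a = .z)) = 46)) = true := by decide +kernel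

theorem good_distinct : (List.range 126).all (fun i => (List.range i).all fun j =>
    !eqvL (goodList.getD i []) (goodList.getD j [])) = true := by decide +kernel

theorem good_tbl : (goodList.zip goodTblRows).all (fun ar =>
    (goodList.zip ar.2).all fun bk => eqvL (tvL ar.1 bk.1) (goodList.getD bk.2 [])) = true := by decide +kernel

end Cfsg.Agent.TransCentFi22
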