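/-
A set of isotropic points meeting the lines through its points in two points is unique up to coordinates.

Main result (namespace `Cfsg.Agent.TransCentFi22`): `Six.exists_coords` : such a set, closed under the
transvections at its points, contains 126 points with the orthogonality and the action of the model table.

A frame and dual points of the set leave two parameters; fifteen of the sixteen choices force three collinear
points of the set.
-/
import Cfsg.Agent.Lib.TransCentFi22.SixCheck
import Cfsg.Agent.Lib.TransCentFi22.Geom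

set_option autoImplicit false

namespace Cfsg.Agent.TransCentFi22

open Cfsg.Agent.Unitary Cfsg.Agent.U62Cover Cfsg.Agent.ThreeTransSU Cfsg.Agent.FischerM22
open Cfsg.Agent.SU32 Cfsg.Agent.ThreeTransSU.GensCert
open Cfsg.Agent.ThreeTransSU.Ext (coord coord_hf coord_add coord_smul coord_zero)

variable {F : Type*} [Field F] [Fintype F]

/-- The properties used of the set of vectors of the common neighbours. -/
structure Six (V : Set (Fin 6 → F)) : Prop where
  card : Fintype.card F = 4
  nonempty : V.Nonempty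
  iso : ∀ v ∈ V, Iso v
  smul : ∀ v ∈ V, ∀ c : F, c ≠ 0 → c • v ∈ V
  tv_mem : ∀ u ∈ V, ∀ w ∈ V, w + hf w u • u ∈ V
  no_three : ∀ q ∈ V, ∀ x ∈ V, OrthPair q x → ∀ a b : F, a ≠ 0 → b ≠ 0 → a • q + b • x ∉ V
  line : ∀ q ∈ V, ∀ x, OrthPair q x → ∃ k : F, x + k • q ∈ V

/-- The vector with given coordinate list in the basis `b`. -/
def emb (e : K4 ≃+* F) (b : Fin 6 → (Fin 6 → F)) (l : List K4) : Fin 6 → F :=
  coord b fun i => e (vec 6 l i)

section Emb

variable {e : K4 ≃+* F} {b : Fin 6 → (Fin 6 → F)}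

theorem emb_hf (hF : Fintype.card F = 4) (hb : Orthonormal (Cfsg.hermForm 6 F 2) b) (l l' : List K4) :
    hf (emb e b l) (emb e b l') = e (hk 6 l l') := by
  rw [emb, emb, coord_hf hF hb, hf_map e]; rfl

theorem emb_inj (hF : Fintype.card F = 4) (hb : Orthonormal (Cfsg.hermForm 6 F 2) b) {l l' : List K4}
    (h : emb e b l = emb e b l') : vec 6 l = vec 6 l' := by
  funext i
  refine e.injective ?_
  have h2 := congrArg (fun p => hf p (b i)) h
  simp only [emb, coord] at h2
  rwa [show hf (∑ j, e (vec 6 l j) • b j) (b i) = e (vec 6 l i) from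
      Cfsg.Agent.Unitary.Orthonormal.coeff (herm hF) hb _ i,
    show hf (∑ j, e (vec 6 l' j) • b j) (b i) = e (vec 6 l' i) from
      Cfsg.Agent.Unitary.Orthonormal.coeff (herm hF) hb _ i] at h2

theorem emb_smulL (c : K4) (l : List K4) : emb e b (smulL 6 c l) = e c • emb e b l := by
  rw [emb, emb, ← coord_smul, smulL]
  simp only [vec_ofFn]
  congr 1
  funext i
  simp

theorem emb_addL (l l' : List K4) : emb e b (addL l l') = emb e b l + emb e b l' := by
  rw [emb, emb, emb, ← coord_add, addL]
  simp only [vec_ofFn]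
  congr 1
  funext i
  simp

theorem emb_tvL (hF : Fintype.card F = 4) (hb : Orthonormal (Cfsg.hermForm 6 F 2) b) (a x : List K4) :
    emb e b (tvL a x) = emb e b x + hf (emb e b x) (emb e b a) • emb e b a := by
  rw [emb_hf hF hb, emb, emb, emb, ← coord_smul, ← coord_add, tvL]
  simp only [vec_ofFn]
  congr 1
  funext i
  simp

theorem emb_eqvL {l l' : List K4} (h : eqvL l l' = true) : ∃ c : F, c ≠ 0 ∧ emb e b l = c • emb e b l' := by
  simp only [eqvL, Bool.or_eq_true, decide_eq_true_eq] at h
  have hne : ∀ c : K4, c ≠ .z → e c ≠ 0 := fun c hc h0 => hc ((map_eq_zero_iff e e.injective).1 h0)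
  rcases h with (h | h) | h <;> rw [h, emb_smulL] <;> exact ⟨_, hne _ (by decide), rfl⟩

end Emb

theorem sixBuild_mem {e : K4 ≃+* F} {b : Fin 6 → (Fin 6 → F)} (hF : Fintype.card F = 4)
    (hb : Orthonormal (Cfsg.hermForm 6 F 2) b) {V : Set (Fin 6 → F)} (hV : Six V) :
    ∀ (st : List (ℕ × ℕ)) (L L' : List (List K4)), (∀ p ∈ L, emb e b p ∈ V) → sixBuild st L = some L' →
      ∀ p ∈ L', emb e b p ∈ V := by
  intro st
  induction st with
  | nil => intro L L' h e1; simp only [sixBuild, Option.some.injEq] at e1; exact e1 ▸ h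
  | cons q st ih =>
    obtain ⟨i, j⟩ := q
    intro L L' h e1
    rw [sixBuild] at e1
    split at e1
    case isFalse => exact absurd e1 (by simp)
    case isTrue hij =>
      refine ih _ L' (fun p hp => ?_) e1
      rcases List.mem_append.1 hp with hp | hp
      · exact h p hp
      rw [List.mem_singleton] at hp
      subst hp
      rw [emb_tvL hF hb]
      refine hV.tv_mem _ (h _ ?_) _ (h _ ?_)
      · rw [List.getD_eq_getElem _ _ hij.1]; exact List.getElem_mem _
      · rw [List.getD_eq_getElem _ _ hij.2]; exact List.getElem_mem _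

/-- The index of the image of point `j` under the transvection at point `i`. -/
def goodTbl (i j : Fin 126) : Fin 126 :=
  ⟨((goodTblRows.getD i.val []).getD j.val 0) % 126, Nat.mod_lt _ (by norm_num)⟩

/-- The points. -/
def goodPt (i : Fin 126) : List K4 := goodList.getD i.val []

/-- The set contains 126 points with the orthogonality and action of the table. -/
theorem Six.exists_coords {V : Set (Fin 6 → F)} (hV : Six V) :
    ∃ w : Fin 126 → (Fin 6 → F), (∀ i, w i ∈ V) ∧ (∀ i j (c : F), w j = c • w i → i = j) ∧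
      (∀ i j, hf (w i) (w j) = 0 ↔ hk 6 (goodPt i) (goodPt j) = .z) ∧
      ∀ i j, ∃ c : F, c ≠ 0 ∧ w j + hf (w j) (w i) • w i = c • w (goodTbl i j) := by
  classical
  have hF := hV.card
  have h2 : ∀ x : F, x + x = 0 := add_self hF
  obtain ⟨u₀, w₀, r₀, hu₀, hw₀, hr₀, hh, hli⟩ := exists_plane (F := F) hF
  have hE : Plane u₀ w₀ r₀ := ⟨hu₀, hw₀, hr₀, hh u₀ (by simp) w₀ (by simp), hh u₀ (by simp) r₀ (by simp),
    hh w₀ (by simp) r₀ (by simp), hli⟩
  -- a frame of the set
  obtain ⟨E1, E2, E3, hP, m1, m2, m3, m4⟩ : ∃ E1 E2 E3, Plane E1 E2 E3 ∧ E1 ∈ V ∧ E2 ∈ V ∧ E3 ∈ V ∧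
      E1 + E2 + E3 ∈ V := by
    obtain ⟨q, hq⟩ := hV.nonempty
    obtain ⟨g, hg⟩ := exists_act hF (by norm_num) hu₀ (hV.iso q hq)
    have hQ := hE.act g
    rw [hg] at hQ
    obtain ⟨k, hk⟩ := hV.line q hq _ hQ.orthPair
    set q2 := act g w₀ + k • q with hq2
    have hQ2 : Plane q q2 (act g r₀) := by
      have := hQ.of_comb hF (a := 1) (b := 0) (c := 0) (a' := k) (b' := 1) (c' := 0) (a'' := 0) (b'' := 0)
        (c'' := 1) (by simp)
      simpa [comb, hq2, add_comm] using this
    obtain ⟨k', hk'⟩ := hV.line q hq _ (OrthPair.symm hF ((hQ2.rotate hF).rotate hF).orthPair)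
    set q3 := act g r₀ + k' • q with hq3
    have hQ3 : Plane q q2 q3 := by
      have := hQ2.of_comb hF (a := 1) (b := 0) (c := 0) (a' := 0) (b' := 1) (c' := 0) (a'' := k') (b'' := 0)
        (c'' := 1) (by simp)
      simpa [comb, hq3, add_comm] using this
    have hP1 : OrthPair q (q2 + q3) := by
      have := hQ3.of_comb hF (a := 1) (b := 0) (c := 0) (a' := 0) (b' := 1) (c' := 1) (a'' := 0) (b'' := 0)
        (c'' := 1) (by simp)
      simpa [comb] using this.orthPair
    obtain ⟨k'', hk''⟩ := hV.line q hq _ hP1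
    have hne : k'' ≠ 0 := by
      intro h0
      rw [h0, zero_smul, add_zero] at hk''
      exact hV.no_three q2 hk q3 hk' (hQ3.rotate hF).orthPair 1 1 one_ne_zero one_ne_zero
        (by simpa using hk'')
    refine ⟨k'' • q, q2, q3, ?_, hV.smul q hq _ hne, hk, hk', ?_⟩
    · have := hQ3.of_comb hF (a := k'') (b := 0) (c := 0) (a' := 0) (b' := 1) (c' := 0) (a'' := 0) (b'' := 0)
        (c'' := 1) (by simpa using hne)
      simpa [comb] using this
    · rwa [show k'' • q + q2 + q3 = q2 + q3 + k'' • q by abel]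
  have he := hP.herm hF
  have s12 := (hf_eq_zero_symm hF).1 hP.uv
  have s13 := (hf_eq_zero_symm hF).1 hP.uw
  have s23 := (hf_eq_zero_symm hF).1 hP.vw
  -- a point of the set with given products, on the line of a given point
  have hdual : ∀ p ∈ V, ∀ x, Iso x → hf x p = 0 → (∀ c : F, x ≠ c • p) → ∃ k : F, x + k • p ∈ V :=
    fun p hp x hx h hn => hV.line p hp x ⟨hV.iso p hp, hx, (hf_eq_zero_symm hF).1 h, hn⟩
  have hnz : ∀ {x p E : Fin 6 → F}, hf x E = 1 → hf p E = 0 → ∀ c : F, x ≠ c • p := by
    intro x p E h1 h0 c e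
    rw [e, hf_smul_left hF, h0, mul_zero] at h1
    exact zero_ne_one h1
  -- first dual point
  obtain ⟨F1, hF1V, a1, b1, c1⟩ : ∃ x ∈ V, hf x E1 = 1 ∧ hf x E2 = 0 ∧ hf x E3 = 0 := by
    obtain ⟨x, hx, a, b, c⟩ := hP.exists_values hF (a := 1) (b := 0) (c := 0) (Or.inl one_ne_zero)
    obtain ⟨k, hk⟩ := hdual E2 m2 x hx b (hnz a s12)
    refine ⟨_, hk, ?_, ?_, ?_⟩ <;> simp [hf_add_left hF, hf_smul_left hF, hP.iv.2, s12, hP.vw, a, b, c]
  have iF1 := hV.iso _ hF1V
  have a1' : hf E1 F1 = 1 := hf_eq_one_symm hF a1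
  have b1' : hf E2 F1 = 0 := (hf_eq_zero_symm hF).1 b1
  have c1' : hf E3 F1 = 0 := (hf_eq_zero_symm hF).1 c1
  -- second dual point
  obtain ⟨F2, hF2V, a2, b2, c2, d2⟩ : ∃ x ∈ V, hf x E1 = 0 ∧ hf x E2 = 1 ∧ hf x E3 = 0 ∧ hf x F1 = 0 := by
    obtain ⟨x, hx, a, b, c⟩ := hP.exists_values hF (a := 0) (b := 1) (c := 0) (Or.inr (Or.inl one_ne_zero))
    set x' := x + hf x F1 • E1 with hx'
    have a' : hf x' E1 = 0 := by simp [hx', hf_add_left hF, hf_smul_left hF, hP.iu.2, a]
    have b' : hf x' E2 = 1 := by simp [hx', hf_add_left hF, hf_smul_left hF, hP.uv, b]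
    have c' : hf x' E3 = 0 := by simp [hx', hf_add_left hF, hf_smul_left hF, hP.uw, c]
    have d' : hf x' F1 = 0 := by simp [hx', hf_add_left hF, hf_smul_left hF, a1', h2]
    have hI : Iso x' := by
      refine ⟨fun e => by simp [e, hf_zero_left hF] at b', ?_⟩
      simp [hx', hf_add_left hF, hf_add_right hF, hf_smul_left hF, hf_smul_right hF, hP.iu.2, hx.2, a,
        (hf_eq_zero_symm hF).1 a]
    obtain ⟨k, hk⟩ := hdual E3 m3 x' hI c' (hnz b' s23)
    refine ⟨_, hk, ?_, ?_, ?_, ?_⟩ <;>
      simp [hf_add_left hF, hf_smul_left hF, hP.iw.2, s13, s23, c1', a', b', c', d']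
  have iF2 := hV.iso _ hF2V
  have a2' : hf E1 F2 = 0 := (hf_eq_zero_symm hF).1 a2
  have b2' : hf E2 F2 = 1 := hf_eq_one_symm hF b2
  have c2' : hf E3 F2 = 0 := (hf_eq_zero_symm hF).1 c2
  have d2' : hf F1 F2 = 0 := (hf_eq_zero_symm hF).1 d2
  -- third dual vector
  obtain ⟨F3, δ, hF3V, iF3, a3, b3, c3, d3, g3⟩ : ∃ (x : Fin 6 → F) (δ : F), x + δ • E2 ∈ V ∧ Iso x ∧
      hf x E1 = 0 ∧ hf x E2 = 0 ∧ hf x E3 = 1 ∧ hf x F1 = 0 ∧ hf x F2 = 0 := by
    obtain ⟨x, hx, a, b, c⟩ := hP.exists_values hF (a := 0) (b := 0) (c := 1) (Or.inr (Or.inr one_ne_zero))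
    set x' := x + hf x F1 • E1 + hf x F2 • E2 with hx'
    have a' : hf x' E1 = 0 := by simp [hx', hf_add_left hF, hf_smul_left hF, hP.iu.2, s12, a]
    have b' : hf x' E2 = 0 := by simp [hx', hf_add_left hF, hf_smul_left hF, hP.uv, hP.iv.2, b]
    have c' : hf x' E3 = 1 := by simp [hx', hf_add_left hF, hf_smul_left hF, hP.uw, hP.vw, c]
    have d' : hf x' F1 = 0 := by simp [hx', hf_add_left hF, hf_smul_left hF, a1', b1', h2]
    have g' : hf x' F2 = 0 := by simp [hx', hf_add_left hF, hf_smul_left hF, a2', b2', h2]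
    have hI : Iso x' := by
      refine ⟨fun e => by simp [e, hf_zero_left hF] at c', ?_⟩
      simp [hx', hf_add_left hF, hf_add_right hF, hf_smul_left hF, hf_smul_right hF, hP.iu.2, hP.iv.2, hP.uv,
        s12, hx.2, a, b, (hf_eq_zero_symm hF).1 a, (hf_eq_zero_symm hF).1 b]
    obtain ⟨k, hk⟩ := hdual E2 m2 x' hI b' (hnz c' hP.vw)
    exact ⟨x', k, hk, hI, a', b', c', d', g'⟩
  -- the orthonormal basis
  let e : K4 ≃+* F := FiniteField.ringEquivOfCardEq (hF ▸ K4.card_eq)
  set ω := e K4.w with hωdef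
  set ω' := e K4.w2 with hω'def
  have q1 : ω + ω' = 1 := by rw [hωdef, hω'def, ← map_add]; exact map_one e
  have q2 : ω ^ 2 = ω' := by
    rw [hωdef, hω'def, ← map_pow]; exact congrArg e (show (K4.w : K4) ^ 2 = K4.w2 by decide +kernel)
  have q3 : ω' ^ 2 = ω := by
    rw [hωdef, hω'def, ← map_pow]; exact congrArg e (show (K4.w2 : K4) ^ 2 = K4.w by decide +kernel)
  let bs : Fin 6 → (Fin 6 → F) :=
    ![ω' • E1 + F1, ω • E1 + F1, ω' • E2 + F2, ω • E2 + F2, ω' • E3 + F3, ω • E3 + F3]
  have hb : Orthonormal (Cfsg.hermForm 6 F 2) bs := by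
    have a3' := (hf_eq_zero_symm hF).1 a3
    have b3' := (hf_eq_zero_symm hF).1 b3
    have c3' := hf_eq_one_symm hF c3
    have d3' := (hf_eq_zero_symm hF).1 d3
    have g3' := (hf_eq_zero_symm hF).1 g3
    have key : ∀ i j, hf (bs i) (bs j) = if i = j then 1 else 0 := by
      intro i j
      fin_cases i <;> fin_cases j <;>
        simp [bs, hf_add_left hF, hf_add_right hF, hf_smul_left hF, hf_smul_right hF, hP.iu.2, hP.iv.2, hP.iw.2,
          hP.uv, hP.uw, hP.vw, s12, s13, s23, iF1.2, iF2.2, iF3.2, a1, b1, c1, a1', b1', c1', a2, b2, c2, a2', b2',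
          c2', d2, d2', a3, b3, c3, a3', b3', c3', d3, d3', g3, g3', q2, q3, add_comm ω' ω, q1, h2]
    exact ⟨fun i => by simpa using key i i, fun i j hij => by simpa [hij] using key i j⟩
  -- the last point
  obtain ⟨μ, hμ⟩ : ∃ μ : F, E1 + F1 + ω • E2 + μ • E3 ∈ V := by
    have hI : Iso (E1 + F1 + ω • E2) := by
      refine ⟨fun h0 => ?_, ?_⟩
      · have h1 := congrArg (fun z => hf z E1) h0
        simp [hf_add_left hF, hf_smul_left hF, hf_zero_left hF, hP.iu.2, a1, s12] at h1
      · simp [hf_add_left hF, hf_add_right hF, hf_smul_left hF, hf_smul_right hF, hP.iu.2, hP.iv.2, iF1.2, a1, a1',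
          b1, b1', hP.uv, s12, h2]
    exact hdual E3 m3 _ hI (by simp [hf_add_left hF, hf_smul_left hF, hP.uw, hP.vw, c1])
      (hnz (E := E1) (by simp [hf_add_left hF, hf_smul_left hF, hP.iu.2, a1, s12]) s13)
  obtain ⟨δ', rfl⟩ := e.surjective δ
  obtain ⟨μ', rfl⟩ := e.surjective μ
  -- the eight points
  have hz : e K4.z = 0 := map_zero e
  have ho : e K4.o = 1 := map_one e
  have hE1 : emb e bs [.o, .o, .z, .z, .z, .z] = E1 := by
    funext k; simp [emb, coord, Fin.sum_univ_six, vec, bs, hz, ho, ← hωdef, ← hω'def]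
    linear_combination (E1 k) * q1 + F1 k * two_eq_zero hF
  have hE2 : emb e bs [.z, .z, .o, .o, .z, .z] = E2 := by
    funext k; simp [emb, coord, Fin.sum_univ_six, vec, bs, hz, ho, ← hωdef, ← hω'def]
    linear_combination (E2 k) * q1 + F2 k * two_eq_zero hF
  have hE3 : emb e bs [.z, .z, .z, .z, .o, .o] = E3 := by
    funext k; simp [emb, coord, Fin.sum_univ_six, vec, bs, hz, ho, ← hωdef, ← hω'def]
    linear_combination (E3 k) * q1 + F3 k * two_eq_zero hF
  have hS : emb e bs [.o, .o, .o, .o, .o, .o] = E1 + E2 + E3 := by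
    rw [show ([.o, .o, .o, .o, .o, .o] : List K4)
      = addL (addL [.o, .o, .z, .z, .z, .z] [.z, .z, .o, .o, .z, .z]) [.z, .z, .z, .z, .o, .o] by decide +kernel,
      emb_addL, emb_addL, hE1, hE2, hE3]
  have hF1 : emb e bs [.w, .w2, .z, .z, .z, .z] = F1 := by
    funext k; simp [emb, coord, Fin.sum_univ_six, vec, bs, hz, ← hωdef, ← hω'def]
    linear_combination ω * ω' * E1 k * two_eq_zero hF + F1 k * q1
  have hF2 : emb e bs [.z, .z, .w, .w2, .z, .z] = F2 := by
    funext k; simp [emb, coord, Fin.sum_univ_six, vec, bs, hz, ← hωdef, ← hω'def]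
    linear_combination ω * ω' * E2 k * two_eq_zero hF + F2 k * q1
  have hF3 : emb e bs [.z, .z, .z, .z, .w, .w2] = F3 := by
    funext k; simp [emb, coord, Fin.sum_univ_six, vec, bs, hz, ← hωdef, ← hω'def]
    linear_combination ω * ω' * E3 k * two_eq_zero hF + F3 k * q1
  have hT : emb e bs [.w2, .w, .w, .w, .z, .z] = E1 + F1 + ω • E2 := by
    rw [show ([.w2, .w, .w, .w, .z, .z] : List K4)
      = addL (addL [.o, .o, .z, .z, .z, .z] [.w, .w2, .z, .z, .z, .z]) (smulL 6 .w [.z, .z, .o, .o, .z, .z])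
        by decide +kernel, emb_addL, emb_addL, emb_smulL, hE1, hF1, hE2]
  have height : ∀ p ∈ eight δ' μ', emb e bs p ∈ V := by
    intro p hp
    simp only [eight, List.mem_cons, List.not_mem_nil, or_false] at hp
    rcases hp with rfl | rfl | rfl | rfl | rfl | rfl | rfl | rfl
    · rwa [hE1]
    · rwa [hE2]
    · rwa [hE3]
    · rwa [hS]
    · rwa [hF1]
    · rwa [hF2]
    · rwa [emb_addL, emb_smulL, hF3, hE2]
    · rwa [emb_addL, emb_smulL, hT, hE3]
  have hne : ∀ c : K4, c ≠ .z → e c ≠ 0 := fun c hc h0 => hc ((map_eq_zero_iff e e.injective).1 h0)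
  -- the parameters
  have hgood : δ' = .z ∧ μ' = .w2 := by
    have hc := bad_check
    simp only [badCovered, Bool.and_eq_true, List.all_eq_true, Bool.or_eq_true, decide_eq_true_eq,
      List.any_eq_true] at hc
    have hmem : ∀ c : K4, c ∈ [K4.z, .o, .w, .w2] := fun c => by cases c <;> simp
    refine (hc.2 δ' (hmem _) μ' (hmem _)).resolve_right fun ⟨c, hc', hcd, hcm⟩ => ?_
    have hok := hc.1 c hc'
    obtain ⟨δ'', μ'', st, i, j, k, α, β⟩ := c
    simp only at hcd hcm
    subst hcd hcm
    simp only [badOK] at hok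
    cases hL : sixBuild st (eight δ'' μ'') with
    | none => rw [hL] at hok; simp at hok
    | some L =>
      rw [hL] at hok
      simp only [Bool.and_eq_true, decide_eq_true_eq, List.all_eq_true] at hok
      obtain ⟨⟨⟨⟨⟨hi, hj, hk⟩, hij⟩, hα, hβ⟩, hprop⟩, hk'⟩ := hok
      have hL' : ∀ {n}, n < L.length → emb e bs (L.getD n []) ∈ V := fun {n} hn =>
        sixBuild_mem hF hb hV st _ L height hL _ (by rw [List.getD_eq_getElem _ _ hn]; exact List.getElem_mem _)
      refine hV.no_three _ (hL' hi) _ (hL' hj) ⟨hV.iso _ (hL' hi), hV.iso _ (hL' hj),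
        by rw [emb_hf hF hb, hij]; exact map_zero e, fun c e1 => ?_⟩ _ _ (hne α hα) (hne β hβ)
        (by rw [← emb_smulL, ← emb_smulL, ← emb_addL, ← hk']; exact hL' hk)
      obtain ⟨c', rfl⟩ := e.surjective c
      rw [← emb_smulL] at e1
      have hv := emb_inj hF hb e1
      refine hprop c' (hmem _) ?_
      have hlist : ∀ n, n < L.length → (L.getD n []).length = 6 := by
        have key : ∀ (st : List (ℕ × ℕ)) (L L' : List (List K4)), (∀ p ∈ L, p.length = 6) →
            sixBuild st L = some L' → ∀ p ∈ L', p.length = 6 := by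
          intro st
          induction st with
          | nil => intro L L' h e1; simp only [sixBuild, Option.some.injEq] at e1; exact e1 ▸ h
          | cons q st ih =>
            intro L L' h e1
            obtain ⟨i, j⟩ := q
            rw [sixBuild] at e1
            split at e1
            case isFalse => exact absurd e1 (by simp)
            case isTrue =>
              refine ih _ L' (fun p hp => ?_) e1
              rcases List.mem_append.1 hp with hp | hp
              · exact h p hp
              · rw [List.mem_singleton] at hp; subst hp; simp [tvL]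
        intro n hn
        refine key st _ L (fun p hp => ?_) hL _ (by rw [List.getD_eq_getElem _ _ hn]; exact List.getElem_mem _)
        simp only [eight, List.mem_cons, List.not_mem_nil, or_false] at hp
        rcases hp with rfl | rfl | rfl | rfl | rfl | rfl | rfl | rfl <;> simp [addL]
      refine List.ext_getElem (by rw [hlist j hj]; simp [smulL]) fun n n1 n2 => ?_
      have hn : n < 6 := hlist j hj ▸ n1
      have h3 := congrFun hv ⟨n, hn⟩
      simp only [vec, List.getD_eq_getElem _ _ n1, List.getD_eq_getElem _ _ n2] at h3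
      exact h3
  obtain ⟨rfl, rfl⟩ := hgood
  have hG := sixBuild_mem hF hb hV _ _ goodList height good_build
  obtain ⟨hlen, hrows, hrow⟩ := good_length
  simp only [List.all_eq_true, decide_eq_true_eq] at hrow
  have hget : ∀ i : Fin 126, goodPt i ∈ goodList := fun i => by
    rw [goodPt, List.getD_eq_getElem _ _ (by omega)]; exact List.getElem_mem _
  refine ⟨fun i => emb e bs (goodPt i), fun i => hG _ (hget i), fun i j c h => ?_, fun i j => ?_, fun i j => ?_⟩
  · by_contra hij
    simp only at h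
    obtain ⟨c', rfl⟩ := e.surjective c
    have hc' : c' ≠ .z := by
      rintro rfl
      rw [hz, zero_smul] at h
      exact (hV.iso _ (hG _ (hget j))).1 h
    have hd := good_distinct
    simp only [List.all_eq_true, List.mem_range, Bool.not_eq_true'] at hd
    have hlen6 : ∀ p ∈ goodList, p.length = 6 := by decide +kernel
    have mk : ∀ {a b : Fin 126} (x : K4), emb e bs (goodPt a) = e x • emb e bs (goodPt b) → x ≠ .z →
        eqvL (goodPt a) (goodPt b) = true := by
      intro a b x hx hx0
      rw [← emb_smulL] at hx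
      have hv := emb_inj hF hb hx
      have : goodPt a = smulL 6 x (goodPt b) := by
        refine List.ext_getElem (by rw [hlen6 _ (hget a)]; simp [smulL]) fun n n1 n2 => ?_
        have hn : n < 6 := hlen6 _ (hget a) ▸ n1
        have h3 := congrFun hv ⟨n, hn⟩
        simp only [vec, List.getD_eq_getElem _ _ n1, List.getD_eq_getElem _ _ n2] at h3
        exact h3
      cases x
      · exact absurd rfl hx0
      all_goals simp [eqvL, this]
    rcases Nat.lt_trichotomy i.val j.val with hlt | heq | hgt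
    · exact Bool.false_ne_true ((hd j.val j.2 i.val hlt).symm.trans (mk c' h hc'))
    · exact hij (Fin.ext heq)
    · have h' : emb e bs (goodPt i) = e c'⁻¹ • emb e bs (goodPt j) := by
        rw [h, smul_smul, ← map_mul, inv_mul_cancel₀ hc', map_one, one_smul]
      exact Bool.false_ne_true ((hd i.val i.2 j.val hgt).symm.trans (mk _ h' (inv_ne_zero hc')))
  · rw [emb_hf hF hb]; exact map_eq_zero_iff e e.injective
  · have ht := good_tbl
    simp only [List.all_eq_true] at ht
    have hi : i.val < goodList.length := by omega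
    have hj : j.val < goodList.length := by omega
    have hi' : i.val < goodTblRows.length := by omega
    have hr := hrow _ (List.getElem_mem hi')
    have hj' : j.val < (goodTblRows[i.val]).length := by omega
    have h := ht (goodList[i.val], goodTblRows[i.val]) (by
      rw [List.mem_iff_getElem]
      exact ⟨i.val, by simp only [List.length_zip]; omega, List.getElem_zip⟩) (goodList[j.val], (goodTblRows[i.val])[j.val]) (by
      rw [List.mem_iff_getElem]
      exact ⟨j.val, by simp only [List.length_zip]; omega, List.getElem_zip⟩)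
    obtain ⟨c, hc, e1⟩ := emb_eqvL (e := e) (b := bs) h
    refine ⟨c, hc, ?_⟩
    rw [emb_tvL hF hb] at e1
    have hlt := hr.2 _ (List.getElem_mem hj')
    simp only [goodPt, goodTbl, List.getD_eq_getElem _ _ hi, List.getD_eq_getElem _ _ hj,
      List.getD_eq_getElem _ _ hi', List.getD_eq_getElem _ _ hj', Nat.mod_eq_of_lt hlt]
    exact e1

end Cfsg.Agent.TransCentFi22
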