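/-
Squares in the double cover of PSU(6,2): rank two lifts are squares, and the two lifts of a frame are conjugate.

Main results (namespace `Cfsg.Agent.TransCentFi22.DLocal`):
* `not_isSquare_member` : no conjugate of `d` is a square;
* `pair_isSquare` : for orthogonal `a`, `b` both `s a * s b` and `d * (s a * s b)` are squares;
* `triple_fused` : the two lifts of a frame of a plane are conjugate in the centraliser.
-/
import Cfsg.Agent.Lib.TransCentFi22.Cover

set_option autoImplicit false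

namespace Cfsg.Agent.TransCentFi22

open Cfsg.Agent.Unitary Cfsg.Agent.U62Cover Cfsg.Agent.ThreeTransSU Cfsg.Agent.FischerM22

variable {G : Type*} [Group G] {F : Type*} [Field F] [Fintype F]
  {d : G} {π : ↥(Cen d) →* Cfsg.PSU 6 F 2} {s : (Fin 6 → F) → G}

theorem invol_cancel {x : G} (hx : x * x = 1) (y : G) : x * (x * y) = y := by
  rw [← mul_assoc, hx, one_mul]

namespace DLocal

theorem d_sq (L : DLocal d π s) : d * d = 1 := by rw [← pow_two, ← L.order, pow_orderOf_eq_one]

theorem d_inv (L : DLocal d π s) : d⁻¹ = d := inv_eq_of_mul_eq_one_left L.d_sq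

theorem d_ne (L : DLocal d π s) : d ≠ 1 := fun h => by
  have h1 := L.order
  rw [h, orderOf_one] at h1
  omega

theorem d_mem (_L : DLocal d π s) : d ∈ Cen d := Subgroup.mem_centralizer_singleton_iff.2 rfl

theorem d_comm (_L : DLocal d π s) {x : G} (hx : x ∈ Cen d) : Commute d x :=
  (Subgroup.mem_centralizer_singleton_iff.1 hx).symm

theorem map_d (L : DLocal d π s) : π ⟨d, L.d_mem⟩ = 1 := (L.ker _).2 (Or.inr rfl)

theorem eq_or_eq (L : DLocal d π s) {x y : ↥(Cen d)} (h : π x = π y) :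
    (x : G) = y ∨ (x : G) = d * y := by
  have h1 : π (x * y⁻¹) = 1 := by rw [map_mul, map_inv, h, mul_inv_cancel]
  rcases (L.ker _).1 h1 with h2 | h2
  · exact Or.inl (mul_inv_eq_one.1 h2)
  · exact Or.inr (mul_inv_eq_iff_eq_mul.1 (h2 : (x : G) * (y : G)⁻¹ = d))

theorem exists_elt (L : DLocal d π s) (g : Cfsg.SU 6 F 2) :
    ∃ x : ↥(Cen d), ∀ v, Iso v → (x : G) * s v * (x : G)⁻¹ = s (act g v) := by
  obtain ⟨x, hx⟩ := L.surj (toPSU 6 F g)
  exact ⟨x, L.equiv x g hx⟩

theorem conj_d (L : DLocal d π s) (x : ↥(Cen d)) : (x : G) * d * (x : G)⁻¹ = d := by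
  rw [← (L.d_comm x.2).eq, mul_inv_cancel_right]

theorem conj_s (L : DLocal d π s) {u v : Fin 6 → F} (hu : Iso u) (hv : Iso v) :
    s u * s v * (s u)⁻¹ = s (act (tv L.card u) v) :=
  L.equiv ⟨s u, L.mem u hu⟩ (tv L.card u) (L.image u hu (L.mem u hu)) v hv

theorem s_inv (L : DLocal d π s) {v : Fin 6 → F} (hv : Iso v) : (s v)⁻¹ = s v :=
  inv_eq_of_mul_eq_one_left (L.sq v hv)

theorem commute (L : DLocal d π s) {u v : Fin 6 → F} (hu : Iso u) (hv : Iso v) (h : hf v u = 0) :
    Commute (s u) (s v) := by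
  have h1 := L.conj_s hu hv
  rw [act_tv_of_orth L.card hu.2 h] at h1
  exact mul_inv_eq_iff_eq_mul.1 h1

theorem commute_iff (L : DLocal d π s) {u v : Fin 6 → F} (hu : Iso u) (hv : Iso v) :
    Commute (s u) (s v) ↔ hf u v = 0 := by
  refine ⟨fun h => ?_, fun h => L.commute hu hv ((hf_eq_zero_symm L.card).1 h)⟩
  refine (mk_tv_comm L.card (by norm_num) hu hv).1 ?_
  rw [← L.image u hu (L.mem u hu), ← L.image v hv (L.mem v hv)]
  exact Commute.map (show Commute (⟨s u, L.mem u hu⟩ : ↥(Cen d)) ⟨s v, L.mem v hv⟩ from Subtype.ext h) π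

theorem inj (L : DLocal d π s) {u v : Fin 6 → F} (hu : Iso u) (hv : Iso v)
    (h : s u = s v ∨ s u = d * s v) : ∃ c : F, c ≠ 0 ∧ v = c • u := by
  refine mk_tv_inj L.card (by norm_num) hu hv ?_
  rw [← L.image u hu (L.mem u hu), ← L.image v hv (L.mem v hv)]
  rcases h with h | h
  · exact congrArg π (Subtype.ext h)
  · rw [show (⟨s u, L.mem u hu⟩ : ↥(Cen d)) = ⟨d, L.d_mem⟩ * ⟨s v, L.mem v hv⟩ from Subtype.ext h,
      map_mul, L.map_d, one_mul]

theorem braid (L : DLocal d π s) {u v : Fin 6 → F} (hu : Iso u) (hv : Iso v) (h : hf u v ≠ 0) :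
    s u * s v * s u = s v * s u * s v := by
  have hF := L.card
  have h1 := L.conj_s hu hv
  have h2 := L.conj_s hv hu
  rw [L.s_inv hu] at h1
  rw [L.s_inv hv] at h2
  have e : act (tv hF v) u = hf u v • act (tv hF u) v := by
    rw [act_tv hF hu.2, act_tv hF hv.2, smul_add, smul_smul, hf_symm hF u v,
      show hf u v * hf u v ^ 2 = 1 from mul_sq_self hF h, one_smul, add_comm]
  rw [h1, h2, e, L.smul _ _ (hv.act _) h]

/-- No square is equal to `d`. -/
theorem not_sq (L : DLocal d π s) (y : G) : y * y ≠ d := by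
  intro h
  have hy : y ∈ Cen d := Subgroup.mem_centralizer_singleton_iff.2 (by rw [← h, mul_assoc])
  have h1 : π ⟨y, hy⟩ * π ⟨y, hy⟩ = 1 := by
    rw [← map_mul]
    exact (L.ker _).2 (Or.inr h)
  have hc : π.ker ≤ Subgroup.center ↥(Cen d) := fun x hx => by
    refine Subgroup.mem_center_iff.2 fun z => Subtype.ext ?_
    rcases (L.ker x).1 (MonoidHom.mem_ker.1 hx) with e | e <;>
      simp only [Subgroup.coe_mul, e, mul_one, one_mul]
    exact (L.d_comm z.2).eq.symm
  have hk : ∀ k ∈ π.ker, k * k = 1 := fun x hx => Subtype.ext (by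
    rcases (L.ker x).1 (MonoidHom.mem_ker.1 hx) with e | e <;>
      simp only [Subgroup.coe_mul, e, OneMemClass.coe_one, mul_one, L.d_sq])
  obtain ⟨z, hz, hπz⟩ := exists_involution_lift π L.surj hc hk L.card _ h1
  have hz' : (z : G) * z = 1 := congrArg Subtype.val hz
  rcases L.eq_or_eq hπz.symm with e | e <;> rw [show y = _ from e] at h
  · exact L.d_ne (h ▸ hz')
  · refine L.d_ne ?_
    rw [← h, show d * (z : G) * (d * z) = d * ((z : G) * d) * z by group, ← (L.d_comm z.2).eq,
      ← mul_assoc, L.d_sq, one_mul, hz']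

theorem not_isSquare_member (L : DLocal d π s) {a : G} (ha : a ∈ conjugatesOf d) : ¬ IsSquare a := by
  rintro ⟨y, rfl⟩
  obtain ⟨g, hg⟩ := isConj_iff.1 ha
  refine L.not_sq (g⁻¹ * y * g) ?_
  rw [show g⁻¹ * y * g * (g⁻¹ * y * g) = g⁻¹ * (y * y) * g by group, ← hg]
  group

theorem ss_isSquare (L : DLocal d π s) {a b : Fin 6 → F} (h : OrthPair a b) : IsSquare (s a * s b) := by
  have hF := L.card
  obtain ⟨x, hx⟩ := exists_dual hF h.li ![1, 1]
  have ha : hf x a = 1 := hx 0
  obtain ⟨l, hc⟩ := exists_iso_shift hF h.1.2 (show hf x a ≠ 0 by rw [ha]; exact one_ne_zero)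
  set c := x + l • a with hcdef
  have hca : hf c a ≠ 0 := by
    rw [hcdef, hf_add_left hF, hf_smul_left hF, h.1.2, ha]; simp
  have hcb : hf c b ≠ 0 := by
    rw [hcdef, hf_add_left hF, hf_smul_left hF, h.2.2.1, show hf x b = 1 from hx 1]; simp
  have e1 := L.braid hc h.1 hca
  have e2 := L.braid hc h.2.1 hcb
  have hab := L.commute h.1 h.2.1 ((hf_eq_zero_symm hF).1 h.2.2.1)
  refine ⟨s c * (s a * s c * s b) * s c, ?_⟩
  calc s a * s b = s c * ((s c * s a * s c) * (s c * s b * s c)) * s c := by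
        simp only [mul_assoc, invol_cancel (L.sq c hc), L.sq c hc, mul_one]
    _ = s c * ((s a * s c * s a) * (s b * s c * s b)) * s c := by rw [e1, e2]
    _ = s c * (s a * s c * (s a * s b) * s c * s b) * s c := by simp only [mul_assoc]
    _ = s c * (s a * s c * (s b * s a) * s c * s b) * s c := by rw [hab.eq]
    _ = s c * (s a * s c * s b) * (s a * s c * s b) * s c := by simp only [mul_assoc]
    _ = _ := by simp only [mul_assoc, invol_cancel (L.sq c hc)]
/-- The four points of a frame. -/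
theorem frame_isSquare (L : DLocal d π s) {a b c : Fin 6 → F} (hP : Plane a b c) :
    IsSquare (s a * s b * (s c * s (comb a b c 1 1 1))) := by
  have hF := L.card
  set g := comb a b c 1 1 1 with hg
  have hIg : Iso g := hP.iso_comb hF (Or.inl one_ne_zero)
  obtain ⟨q, hq, qa, qb, qc⟩ := hP.exists_values hF (a := 1) (b := 1) (c := 0) (Or.inl one_ne_zero)
  obtain ⟨r₀, hr₀, ra, rb, rc⟩ := hP.exists_values hF (a := 0) (b := 0) (c := 1) (Or.inr (Or.inr one_ne_zero))
  set r := r₀ + hf q r₀ ^ 2 • a with hr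
  have raa : hf a r₀ = 0 := (hf_eq_zero_symm hF).1 ra
  have hra : hf r a = 0 := by rw [hr, hf_add_left hF, hf_smul_left hF, hP.iu.2, ra]; simp
  have hrb : hf r b = 0 := by rw [hr, hf_add_left hF, hf_smul_left hF, hP.uv, rb]; simp
  have hrc : hf r c = 1 := by rw [hr, hf_add_left hF, hf_smul_left hF, hP.uw, rc]; simp
  have hI : Iso r := by
    refine ⟨fun h0 => ?_, ?_⟩
    · rw [h0, hf_zero_left hF] at hrc
      exact zero_ne_one hrc
    · rw [hr, hf_add_left hF, hf_add_right hF, hf_add_right hF, hf_smul_left hF, hf_smul_left hF,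
        hf_smul_right hF, hf_smul_right hF, hP.iu.2, hr₀.2, ra, raa]; simp
  have hqr : hf q r = 0 := by
    rw [hr, hf_add_right hF, hf_smul_right hF, qa, mul_one, ← pow_mul]
    by_cases h0 : hf q r₀ = 0
    · rw [h0]; simp
    · rw [show (2 * 2) = 3 + 1 from rfl, pow_succ, U62Cover.pow_three hF h0, one_mul, add_self hF]
  have hqg : hf g q = 0 := (hf_eq_zero_symm hF).1 (by
    rw [hg]; simp only [comb, one_smul, hf_add_right hF, qa, qb, qc, add_zero, add_self hF])
  have hrg : hf r g ≠ 0 := by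
    rw [hg]; simp [comb, hf_add_right hF, hra, hrb, hrc]
  have z : ∀ {u v : Fin 6 → F}, Iso u → Iso v → hf v u = 0 → Commute (s u) (s v) := L.commute
  have hh := hP.herm hF
  have hab := z hP.iu hP.iv (hh b (by simp) a (by simp))
  have hgp : ∀ {x y z : F}, hf g (comb a b c x y z) = 0 := fun {x y z} => hP.hf_comb hF _ _ _ _ _ _
  have hag : Commute (s a) (s g) := z hP.iu hIg (by simpa [comb] using hgp (x := 1) (y := 0) (z := 0))
  have hbg : Commute (s b) (s g) := z hP.iv hIg (by simpa [comb] using hgp (x := 0) (y := 1) (z := 0))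
  have hcg : Commute (s c) (s g) := z hP.iw hIg (by simpa [comb] using hgp (x := 0) (y := 0) (z := 1))
  have hsym := fun {u v : Fin 6 → F} => (hf_eq_zero_symm hF (x := u) (y := v)).1
  set y1 := s a * s q * s b with hy1
  set y2 := s c * s r * s g with hy2
  have hq_cr : Commute (s q) (s c) ∧ Commute (s q) (s r) ∧ Commute (s q) (s g) :=
    ⟨z hq hP.iw (hsym qc), z hq hI (hsym hqr), z hq hIg hqg⟩
  have hcomm : Commute y1 y2 := by
    have h1 : Commute (s a) y2 := ((z hP.iu hP.iw (hh c (by simp) a (by simp))).mul_right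
      (z hP.iu hI hra)).mul_right hag
    have h2 : Commute (s q) y2 := (hq_cr.1.mul_right hq_cr.2.1).mul_right hq_cr.2.2
    have h3 : Commute (s b) y2 := ((z hP.iv hP.iw (hh c (by simp) b (by simp))).mul_right
      (z hP.iv hI hrb)).mul_right hbg
    exact (h1.mul_left h2).mul_left h3
  have key : ∀ {u v w : Fin 6 → F}, Iso u → Iso v → Iso w → hf v u ≠ 0 → hf v w ≠ 0 →
      Commute (s u) (s w) → (s u * s v * s w) * (s u * s v * s w) = s v * (s u * s w) * s v := by
    intro u v w hu hv hw h1 h2 hc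
    calc (s u * s v * s w) * (s u * s v * s w) = s u * s v * (s w * s u) * s v * s w := by
          simp only [mul_assoc]
      _ = s u * s v * (s u * s w) * s v * s w := by rw [hc.eq]
      _ = (s u * s v * s u) * (s w * s v * s w) := by simp only [mul_assoc]
      _ = (s v * s u * s v) * (s v * s w * s v) := by rw [L.braid hv hu h1, L.braid hv hw h2]
      _ = _ := by simp only [mul_assoc]; rw [← mul_assoc (s v) (s v), L.sq v hv, one_mul]
  have k1 : y1 * y1 = s q * (s a * s b) * s q := key hP.iu hq hP.iv (by rw [qa]; exact one_ne_zero) (by rw [qb]; exact one_ne_zero) hab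
  have k2 : y2 * y2 = s r * (s c * s g) * s r := key hP.iw hI hIg (by rw [hrc]; exact one_ne_zero) hrg hcg
  have hqr' : Commute (s q) (s r) := hq_cr.2.1
  have hqcg : Commute (s q) (s c * s g) := hq_cr.1.mul_right hq_cr.2.2
  have hrab : Commute (s r) (s a * s b) := (z hI hP.iu (hsym hra)).mul_right (z hI hP.iv (hsym hrb))
  have h2 : (s q * s r) * (s q * s r) = 1 := by
    rw [hqr'.symm.mul_mul_mul_comm, L.sq q hq, L.sq r hI, one_mul]
  have e : (y1 * y2) * (y1 * y2) = (s q * s r) * (s a * s b * (s c * s g)) * (s q * s r) := by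
    rw [hcomm.symm.mul_mul_mul_comm, k1, k2,
      show s q * (s a * s b) * s q * (s r * (s c * s g) * s r)
        = s q * (s a * s b) * (s q * s r) * (s c * s g) * s r by simp only [mul_assoc],
      show s q * (s a * s b) * (s q * s r) * (s c * s g) * s r
        = s q * (s a * s b) * (s r * s q) * (s c * s g) * s r by rw [hqr'.eq],
      show s q * (s a * s b) * (s r * s q) * (s c * s g) * s r
        = s q * ((s a * s b) * s r) * (s q * (s c * s g)) * s r by simp only [mul_assoc],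
      ← hrab.eq, hqcg.eq]
    simp only [mul_assoc]
  refine ⟨(s q * s r) * (y1 * y2) * (s q * s r), ?_⟩
  generalize hA : s q * s r = A at h2 e ⊢
  generalize hY : y1 * y2 = Y at e ⊢
  rw [show A * Y * A * (A * Y * A) = A * (Y * ((A * A) * Y)) * A by simp only [mul_assoc], h2, one_mul, e]
  simp only [mul_assoc, invol_cancel h2, h2, mul_one]

/-- An oval with its third point rescaled, and its split into a frame and a pair. -/
theorem oval_split (L : DLocal d π s) : ∃ (u v w e f : Fin 6 → F), Plane u v w ∧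
    Plane (comb u v w 1 1 1) e f ∧ s u * s v * s w * s (comb u v w 1 1 1) * s e * s f = d := by
  have hF := L.card
  obtain ⟨ω, t, u, v, w, hω, ht, hP, hprod⟩ := L.oval
  have hP' := hP.smul_third hF ht
  refine ⟨u, v, t • w, comb u v (t • w) 1 ω (ω ^ 2), comb u v (t • w) 1 (ω ^ 2) ω, hP',
    hP'.of_comb hF ?_, ?_⟩
  · rw [show (1 : F) * (ω * ω - ω ^ 2 * ω ^ 2) - 1 * (1 * ω - ω ^ 2 * 1) + 1 * (1 * ω ^ 2 - ω * 1)
      = 1 by linear_combination (1 - ω - ω ^ 2) * hω - ω * two_eq_zero hF]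
    exact one_ne_zero
  · simp only [ovalPts, List.map_cons, List.map_nil, List.prod_cons, List.prod_nil, mul_one] at hprod
    simp only [comb, one_smul, smul_smul, one_mul, L.smul w t hP.iw ht]
    simpa only [mul_assoc] using hprod

theorem pair_isSquare (L : DLocal d π s) {a b : Fin 6 → F} (h : OrthPair a b) :
    IsSquare (s a * s b) ∧ IsSquare (d * (s a * s b)) := by
  refine ⟨L.ss_isSquare h, ?_⟩
  obtain ⟨u, v, w, e, f, hP, hQ, hprod⟩ := L.oval_split
  have hef : OrthPair e f := (hQ.rotate L.card).orthPair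
  obtain ⟨y, hy⟩ := L.frame_isSquare hP
  have h4 : d * (s e * s f) = y * y := by
    have h' : s u * s v * (s w * s (comb u v w 1 1 1)) * (s e * s f) = d := by
      rw [← hprod]; simp only [mul_assoc]
    have hsq : (s e * s f) * (s e * s f) = 1 := by
      rw [(L.commute hef.1 hef.2.1 ((hf_eq_zero_symm L.card).1 hef.2.2.1)).symm.mul_mul_mul_comm,
        L.sq _ hef.1, L.sq _ hef.2.1, one_mul]
    rw [← hy, ← h', mul_assoc, hsq, mul_one]
  obtain ⟨g, hg1, hg2⟩ := exists_act_two L.card (by norm_num) hef h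
  obtain ⟨x, hx⟩ := L.exists_elt g
  refine ⟨(x : G) * y * (x : G)⁻¹, ?_⟩
  rw [show (x : G) * y * (x : G)⁻¹ * ((x : G) * y * (x : G)⁻¹) = (x : G) * (y * y) * (x : G)⁻¹ by group,
    ← h4, show (x : G) * (d * (s e * s f)) * (x : G)⁻¹
      = ((x : G) * d * (x : G)⁻¹) * (((x : G) * s e * (x : G)⁻¹) * ((x : G) * s f * (x : G)⁻¹)) by group,
    L.conj_d, hx e hef.1, hx f hef.2.1, hg1, hg2]

/-- Conjugation carries the lift of one frame to that of another. -/
theorem exists_triple_conj (L : DLocal d π s) {a b c u v w : Fin 6 → F} (hA : Plane a b c)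
    (hP : Plane u v w) :
    ∃ x : ↥(Cen d), (x : G) * (s a * s b * s c) * (x : G)⁻¹ = s u * s v * s w := by
  obtain ⟨g, k, hk, h1, h2, h3⟩ := exists_act_plane L.card hA hP
  obtain ⟨x, hx⟩ := L.exists_elt g
  refine ⟨x, ?_⟩
  rw [show (x : G) * (s a * s b * s c) * (x : G)⁻¹
    = ((x : G) * s a * (x : G)⁻¹) * ((x : G) * s b * (x : G)⁻¹) * ((x : G) * s c * (x : G)⁻¹) by group,
    hx a hA.iu, hx b hA.iv, hx c hA.iw, h1, h2, h3, L.smul w k hP.iw hk]

/-- The two lifts of a frame are conjugate in the centraliser of `d`. -/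
theorem triple_fused (L : DLocal d π s) {a b c : Fin 6 → F} (hA : Plane a b c) :
    ∃ x : ↥(Cen d), (x : G) * (s a * s b * s c) * (x : G)⁻¹ = d * (s a * s b * s c) := by
  have hF := L.card
  obtain ⟨u, v, w, e, f, hP, hQ, hprod⟩ := L.oval_split
  set g := comb u v w 1 1 1 with hg
  have hab := L.commute hP.iu hP.iv ((hf_eq_zero_symm hF).1 hP.uv)
  have hac := L.commute hP.iu hP.iw ((hf_eq_zero_symm hF).1 hP.uw)
  have hbc := L.commute hP.iv hP.iw ((hf_eq_zero_symm hF).1 hP.vw)
  have hsq : (s u * s v * s w) * (s u * s v * s w) = 1 := by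
    rw [(hac.mul_left hbc).symm.mul_mul_mul_comm, hab.symm.mul_mul_mul_comm, L.sq u hP.iu, L.sq v hP.iv,
      L.sq w hP.iw, one_mul, one_mul]
  have h2 : s g * s e * s f = d * (s u * s v * s w) := by
    have hc : Commute d (s u * s v * s w) :=
      L.d_comm (mul_mem (mul_mem (L.mem u hP.iu) (L.mem v hP.iv)) (L.mem w hP.iw))
    rw [hc.eq, ← hprod, show s u * s v * s w * (s u * s v * s w * s g * s e * s f)
      = (s u * s v * s w * (s u * s v * s w)) * (s g * s e * s f) by simp only [mul_assoc], hsq, one_mul]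
  obtain ⟨x, hx⟩ := L.exists_triple_conj hA hP
  obtain ⟨y, hy⟩ := L.exists_triple_conj hA hQ
  rw [h2, ← hx] at hy
  refine ⟨x⁻¹ * y, ?_⟩
  rw [show ((x⁻¹ * y : ↥(Cen d)) : G) * (s a * s b * s c) * ((x⁻¹ * y : ↥(Cen d)) : G)⁻¹
    = (x : G)⁻¹ * ((y : G) * (s a * s b * s c) * (y : G)⁻¹) * (x : G) by
      simp only [Subgroup.coe_mul, Subgroup.coe_inv]; group, hy]
  rw [show (x : G)⁻¹ * (d * ((x : G) * (s a * s b * s c) * (x : G)⁻¹)) * (x : G)
    = ((x : G)⁻¹ * d * (x : G)) * (s a * s b * s c) by group,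
    show (x : G)⁻¹ * d * (x : G) = d by rw [mul_assoc, (L.d_comm x.2).eq, inv_mul_cancel_left]]

end DLocal

end Cfsg.Agent.TransCentFi22
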